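import Cfsg.Agent.FusSys.ProdS.Loc
import Cfsg.Agent.Coprime.Basic

/-!
Conjugation in a local group read on `N_S(U)`; conjugacy of elements of order prime to `p` which
agree modulo a normal `p`-subgroup.
-/

set_option autoImplicit false
set_option linter.unusedSectionVars false
set_option linter.style.haveILetI false
set_option linter.unusedVariables false

namespace Cfsg.Agent.FusSys.ProdS

open Cfsg Cfsg.FusionSystem Cfsg.Agent.FusSys
open scoped Pointwise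

universe u

variable {Ω : Type u} [Group Ω] {S T : Subgroup Ω} {F : FusionSystem S} {E : FusionSystem T}
variable {P Q U : Subgroup Ω} {f g : Ω → Ω} {p : ℕ}

/-- Elements of order prime to `p` which agree modulo a `p`-subgroup normalized by one of them are
conjugate by an element of it. -/
theorem exists_conj_coprime {G : Type*} [Group G] [Finite G] [Fact p.Prime] {N : Subgroup G}
    (hN : IsPGroup p N) {x y : G} (hx : x ∈ Subgroup.normalizer (N : Set G))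
    (hxy : y * x⁻¹ ∈ N) (hxc : (orderOf x).Coprime p) (hyc : (orderOf y).Coprime p) :
    ∃ n ∈ N, n * x * n⁻¹ = y := by
  have hy : y ∈ Subgroup.normalizer (N : Set G) := by
    have h := Subgroup.mul_mem _ (Subgroup.le_normalizer hxy) hx
    rwa [inv_mul_cancel_right] at h
  obtain ⟨Γ, hΓ⟩ : ∃ Γ, Γ = Subgroup.normalizer (N : Set G) := ⟨_, rfl⟩
  haveI : (N.subgroupOf Γ).Normal := hΓ ▸ Subgroup.normal_subgroupOf_of_le_normalizer le_rfl
  let π := QuotientGroup.mk' (N.subgroupOf Γ)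
  have hπ : π ⟨y, hΓ ▸ hy⟩ = π ⟨x, hΓ ▸ hx⟩ := by
    rw [← mul_inv_eq_one, ← map_inv, ← map_mul]
    exact (QuotientGroup.eq_one_iff _).2 (Subgroup.mem_subgroupOf.2 hxy)
  have hpow : ∀ (a : G) (ha : a ∈ Γ), (orderOf a).Coprime p → π ⟨a, ha⟩ = 1 → a = 1 := by
    intro a ha hac h1
    have h2 : a ∈ N := Subgroup.mem_subgroupOf.1 ((QuotientGroup.eq_one_iff _).1 h1)
    obtain ⟨k, hk⟩ := hN ⟨a, h2⟩
    exact AM.eq_one_of_coprime (k := k) (congrArg Subtype.val hk) hac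
  have hone : ∀ (a b : G) (ha : a ∈ Γ) (hb : b ∈ Γ), (orderOf a).Coprime p →
      π ⟨a, ha⟩ = π ⟨b, hb⟩ → orderOf a ∣ orderOf b := by
    intro a b ha hb hac h1
    refine orderOf_dvd_of_pow_eq_one (hpow _ (Γ.pow_mem ha _) ?_ ?_)
    · exact Nat.Coprime.coprime_dvd_left (orderOf_pow_dvd _) hac
    · rw [show (⟨a ^ orderOf b, Γ.pow_mem ha _⟩ : Γ) = ⟨a, ha⟩ ^ orderOf b from rfl, map_pow, h1,
        ← map_pow, show (⟨b, hb⟩ : Γ) ^ orderOf b = 1 from Subtype.ext (pow_orderOf_eq_one b),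
        map_one]
  have hord : orderOf y = orderOf x := Nat.dvd_antisymm
    (hone y x (hΓ ▸ hy) (hΓ ▸ hx) hyc hπ) (hone x y (hΓ ▸ hx) (hΓ ▸ hy) hxc hπ.symm)
  obtain ⟨k, hk, hkA⟩ := Cfsg.Agent.Coprime.exists_conj_eq (A := Subgroup.zpowers x) (K := N)
    (B := Subgroup.zpowers y) (Subgroup.zpowers_le.2 hx) (by
      obtain ⟨n, hn⟩ := IsPGroup.iff_card.1 hN
      rw [Nat.card_zpowers, hn]
      exact hxc.pow_right n)
    (Or.inl (Group.isSolvable_of_comm fun a b => mul_comm' a b))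
    (Subgroup.zpowers_le.2 (by
      have h := Subgroup.mul_mem_sup hxy (Subgroup.mem_zpowers x)
      rwa [inv_mul_cancel_right] at h))
    (by rw [Nat.card_zpowers, Nat.card_zpowers, hord])
  have hmem : k * y * k⁻¹ ∈ Subgroup.zpowers x := by
    have h := Subgroup.smul_mem_pointwise_smul y (MulAut.conj k) _ (Subgroup.mem_zpowers y)
    rw [hkA] at h
    exact h
  obtain ⟨i, hi⟩ := hmem
  have hi' : x ^ i = k * y * k⁻¹ := hi
  have hkΓ : k ∈ Γ := hΓ ▸ Subgroup.le_normalizer hk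
  have h1 : π ⟨x ^ i * x⁻¹, Γ.mul_mem (Γ.zpow_mem (hΓ ▸ hx) i) (Γ.inv_mem (hΓ ▸ hx))⟩ = 1 := by
    have h2 : π ⟨k, hkΓ⟩ = 1 := (QuotientGroup.eq_one_iff _).2 (Subgroup.mem_subgroupOf.2 hk)
    have e : (⟨x ^ i * x⁻¹, Γ.mul_mem (Γ.zpow_mem (hΓ ▸ hx) i) (Γ.inv_mem (hΓ ▸ hx))⟩ : Γ) =
        ⟨k, hkΓ⟩ * ⟨y, hΓ ▸ hy⟩ * (⟨k, hkΓ⟩)⁻¹ * (⟨x, hΓ ▸ hx⟩)⁻¹ := Subtype.ext (by
      show x ^ i * x⁻¹ = k * y * k⁻¹ * x⁻¹
      rw [hi'])
    rw [e, map_mul, map_mul, map_mul, map_inv, map_inv, h2, hπ]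
    group
  have h3 : x ^ i * x⁻¹ = 1 := hpow _ _ (by
    refine Nat.Coprime.coprime_dvd_left (orderOf_dvd_of_pow_eq_one ?_) hxc
    rw [(Commute.zpow_self x i).inv_right.mul_pow, inv_pow, ← zpow_natCast (x ^ i), ← zpow_mul,
      mul_comm i, zpow_mul, zpow_natCast, pow_orderOf_eq_one, one_zpow, inv_one, one_mul]) h1
  refine ⟨k⁻¹, N.inv_mem hk, ?_⟩
  rw [inv_inv, ← mul_inv_eq_one.1 h3, hi']
  group
where
  mul_comm' {G : Type _} [Group G] {x : G} (a b : Subgroup.zpowers x) : a * b = b * a := by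
    obtain ⟨i, hi⟩ := a.2
    obtain ⟨j, hj⟩ := b.2
    exact Subtype.ext (by
      show (a : G) * b = b * a
      rw [← hi, ← hj]
      exact (Commute.zpow_zpow_self x i j).eq)

namespace Loc

variable (l : Loc p F E U)

theorem e_one : l.e 1 = 1 := by
  have h := l.e_mul (x := 1) (y := 1) (Subgroup.one_mem _) (Subgroup.one_mem _)
  rw [one_mul] at h
  exact left_eq_mul.1 h

theorem e_inv {x : Ω} (hx : x ∈ normalizerIn S U) : l.e x⁻¹ = (l.e x)⁻¹ := by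
  refine eq_inv_of_mul_eq_one_right ?_
  rw [← l.e_mul hx (Subgroup.inv_mem _ hx), mul_inv_cancel, l.e_one]

theorem e_conj {x y : Ω} (hx : x ∈ normalizerIn S U) (hy : y ∈ normalizerIn S U) :
    l.e (x * y * x⁻¹) = l.e x * l.e y * (l.e x)⁻¹ := by
  rw [l.e_mul (Subgroup.mul_mem _ hx hy) (Subgroup.inv_mem _ hx), l.e_mul hx hy, l.e_inv hx]

theorem e_mem {x : Ω} (hx : x ∈ normalizerIn S U) : l.e x ∈ l.Wim := l.mem_Wim.2 ⟨x, hx, rfl⟩

/-- `g` carries `x` to some element of `N_S(U)`. -/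
def Moves (l : Loc p F E U) (g : l.G) (x : Ω) : Prop :=
  ∃ y ∈ normalizerIn S U, l.e y = g * l.e x * g⁻¹

open Classical in
/-- The element of `N_S(U)` to which `g` carries `x`. -/
noncomputable def cj (l : Loc p F E U) (g : l.G) (x : Ω) : Ω :=
  if h : l.Moves g x then h.choose else x

theorem cj_mem {g : l.G} {x : Ω} (h : l.Moves g x) : l.cj g x ∈ normalizerIn S U := by
  rw [cj, dif_pos h]
  exact h.choose_spec.1

theorem e_cj {g : l.G} {x : Ω} (h : l.Moves g x) : l.e (l.cj g x) = g * l.e x * g⁻¹ := by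
  rw [cj, dif_pos h]
  exact h.choose_spec.2

theorem cj_eq {g : l.G} {x y : Ω} (hy : y ∈ normalizerIn S U) (he : l.e y = g * l.e x * g⁻¹) :
    l.cj g x = y :=
  l.e_inj (l.cj_mem ⟨y, hy, he⟩) hy (by rw [l.e_cj ⟨y, hy, he⟩, he])

theorem moves_of_range {g : l.G} {x : Ω} (h : g * l.e x * g⁻¹ ∈ l.Wim) : l.Moves g x :=
  l.mem_Wim.1 h

theorem moves_wim {g : l.G} {x : Ω} (h : l.Moves g x) : g * l.e x * g⁻¹ ∈ l.Wim :=
  l.mem_Wim.2 h

theorem cj_one {x : Ω} (hx : x ∈ normalizerIn S U) : l.cj 1 x = x := l.cj_eq hx (by group)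

theorem cj_mul {a b : l.G} {x : Ω} (hb : l.Moves b x) (ha : l.Moves a (l.cj b x)) :
    l.Moves (a * b) x ∧ l.cj (a * b) x = l.cj a (l.cj b x) := by
  have he : l.e (l.cj a (l.cj b x)) = a * b * l.e x * (a * b)⁻¹ := by
    rw [l.e_cj ha, l.e_cj hb]
    group
  exact ⟨⟨_, l.cj_mem ha, he⟩, l.cj_eq (l.cj_mem ha) he⟩

theorem cj_inv_cj {g : l.G} {x : Ω} (hx : x ∈ normalizerIn S U) (h : l.Moves g x) :
    l.Moves g⁻¹ (l.cj g x) ∧ l.cj g⁻¹ (l.cj g x) = x := by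
  have he : l.e x = g⁻¹ * l.e (l.cj g x) * g⁻¹⁻¹ := by rw [l.e_cj h]; group
  exact ⟨⟨x, hx, he⟩, l.cj_eq hx he⟩

theorem cj_e {w x : Ω} (hw : w ∈ normalizerIn S U) (hx : x ∈ normalizerIn S U) :
    l.Moves (l.e w) x ∧ l.cj (l.e w) x = w * x * w⁻¹ :=
  have hm : w * x * w⁻¹ ∈ normalizerIn S U :=
    Subgroup.mul_mem _ (Subgroup.mul_mem _ hw hx) (Subgroup.inv_mem _ hw)
  ⟨⟨_, hm, l.e_conj hw hx⟩, l.cj_eq hm (l.e_conj hw hx)⟩

/-- Conjugating an element by `w` conjugates its action by `w`. -/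
theorem cj_conj {w x : Ω} {g : l.G} (hw : w ∈ normalizerIn S U) (hx : x ∈ normalizerIn S U)
    (h : l.Moves g x) : l.Moves (l.e w * g * (l.e w)⁻¹) (w * x * w⁻¹) ∧
      l.cj (l.e w * g * (l.e w)⁻¹) (w * x * w⁻¹) = w * l.cj g x * w⁻¹ := by
  have hm : w * l.cj g x * w⁻¹ ∈ normalizerIn S U :=
    Subgroup.mul_mem _ (Subgroup.mul_mem _ hw (l.cj_mem h)) (Subgroup.inv_mem _ hw)
  have he : l.e (w * l.cj g x * w⁻¹) =
      l.e w * g * (l.e w)⁻¹ * l.e (w * x * w⁻¹) * (l.e w * g * (l.e w)⁻¹)⁻¹ := by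
    rw [l.e_conj hw (l.cj_mem h), l.e_conj hw hx, l.e_cj h]
    group
  exact ⟨⟨_, hm, he⟩, l.cj_eq hm he⟩

theorem mor_cj {g : l.G} (hP : P ≤ normalizerIn S U) (h : ∀ x ∈ P, l.Moves g x) :
    Mor F P (l.cj g) := by
  obtain ⟨f, hf, hfx⟩ := l.mor g P hP fun x hx => l.moves_wim (h x hx)
  exact hf.congr fun x hx => l.cj_eq (hfx x hx).1 (hfx x hx).2

/-- The automorphism of a stable subgroup induced by an element. -/
theorem exists_aut_cj [Finite S] {g : l.G} (hP : P ≤ normalizerIn S U)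
    (h : ∀ x ∈ P, l.Moves g x) (hst : ∀ x ∈ P, l.cj g x ∈ P) :
    ∃ α ∈ F.autGroup P, (∀ x ∈ P, apl α x = l.cj g x) ∧ orderOf α ∣ orderOf g := by
  have hPS : P ≤ S := hP.trans inf_le_left
  haveI := finite_of_le hPS
  obtain ⟨α, hα, hαx⟩ := (AM.iso_of_stable (l.mor_cj hP h) hst).exists_mem_autGroup
  refine ⟨α, hα, hαx, orderOf_dvd_of_pow_eq_one ?_⟩
  have hk : ∀ k : ℕ, ∀ x ∈ P, l.Moves (g ^ k) x ∧ apl (α ^ k) x = l.cj (g ^ k) x := by
    intro k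
    induction k with
    | zero =>
      intro x hx
      rw [pow_zero, pow_zero, apl_one hx, l.cj_one (hP hx)]
      exact ⟨⟨x, hP hx, by group⟩, rfl⟩
    | succ k ih =>
      intro x hx
      obtain ⟨hm, he⟩ := ih x hx
      have hy : l.cj (g ^ k) x ∈ P := he ▸ apl_mem _ hx
      obtain ⟨h1, h2⟩ := l.cj_mul hm (h _ hy)
      rw [pow_succ', pow_succ', apl_mul _ _ hx, he, hαx _ hy]
      exact ⟨h1, h2.symm⟩
  refine apl_ext fun x hx => ?_
  rw [(hk (orderOf g) x hx).2, pow_orderOf_eq_one, l.cj_one (hP hx), apl_one hx]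

theorem U_le (hUS : U ≤ S) : U ≤ normalizerIn S U := le_normalizerIn hUS

theorem moves_U (hUS : U ≤ S) (g : l.G) {x : Ω} (hx : x ∈ U) : l.Moves g x ∧ l.cj g x ∈ U := by
  obtain ⟨y, hy, he⟩ := l.stab g x hx
  exact ⟨⟨y, U_le hUS hy, he⟩, (l.cj_eq (U_le hUS hy) he).symm ▸ hy⟩

/-- The action on `U`. -/
theorem exists_resU [Finite S] (hUS : U ≤ S) :
    ∃ π : l.G →* MulAut U, ∀ (g : l.G) (x : Ω), x ∈ U → apl (π g) x = l.cj g x := by
  have h : ∀ g : l.G, ∃ α : MulAut U, ∀ x ∈ U, apl α x = l.cj g x := fun g => by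
    obtain ⟨α, -, hα, -⟩ := l.exists_aut_cj (g := g) (U_le hUS) (fun x hx => (l.moves_U hUS g hx).1)
      fun x hx => (l.moves_U hUS g hx).2
    exact ⟨α, hα⟩
  choose π hπ using h
  refine ⟨MonoidHom.mk' π fun a b => apl_ext fun x hx => ?_, fun g x hx => hπ g x hx⟩
  rw [hπ _ x hx, apl_mul _ _ hx, hπ b x hx, hπ a _ (l.moves_U hUS b hx).2]
  exact (l.cj_mul (l.moves_U hUS b hx).1 (l.moves_U hUS a (l.moves_U hUS b hx).2).1).2

end Loc

end Cfsg.Agent.FusSys.ProdS
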