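import Cfsg.Agent.FusSys.PPowerNormal
import Cfsg.Agent.FusSys.PIndexUnique
import Cfsg.Agent.FusSys.AMap.Basic
import Cfsg.Agent.FusSys.ProdS.Act
import Cfsg.Agent.FusSys.Terminating

/-!
Saturated subsystems of `p`-power index: transitivity, restriction, equality of hyperfocal
subgroups, and extension of automorphisms of order prime to `p` from the residual.
-/

set_option autoImplicit false
set_option linter.unusedSectionVars false
set_option linter.style.haveILetI false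
set_option linter.unusedVariables false

namespace Cfsg.Agent.FusSys.ProdS

open Cfsg Cfsg.FusionSystem Cfsg.Agent.FusSys

universe u

variable {Ω : Type u} [Group Ω] {S T H W : Subgroup Ω} {F : FusionSystem S} {Y : FusionSystem T}
variable {X : FusionSystem H} {P Q R U : Subgroup Ω} {f g : Ω → Ω} {p : ℕ}

theorem autGroup_le_of_sub (h : Y.IsSubsystemOf F) : Y.autGroup P ≤ F.autGroup P :=
  Subgroup.closure_mono fun _ ha => h P ha

theorem mor_of_sub (h : Y.IsSubsystemOf F) (hf : Mor Y P f) : Mor F P f :=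
  isSubsystemOf_iff_mor.1 h P f hf

/-- An automorphism of order prime to `p` in the residual of the automorphism group. -/
theorem residual_of_coprime [Finite P] {α : MulAut P} (hα : α ∈ F.autGroup P)
    (hco : (orderOf α).Coprime p) :
    α ∈ (pResidual p (F.autGroup P)).map (F.autGroup P).subtype :=
  Subgroup.mem_map.2 ⟨⟨α, hα⟩, Cfsg.Agent.Fusion.mem_pResidual_of_coprime
    (by rwa [← Subgroup.orderOf_coe]), rfl⟩

theorem coprime_diff_mem (hP : P ≤ S) [Finite S] {α : MulAut P} (hα : α ∈ F.autGroup P)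
    (hco : (orderOf α).Coprime p) {x : Ω} (hx : x ∈ P) :
    x⁻¹ * apl α x ∈ F.hyperfocalSubgroup p := by
  haveI := finite_of_le hP
  exact residual_quot_mem_hyperfocal hP (residual_of_coprime hα hco) hx

theorem residual_le_iff (hP : P ≤ S) [Finite S] {K : Subgroup (MulAut P)}
    (h : ∀ α ∈ F.autGroup P, (orderOf α).Coprime p → α ∈ K) :
    (pResidual p (F.autGroup P)).map (F.autGroup P).subtype ≤ K := by
  haveI := finite_of_le hP
  rw [pResidual, MonoidHom.map_closure, Subgroup.closure_le]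
  rintro _ ⟨⟨α, hα⟩, hc, rfl⟩
  exact h α hα (by rw [Set.mem_setOf_eq, ← Subgroup.orderOf_coe] at hc; exact hc)

theorem coprime_mem_of_index [Finite S] (hi : Y.HasPPowerIndexIn F p) (hP : P ≤ T) (hT : T ≤ S)
    {α : MulAut P} (hα : α ∈ F.autGroup P) (hco : (orderOf α).Coprime p) : α ∈ Y.autGroup P := by
  haveI := finite_of_le (hP.trans hT)
  exact hi.2.2 P hP (residual_of_coprime hα hco)

/-- The restriction of an automorphism to a stable subgroup. -/
theorem exists_restrict [Finite S] (hQP : Q ≤ P) (hP : P ≤ S) {α : MulAut P}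
    (hα : α ∈ F.autGroup P) (hst : ∀ x ∈ Q, apl α x ∈ Q) :
    ∃ a ∈ F.autGroup Q, orderOf a ∣ orderOf α ∧ ∀ x ∈ Q, apl a x = apl α x := by
  haveI := finite_of_le hP
  have hs : α ∈ AM.stab P Q := AM.mem_stab.2 fun x _ hx => hst x hx
  refine ⟨AM.resHom hQP ⟨α, hs⟩, AM.resHom_mem hQP hP hα, ?_, fun x hx => AM.resHom_apl hQP _ hx⟩
  exact (orderOf_map_dvd _ _).trans (by rw [Subgroup.orderOf_mk])

/-- A saturated system lies in one containing its automorphisms of order prime to `p` of the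
centric radical fully normalized subgroups. -/
theorem mor_of_generators [Finite T] [Fact p.Prime] (hT : IsPGroup p T) (hY : Y.IsSaturated p)
    (hTS : T ≤ S)
    (hgen : ∀ R ≤ T, (R = T ∨ Y.IsEssential p R) → ∀ α ∈ Y.autGroup R, (orderOf α).Coprime p →
      α ∈ F.autGroup R) :
    ∀ P f, Mor Y P f → Mor F P f := by
  let M : Subgroup Ω → (Ω → Ω) → Prop := fun P f =>
    P ≤ T ∧ (∀ x ∈ P, f x ∈ T) ∧ Mor F P f
  have hM : SubRel Y T M :=
    { congr := fun h he => ⟨h.1, fun x hx => by rw [he x hx]; exact h.2.1 x hx, h.2.2.congr he⟩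
      le := fun h => ⟨h.1, h.2.1⟩
      conj := fun hP hs => ⟨mor_conj hP hs, hP,
        fun x hx => mul_mem (mul_mem hs (hP hx)) (Subgroup.inv_mem _ hs),
        mor_conj (hP.trans hTS) (hTS hs)⟩
      comp := fun _ h _ h' hfQ => ⟨h.1, fun x hx => h'.2.1 _ (hfQ x hx), h.2.2.comp h'.2.2 hfQ⟩
      inv := fun {P Q f g} hf h hg hgf => ⟨hg.left_le, fun x hx => hg.1.mem_S hx, by
        obtain ⟨r, hr, hrf, -⟩ := (show Iso F P Q f from ⟨h.2.2, hf.2⟩).symm
        refine hr.1.congr fun y hy => ?_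
        obtain ⟨x, hx, rfl⟩ := hf.exists_eq hy
        rw [hrf x hx, hgf x hx]⟩ }
  intro P f hf
  refine (alperin_induction hT hY hM (fun R hR α hα => ?_) P f hf).2.2
  have hRT : R ≤ T := hR.elim (fun e => e.le) fun e => e.1.1
  have hRS : R ≤ S := hRT.trans hTS
  refine ⟨hRT, fun x hx => hRT (apl_mem α hx), ?_⟩
  obtain ⟨-, V, hV⟩ : Y.IsFullyAutomized p R := by
    rcases hR with rfl | hR
    · exact top_fullyAutomized hT hY
    · exact fullyAutomized_of_fullyNormalized hT hY hR.2.1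
  haveI := finite_of_le (S := T) hRT
  haveI : Finite (MulAut R) := Finite.of_injective _ MulEquiv.toEquiv_injective
  have hle : Y.autGroup R ≤ F.autGroup R := by
    intro β hβ
    have h1 : (⟨β, hβ⟩ : Y.autGroup R) ∈ (F.autGroup R).subgroupOf (Y.autGroup R) := by
      refine (show (⊤ : Subgroup (Y.autGroup R)) ≤ _ from ?_) (Subgroup.mem_top _)
      rw [← Cfsg.Agent.Fusion.sylow_sup_pResidual V, hV]
      refine sup_le (fun γ hγ => ?_) ((Subgroup.closure_le _).2 ?_)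
      · exact autInducedBy_le_autGroup hRS
          (autInducedBy_mono hTS (Subgroup.mem_subgroupOf.1 hγ))
      · rintro ⟨γ, hγ⟩ hγc
        exact hgen R hRT hR γ hγ
          (by have h := hγc; rwa [Set.mem_setOf_eq, ← Subgroup.orderOf_coe] at h)
    exact Subgroup.mem_subgroupOf.1 h1
  exact (iso_apl hRS (hle hα)).1

theorem sub_of_mor (h : ∀ P f, Mor Y P f → Mor F P f) : Y.IsSubsystemOf F :=
  isSubsystemOf_iff_mor.2 h

/-- The hyperfocal subgroup does not change in a subsystem of `p`-power index. -/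
theorem hyperfocal_eq [Finite S] [Fact p.Prime] (hS : IsPGroup p S) (hTS : T ≤ S)
    (hi : Y.HasPPowerIndexIn F p) : Y.hyperfocalSubgroup p = F.hyperfocalSubgroup p := by
  haveI : Finite T := finite_of_le hTS
  refine le_antisymm ((Subgroup.closure_le _).2 ?_) ((Subgroup.closure_le _).2 ?_)
  · rintro _ ⟨P, α, x, hP, hα, rfl⟩
    rw [← apl_coe]
    refine residual_quot_mem_hyperfocal (hP.trans hTS) ?_ x.2
    have h := Cfsg.Agent.Fusion.map_pResidual_le
      (Subgroup.inclusion (autGroup_le_of_sub (P := P) hi.1)) (Subgroup.mem_map_of_mem _ hα)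
    exact Subgroup.mem_map.2 ⟨_, h, rfl⟩
  · rintro _ ⟨P, α, x, hP, hα, rfl⟩
    haveI := finite_of_le hP
    rw [← apl_coe]
    obtain ⟨H, hH⟩ : ∃ H, H = Y.hyperfocalSubgroup p := ⟨_, rfl⟩
    rw [← hH]
    let K : Subgroup (MulAut P) :=
      { carrier := {β | ∀ x ∈ P, x⁻¹ * apl β x ∈ H}
        one_mem' := fun x hx => by rw [apl_one hx, inv_mul_cancel]; exact H.one_mem
        mul_mem' := fun {β γ} hβ hγ x hx => by
          rw [apl_mul _ _ hx]
          have h := H.mul_mem (hγ x hx) (hβ _ (apl_mem γ hx))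
          rwa [mul_assoc, mul_inv_cancel_left] at h
        inv_mem' := fun {β} hβ x hx => by
          have h := H.inv_mem (hβ _ (apl_mem β⁻¹ hx))
          rwa [apl_apl_inv β hx, mul_inv_rev, inv_inv] at h }
    refine (residual_le_iff hP (K := K) fun β hβ hco z hz => ?_) ⟨α, hα, rfl⟩ x x.2
    -- the part in `T`
    have hdT : ∀ y ∈ P, y⁻¹ * apl β y ∈ T := fun y hy => hi.2.1 (coprime_diff_mem hP hβ hco hy)
    have hQ : ∀ y ∈ P ⊓ T, apl β y ∈ P ⊓ T := fun y hy => by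
      refine ⟨apl_mem β hy.1, ?_⟩
      have h := T.mul_mem hy.2 (hdT y hy.1)
      rwa [mul_inv_cancel_left] at h
    obtain ⟨b, hb, hbo, hbx⟩ := exists_restrict inf_le_left hP hβ hQ
    have hbc : (orderOf b).Coprime p := Nat.Coprime.coprime_dvd_left hbo hco
    have hQH : ∀ y ∈ P ⊓ T, y⁻¹ * apl β y ∈ H := fun y hy => by
      rw [← hbx y hy, hH]
      exact coprime_diff_mem inf_le_right (coprime_mem_of_index hi inf_le_right hTS hb hbc) hbc hy
    obtain ⟨d, hd⟩ : ∃ d, d = z⁻¹ * apl β z := ⟨_, rfl⟩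
    rw [← hd]
    have hdQ : d ∈ P ⊓ T := hd ▸ ⟨P.mul_mem (P.inv_mem hz) (apl_mem β hz), hdT z hz⟩
    have hstep : ∀ k : ℕ, z⁻¹ * apl (β ^ k) z ∈ P ⊓ T ∧
        (d ^ k)⁻¹ * (z⁻¹ * apl (β ^ k) z) ∈ H := by
      intro k
      induction k with
      | zero => simp [apl_one hz]
      | succ k ih =>
        obtain ⟨h1, h2⟩ := ih
        have e : z⁻¹ * apl (β ^ (k + 1)) z = d * apl β (z⁻¹ * apl (β ^ k) z) := by
          rw [pow_succ', apl_mul _ _ hz, (iso_apl hP hβ).1.map_mul (P.inv_mem hz) (apl_mem _ hz),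
            (iso_apl hP hβ).1.map_inv hz, hd]
          group
        refine ⟨e ▸ mul_mem hdQ (hQ _ h1), ?_⟩
        rw [e, pow_succ', show (d * d ^ k)⁻¹ * (d * apl β (z⁻¹ * apl (β ^ k) z)) =
          (d ^ k)⁻¹ * (z⁻¹ * apl (β ^ k) z) *
            ((z⁻¹ * apl (β ^ k) z)⁻¹ * apl β (z⁻¹ * apl (β ^ k) z)) by group]
        exact mul_mem h2 (hQH _ h1)
    have hm := (hstep (orderOf β)).2
    rw [pow_orderOf_eq_one, apl_one hz, inv_mul_cancel, mul_one] at hm
    have hm' : d ^ orderOf β ∈ H := by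
      have h := H.inv_mem hm
      rwa [inv_inv] at h
    obtain ⟨i, hi'⟩ := hS ⟨d, hP hdQ.1⟩
    have hdi : d ^ p ^ i = 1 := congrArg Subtype.val hi'
    obtain ⟨n, hn1, hn0⟩ := exists_pow_one_mod (hco.pow_right i).symm
    obtain ⟨c, rfl⟩ := Nat.modEq_zero_iff_dvd.1 hn0
    have e : d ^ (orderOf β * c) = d := by
      conv_rhs => rw [← pow_one d]
      exact pow_eq_pow_iff_modEq.2 (hn1.of_dvd (orderOf_dvd_of_pow_eq_one hdi))
    rw [← e, pow_mul]
    exact H.pow_mem hm' c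

/-- Subsystems of `p`-power index of subsystems of `p`-power index. -/
theorem index_trans [Finite S] [Fact p.Prime] (hS : IsPGroup p S) (hTS : T ≤ S) (hHT : H ≤ T)
    (hY : Y.HasPPowerIndexIn F p) (hX : X.HasPPowerIndexIn Y p) : X.HasPPowerIndexIn F p := by
  haveI : Finite T := finite_of_le hTS
  refine ⟨fun P _ h => hY.1 P (hX.1 P h), (hyperfocal_eq hS hTS hY) ▸ hX.2.1, fun P hP => ?_⟩
  refine residual_le_iff ((hP.trans hHT).trans hTS) fun α hα hco => ?_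
  exact coprime_mem_of_index hX hP hHT (coprime_mem_of_index hY (hP.trans hHT) hTS hα hco) hco

/-- A subsystem of `p`-power index over a smaller subgroup is one of the bigger. -/
theorem index_restrict [Finite S] [Fact p.Prime] (hS : IsPGroup p S) (hTS : T ≤ S) (hHT : H ≤ T)
    (hY : Y.HasPPowerIndexIn F p) (hXs : X.IsSaturated p) (hX : X.HasPPowerIndexIn F p) :
    X.HasPPowerIndexIn Y p := by
  haveI : Finite T := finite_of_le hTS
  haveI : Finite H := finite_of_le hHT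
  refine ⟨sub_of_mor (mor_of_generators (hS.to_le (hHT.trans hTS)) hXs hHT
    fun R hR _ α hα hco => coprime_mem_of_index hY (hR.trans hHT) hTS
      (autGroup_le_of_sub hX.1 hα) hco), ?_, fun P hP => ?_⟩
  · rw [hyperfocal_eq hS hTS hY]
    exact hX.2.1
  · refine residual_le_iff (hP.trans hHT) fun α hα hco => ?_
    exact coprime_mem_of_index hX hP (hHT.trans hTS) (autGroup_le_of_sub hY.1 hα) hco

/-- An automorphism of order prime to `p` of the part in `H` extends to the saturated system. -/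
theorem exists_extension [Finite S] [Fact p.Prime] (hS : IsPGroup p S) (hTS : T ≤ S)
    (hY : Y.IsSaturated p) (hX : X.IsNormalIn Y p) (hhyp : Y.hyperfocalSubgroup p ≤ H) (hR : R ≤ T)
    (hc : X.IsCentric (R ⊓ H)) {α : MulAut R} (hα : α ∈ F.autGroup R)
    (hco : (orderOf α).Coprime p) (hd : ∀ x ∈ R, x⁻¹ * apl α x ∈ H)
    (hm : Mor X (R ⊓ H) (apl α)) :
    ∃ β ∈ Y.autGroup R, (orderOf β).Coprime p ∧ (∀ x ∈ R, x⁻¹ * apl β x ∈ H) ∧
      ∀ y ∈ R ⊓ H, apl β y = apl α y := by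
  haveI : Finite T := finite_of_le hTS
  have hinv := hX.1.2.2
  have hsc := hinv.2.1
  haveI : Finite H := finite_of_le hsc.1
  have hpT : IsPGroup p T := hS.to_le hTS
  have hRS : R ≤ S := hR.trans hTS
  obtain ⟨U, hU⟩ : ∃ U, U = R ⊓ H := ⟨_, rfl⟩
  rw [← hU] at hc hm ⊢
  have hUR : U ≤ R := hU ▸ inf_le_left
  have hUH : U ≤ H := hU ▸ inf_le_right
  have hUT : U ≤ T := hUR.trans hR
  haveI := finite_of_le (S := T) hUT
  have hαU : ∀ y ∈ U, apl α y ∈ U := fun y hy => by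
    rw [hU]
    refine ⟨apl_mem α (hUR hy), ?_⟩
    have h := H.mul_mem (hUH hy) (hd y (hUR hy))
    rwa [mul_inv_cancel_left] at h
  have hdU : ∀ x ∈ R, x⁻¹ * apl α x ∈ U := fun x hx =>
    hU ▸ ⟨R.mul_mem (R.inv_mem hx) (apl_mem α hx), hd x hx⟩
  obtain ⟨a, ha, hao, hax⟩ := exists_restrict hUR hRS hα hαU
  obtain ⟨a₁, ha₁, ha₁x⟩ := (AM.iso_of_stable hm hαU).exists_mem_autGroup
  have haa : a = a₁ := apl_ext fun y hy => by rw [hax y hy, ha₁x y hy]
  subst haa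
  have hRN : R ≤ normalizerIn T U := fun x hx => ⟨hR hx, mem_normalizer_of_maps fun y hy => by
    rw [hU] at hy ⊢
    exact ⟨R.mul_mem (R.mul_mem hx hy.1) (R.inv_mem hx),
      (Subgroup.mem_normalizer_iff.1 (StronglyClosed.le_normalizer hsc (hR hx)) y).1 hy.2⟩⟩
  obtain ⟨u, g, hun, hg, hgU, hgN⟩ := exists_fullyNormalized_mor hpT hY hUT
  obtain ⟨R₁, hgR⟩ := (hg.mono hRN).exists_iso
  have huc : X.IsCentric u := centric_of_mor hinv hc hgU
  have huT : u ≤ T := hgU.right_le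
  haveI := finite_of_le (S := T) huT
  obtain ⟨b, hb⟩ : ∃ b, b = hgU.conjAut a := ⟨_, rfl⟩
  have hbX : b ∈ X.autGroup u := hb ▸ conjAut_mem_of_isInvariant hinv hUH hgU ha₁
  have hbY : b ∈ Y.autGroup u := autGroup_le_of_invariant hinv hbX
  have hbco : (orderOf b).Coprime p := by
    rw [hb, AM.orderOf_conjAut]
    exact Nat.Coprime.coprime_dvd_left hao hco
  have hbx : ∀ y ∈ U, apl b (g y) = g (apl α y) := fun y hy => by
    rw [hb, hgU.conjAut_apl a hy, hax y hy]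
  -- the extension
  obtain ⟨C, hC⟩ : ∃ C, C = centralizerIn T u := ⟨_, rfl⟩
  obtain ⟨W, hW⟩ : ∃ W, W = R₁ ⊔ C := ⟨_, rfl⟩
  have huR₁ : u ≤ R₁ := fun y hy => by
    obtain ⟨x, hx, rfl⟩ := hgU.exists_eq hy
    exact hgR.mem (hUR hx)
  have hkey : ∀ r ∈ R, ∀ y ∈ u,
      apl b (g r * y * (g r)⁻¹) = g (apl α r) * apl b y * (g (apl α r))⁻¹ := by
    intro r hr y hy
    obtain ⟨w, hw, rfl⟩ := hgU.exists_eq hy
    have hrw : r * w * r⁻¹ ∈ U := (Subgroup.mem_normalizer_iff.1 (hRN hr).2 w).1 hw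
    rw [← hg.map_conj (hRN hr) (hRN (hUR hw)), hbx _ hrw, hbx w hw,
      (iso_apl hRS hα).1.map_conj hr (hUR hw),
      hg.map_conj (hRN (apl_mem α hr)) (hRN (hUR (hαU w hw)))]
  have hWle : W ≤ nPhi T u (apl b) := by
    rw [hW, hC]
    refine sup_le (fun y hy => ?_) centralizerIn_le_nPhi
    obtain ⟨r, hr, rfl⟩ := hgR.exists_eq hy
    exact mem_nPhi.2 ⟨(hgN r (hRN hr)).1, (hgN r (hRN hr)).2, g (apl α r),
      (hgN _ (hRN (apl_mem α hr))).1, hkey r hr⟩
  obtain ⟨h, hh, hhx⟩ := (isReceptive_iff.1 (receptive_of_fullyNormalized hpT hY hun)).2 u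
    (apl b) (iso_apl huT hbY)
  have hhW : Mor Y W h := hh.mono hWle
  have huW : u ≤ W := hW ▸ huR₁.trans le_sup_left
  have hWT : W ≤ T := hhW.le
  haveI := finite_of_le (S := T) hWT
  haveI : Finite (MulAut W) := Finite.of_injective _ MulEquiv.toEquiv_injective
  have hR₁W : R₁ ≤ W := hW ▸ le_sup_left
  have hCW : C ≤ W := hW ▸ le_sup_right
  have hgen : ∀ r ∈ R, (g (apl α r))⁻¹ * h (g r) ∈ C := by
    intro r hr
    have hrW : g r ∈ W := hR₁W (hgR.mem hr)
    rw [hC]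
    refine AM.mem_centralizerIn (T.mul_mem (T.inv_mem (hgN _ (hRN (apl_mem α hr))).1)
      (hhW.mem_S hrW)) fun y hy => ?_
    obtain ⟨w, hw, rfl⟩ : ∃ w ∈ u, apl b w = y :=
      ⟨apl b⁻¹ y, apl_mem _ hy, apl_apl_inv b hy⟩
    have h1 := hhW.map_conj hrW (huW hw)
    have hcj : g r * w * (g r)⁻¹ ∈ u :=
      (Subgroup.mem_normalizer_iff.1 (hgN r (hRN hr)).2 w).1 hw
    rw [hhx _ hcj, hhx w hw, hkey r hr w hw] at h1
    calc (g (apl α r))⁻¹ * h (g r) * apl b w * ((g (apl α r))⁻¹ * h (g r))⁻¹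
        = (g (apl α r))⁻¹ * (h (g r) * apl b w * (h (g r))⁻¹) * g (apl α r) := by group
      _ = apl b w := by rw [← h1]; group
  have hst : ∀ x ∈ W, h x ∈ W := by
    intro x hx
    refine (hhW.mono hW.ge).mem_of_sup (fun y hy => ?_) (fun c hc' => ?_) (hW.le hx)
    · obtain ⟨r, hr, rfl⟩ := hgR.exists_eq hy
      have h1 := W.mul_mem (hR₁W (hgR.mem (apl_mem α hr))) (hCW (hgen r hr))
      rwa [mul_inv_cancel_left] at h1
    · refine hCW ?_
      rw [hC] at hc' ⊢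
      refine AM.mem_centralizerIn (hhW.mem_S (hCW (hC ▸ hc'))) fun y hy => ?_
      obtain ⟨w, hw, rfl⟩ : ∃ w ∈ u, apl b w = y :=
        ⟨apl b⁻¹ y, apl_mem _ hy, apl_apl_inv b hy⟩
      rw [← hhx w hw, ← hhW.map_conj (hCW (hC ▸ hc')) (huW hw), AM.comm_of_mem hc' hw]
  obtain ⟨η, hη, hηx⟩ := (AM.iso_of_stable hhW hst).exists_mem_autGroup
  have hηb : ∀ y ∈ u, apl η y = apl b y := fun y hy => by rw [hηx y (huW hy), hhx y hy]
  obtain ⟨δ, hδz, hδco, hδπ⟩ := AM.exists_coprime_preimage (p := p)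
    (AM.resHom huW : AM.stab W u →* MulAut u) (x := ⟨η, AM.mem_stab_of_agree hηb⟩) (by
      rw [show AM.resHom huW ⟨η, AM.mem_stab_of_agree hηb⟩ = b from
        apl_ext fun y hy => by rw [AM.resHom_apl huW _ hy, hηb y hy]]
      exact hbco)
  have hδY : (δ : MulAut W) ∈ Y.autGroup W := by
    have h1 : Subgroup.zpowers (⟨η, AM.mem_stab_of_agree hηb⟩ : AM.stab W u) ≤
        (Y.autGroup W).subgroupOf (AM.stab W u) := Subgroup.zpowers_le.2 hη
    exact h1 hδz
  have hδu : ∀ y ∈ u, apl (δ : MulAut W) y = apl b y := fun y hy => by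
    rw [← AM.resHom_apl huW δ hy, hδπ, AM.resHom_apl huW _ hy, hηb y hy]
  have hδco' : (orderOf (δ : MulAut W)).Coprime p := by rwa [Subgroup.orderOf_coe]
  have huH : u ≤ H := huc.1
  have hR₁d : ∀ x ∈ R₁, x⁻¹ * apl (δ : MulAut W) x ∈ u := by
    intro x hx
    obtain ⟨r, hr, rfl⟩ := hgR.exists_eq hx
    have hd1 : (g r)⁻¹ * apl (δ : MulAut W) (g r) ∈ H :=
      hhyp (coprime_diff_mem hWT hδY hδco' (hR₁W hx))
    have hrr : r⁻¹ * apl α r ∈ U := hdU r hr
    have hgg : (g r)⁻¹ * g (apl α r) ∈ u := by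
      rw [← hg.map_inv (hRN hr), ← hg.map_mul (Subgroup.inv_mem _ (hRN hr)) (hRN (apl_mem α hr))]
      exact hgU.mem hrr
    obtain ⟨c, hc'⟩ : ∃ c, c = (g (apl α r))⁻¹ * apl (δ : MulAut W) (g r) := ⟨_, rfl⟩
    have hcC : c ∈ centralizerIn T u := by
      refine AM.mem_centralizerIn (hc' ▸ T.mul_mem (T.inv_mem (hgN _ (hRN (apl_mem α hr))).1)
        (hWT (apl_mem _ (hR₁W hx)))) fun y hy => ?_
      obtain ⟨w, hw, rfl⟩ : ∃ w ∈ u, apl b w = y :=
        ⟨apl b⁻¹ y, apl_mem _ hy, apl_apl_inv b hy⟩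
      have h1 := (iso_apl hWT hδY).1.map_conj (hR₁W hx) (huW hw)
      have hcj : g r * w * (g r)⁻¹ ∈ u :=
        (Subgroup.mem_normalizer_iff.1 (hgN r (hRN hr)).2 w).1 hw
      rw [hδu _ hcj, hδu w hw, hkey r hr w hw] at h1
      rw [hc']
      calc (g (apl α r))⁻¹ * apl (δ : MulAut W) (g r) * apl b w *
            ((g (apl α r))⁻¹ * apl (δ : MulAut W) (g r))⁻¹
          = (g (apl α r))⁻¹ * (apl (δ : MulAut W) (g r) * apl b w *
              (apl (δ : MulAut W) (g r))⁻¹) * g (apl α r) := by group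
        _ = apl b w := by rw [← h1]; group
    have e : (g r)⁻¹ * apl (δ : MulAut W) (g r) = (g r)⁻¹ * g (apl α r) * c := by
      rw [hc']; group
    rw [e]
    refine u.mul_mem hgg (centric_self huc ⟨?_, hcC.2⟩)
    have h1 := H.mul_mem (H.inv_mem (huH hgg)) hd1
    rwa [e, inv_mul_cancel_left] at h1
  have hR₁st : ∀ x ∈ R₁, apl (δ : MulAut W) x ∈ R₁ := fun x hx => by
    have h1 := R₁.mul_mem hx (huR₁ (hR₁d x hx))
    rwa [mul_inv_cancel_left] at h1
  obtain ⟨δ₁, hδ₁, hδ₁o, hδ₁x⟩ := exists_restrict hR₁W hWT hδY hR₁st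
  obtain ⟨g', hg', hg'g, hgg'⟩ := hgR.symm
  refine ⟨hg'.conjAut δ₁, hg'.conjAut_mem hδ₁, ?_, fun x hx => ?_, fun y hy => ?_⟩
  · rw [AM.orderOf_conjAut]
    exact Nat.Coprime.coprime_dvd_left hδ₁o hδco'
  · obtain ⟨x₁, hx₁, rfl⟩ := hg'.exists_eq hx
    have hm₁ := apl_mem δ₁ hx₁
    rw [hg'.conjAut_apl δ₁ hx₁, ← hg'.1.map_inv hx₁, ← hg'.1.map_mul (R₁.inv_mem hx₁) hm₁]
    refine StronglyClosed.mor_mem hsc hg'.1 (R₁.mul_mem (R₁.inv_mem hx₁) hm₁) ?_
    rw [hδ₁x x₁ hx₁]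
    exact huH (hR₁d x₁ hx₁)
  · have hgy : g y ∈ R₁ := hgR.mem (hUR hy)
    conv_lhs => rw [← hg'g y (hUR hy)]
    rw [hg'.conjAut_apl δ₁ hgy, hδ₁x _ hgy, hδu _ (hgU.mem hy), hbx y hy,
      hg'g _ (hUR (hαU y hy))]

/-- Two automorphisms of order prime to `p` which agree on `U` and are trivial modulo it are
conjugate by one which is trivial on both. -/
theorem exists_fix_conj [Finite S] [Fact p.Prime] (hS : IsPGroup p S) (hR : R ≤ S) (hUR : U ≤ R)
    {α β : MulAut R} (hα : α ∈ F.autGroup R) (hβ : β ∈ F.autGroup R)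
    (hαc : (orderOf α).Coprime p) (hβc : (orderOf β).Coprime p)
    (hαd : ∀ x ∈ R, x⁻¹ * apl α x ∈ U) (hβd : ∀ x ∈ R, x⁻¹ * apl β x ∈ U)
    (heq : ∀ y ∈ U, apl β y = apl α y) :
    ∃ κ ∈ F.autGroup R, (∀ y ∈ U, apl κ y = y) ∧ (∀ x ∈ R, x⁻¹ * apl κ x ∈ U) ∧
      κ * β * κ⁻¹ = α := by
  haveI := finite_of_le hR
  haveI : Finite (MulAut R) := Finite.of_injective _ MulEquiv.toEquiv_injective
  have hst : ∀ γ : MulAut R, (∀ x ∈ R, x⁻¹ * apl γ x ∈ U) → ∀ y ∈ U, apl γ y ∈ U :=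
    fun γ hγ y hy => by
      have h := U.mul_mem hy (hγ y (hUR hy))
      rwa [mul_inv_cancel_left] at h
  let D : Subgroup (MulAut R) :=
    { carrier := {β | ∀ x ∈ R, x⁻¹ * apl β x ∈ U}
      one_mem' := fun x hx => by rw [apl_one hx, inv_mul_cancel]; exact U.one_mem
      mul_mem' := fun {β γ} hβ hγ x hx => by
        rw [apl_mul _ _ hx]
        have h := U.mul_mem (hγ x hx) (hβ _ (apl_mem γ hx))
        rwa [mul_assoc, mul_inv_cancel_left] at h
      inv_mem' := fun {β} hβ x hx => by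
        have h := U.inv_mem (hβ _ (apl_mem β⁻¹ hx))
        rwa [apl_apl_inv β hx, mul_inv_rev, inv_inv] at h }
  let Kp : Subgroup (MulAut R) := F.autGroup R ⊓ D ⊓
    { carrier := {β | ∀ y ∈ U, apl β y = y}
      one_mem' := fun y hy => apl_one (hUR hy)
      mul_mem' := fun {β γ} hβ hγ y hy => by rw [apl_mul _ _ (hUR hy), hγ y hy, hβ y hy]
      inv_mem' := fun {β} hβ y hy => by
        conv_lhs => rw [← hβ y hy]
        exact apl_inv_apl β (hUR hy) }
  have hKp : IsPGroup p Kp := by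
    rintro ⟨γ, ⟨hγ, hγd⟩, hγU⟩
    obtain ⟨k, hk⟩ := AM.pow_eq_one_of_fix hS hUR hR hγ hγU hγd
    exact ⟨k, Subtype.ext hk⟩
  have hn : β ∈ Subgroup.normalizer (Kp : Set (MulAut R)) := by
    refine mem_normalizer_of_conj_mem fun γ hγ => ?_
    obtain ⟨⟨hγ, hγd⟩, hγU⟩ := hγ
    refine ⟨⟨mul_mem (mul_mem hβ hγ) (Subgroup.inv_mem _ hβ),
      D.mul_mem (D.mul_mem hβd hγd) (D.inv_mem hβd)⟩, fun y hy => ?_⟩
    have hw := hst _ (D.inv_mem hβd) y hy
    rw [apl_mul _ _ (hUR hy), apl_mul _ _ (hUR hw), hγU _ hw, apl_apl_inv β (hUR hy)]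
  have hmem : α * β⁻¹ ∈ Kp := by
    refine ⟨⟨mul_mem hα (Subgroup.inv_mem _ hβ), D.mul_mem hαd (D.inv_mem hβd)⟩, fun y hy => ?_⟩
    rw [apl_mul _ _ (hUR hy), ← heq _ (hst _ (D.inv_mem hβd) y hy), apl_apl_inv β (hUR hy)]
  obtain ⟨κ, ⟨⟨hκ, hκd⟩, hκU⟩, hκe⟩ := exists_conj_coprime hKp hn hmem hβc hαc
  exact ⟨κ, hκ, hκU, hκd, hκe⟩

/-- An automorphism of a centric radical subgroup fixing a stable `U` and trivial modulo it is
inner. -/
theorem fix_mem_inn [Finite S] [Fact p.Prime] (hS : IsPGroup p S) (hr : F.IsRadical p R)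
    (hUR : U ≤ R) (hst : ∀ γ ∈ F.autGroup R, ∀ y ∈ U, apl γ y ∈ U) {κ : MulAut R}
    (hκ : κ ∈ F.autGroup R) (hκU : ∀ y ∈ U, apl κ y = y) (hκd : ∀ x ∈ R, x⁻¹ * apl κ x ∈ U) :
    κ ∈ Inn R := by
  have hR := hr.1
  haveI := finite_of_le hR
  haveI : Finite (MulAut R) := Finite.of_injective _ MulEquiv.toEquiv_injective
  let Kp : Subgroup (MulAut R) :=
    { carrier := {β | β ∈ F.autGroup R ∧ (∀ y ∈ U, apl β y = y) ∧ ∀ x ∈ R, x⁻¹ * apl β x ∈ U}
      one_mem' := ⟨one_mem _, fun y hy => apl_one (hUR hy), fun x hx => by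
        rw [apl_one hx, inv_mul_cancel]; exact U.one_mem⟩
      mul_mem' := by
        rintro α β ⟨hα, hαU, hαd⟩ ⟨hβ, hβU, hβd⟩
        refine ⟨mul_mem hα hβ, fun y hy => ?_, fun x hx => ?_⟩
        · rw [apl_mul _ _ (hUR hy), hβU y hy, hαU y hy]
        · rw [apl_mul _ _ hx]
          have h1 := U.mul_mem (hβd x hx) (hαd _ (apl_mem β hx))
          rwa [mul_assoc, mul_inv_cancel_left] at h1
      inv_mem' := by
        rintro α ⟨hα, hαU, hαd⟩
        refine ⟨inv_mem hα, fun y hy => ?_, fun x hx => ?_⟩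
        · conv_lhs => rw [← hαU y hy]
          exact apl_inv_apl α (hUR hy)
        · have h1 := U.inv_mem (hαd _ (apl_mem α⁻¹ hx))
          rwa [apl_apl_inv α hx, mul_inv_rev, inv_inv] at h1 }
  have hKp : IsPGroup p Kp := by
    rintro ⟨β, hβ, hβU, hβd⟩
    obtain ⟨k, hk'⟩ := AM.pow_eq_one_of_fix hS hUR hR hβ hβU hβd
    exact ⟨k, Subtype.ext hk'⟩
  have hKn : (Kp.subgroupOf (F.autGroup R)).Normal := by
    refine ⟨fun x hx g => ?_⟩
    obtain ⟨hxA, hxU, hxd⟩ := Subgroup.mem_subgroupOf.1 hx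
    refine Subgroup.mem_subgroupOf.2
      ⟨mul_mem (mul_mem g.2 hxA) (inv_mem g.2), fun y hy => ?_, fun z hz => ?_⟩
    · have hw := hst _ (inv_mem g.2) y hy
      show apl ((g : MulAut R) * (x : MulAut R) * (g : MulAut R)⁻¹) y = y
      rw [apl_mul _ _ (hUR hy), apl_mul _ _ (hUR hw), hxU _ hw, apl_apl_inv _ (hUR hy)]
    · have hw := apl_mem (g : MulAut R)⁻¹ hz
      have h1 := hst _ g.2 _ (hxd _ hw)
      rw [(iso_apl hR g.2).1.map_mul (R.inv_mem hw) (apl_mem _ hw),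
        (iso_apl hR g.2).1.map_inv hw, apl_apl_inv _ hz] at h1
      show z⁻¹ * apl ((g : MulAut R) * (x : MulAut R) * (g : MulAut R)⁻¹) z ∈ U
      rwa [apl_mul _ _ hz, apl_mul _ _ hw]
  exact hr.2.le (Subgroup.mem_map.2 ⟨⟨κ, hκ⟩,
    Cfsg.Agent.Core.le_pCore (hN := hKn) hKp.comap_subtype (show κ ∈ Kp from ⟨hκ, hκU, hκd⟩), rfl⟩)

end Cfsg.Agent.FusSys.ProdS
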