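import Cfsg.Agent.FusSys.ProdS.ProdRes
import Cfsg.Agent.FusSys.NormalCentric

/-!
Saturated systems with the same residual.
-/

set_option autoImplicit false
set_option linter.unusedSectionVars false
set_option linter.style.haveILetI false
set_option linter.unusedVariables false

namespace Cfsg.Agent.FusSys.ProdS

open Cfsg Cfsg.FusionSystem Cfsg.Agent.FusSys

universe u

variable {Ω : Type u} [Group Ω] {S T H : Subgroup Ω} {F : FusionSystem S} {E : FusionSystem T}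
variable {X : FusionSystem H} {P R : Subgroup Ω} {p : ℕ}

theorem radical_top' [Fact p.Prime] [Finite S] (hS : IsPGroup p S) (hF : F.IsSaturated p) :
    F.IsRadical p S := by
  obtain ⟨-, V, hV⟩ := top_fullyAutomized hS hF
  rw [← inn_eq_autInducedBy] at hV
  have e : pCore p (F.autGroup S) = (Inn S).subgroupOf (F.autGroup S) := by
    refine le_antisymm ((Cfsg.Agent.Core.pCore_le_sylow V).trans hV.le) ?_
    haveI := innIn_normal F S
    exact Cfsg.Agent.Core.le_pCore (hV ▸ V.2)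
  refine ⟨le_rfl, ?_⟩
  rw [e, Subgroup.map_subgroupOf_eq_of_le (inn_le_autGroup le_rfl)]

/-- A centric radical subgroup has centric part in a normal subsystem. -/
theorem tcp_of_radical [Fact p.Prime] [Finite S] (hyp : Hyp p F E) (hc : F.IsCentric R)
    (hr : F.IsRadical p R) : TCP S E R := by
  by_contra hT
  obtain ⟨Q, hQ, hnot⟩ :=
    hyp.exists_star_in (D := F) (fun _ _ h => prod_mor_F h) (fun _ _ h => h) hc hT
  obtain ⟨r, hr'⟩ := isConj_iff.1 hQ
  exact hnot (inf_le_right.trans (hr'.radical hyp.pS hr).2.le)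

theorem tcp_of_top_or_essential [Fact p.Prime] [Finite S] (hyp : Hyp p F E)
    (hR : R = S ∨ F.IsEssential p R) : TCP S E R := by
  rcases hR with rfl | hR
  · exact hyp.tcp_top
  · exact tcp_of_radical hyp hR.1 (essential_radical hyp.pS hyp.sat hR)

theorem hyp_of_index [Fact p.Prime] [Finite S] (hS : IsPGroup p S) (hF : F.IsSaturated p)
    (hTS : T ≤ S) (hTn : ∀ s ∈ S, ∀ x ∈ T, s * x * s⁻¹ ∈ T) (hEs : E.IsSaturated p)
    (hEi : E.HasPPowerIndexIn F p) : Hyp p F E :=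
  ⟨hS, PPI.normal_of_pPowerIndex hS hF hTS hTn hEs hEi⟩

/-- A saturated system over `T` inside the ambient one with the residual of the normal subsystem
lies in the normal subsystem. -/
theorem sub_of_residual [Fact p.Prime] [Finite S] (hyp : Hyp p F E) {Y : FusionSystem T}
    (hY : Y.IsSaturated p) (hYF : Y.IsSubsystemOf F) (hHT : H ≤ T)
    (hHn : ∀ t ∈ T, ∀ x ∈ H, t * x * t⁻¹ ∈ H) (hX : X.IsSaturated p)
    (hXE : X.HasPPowerIndexIn E p) (hXY : X.HasPPowerIndexIn Y p) : Y.IsSubsystemOf E := by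
  haveI := hyp.finite_T
  have hpT := hyp.pT
  have hypY := hyp_of_index hpT hY hHT hHn hX hXY
  refine sub_of_mor (mor_of_generators hpT hY le_rfl fun R hR hRe α hα hco => ?_)
  have hc := (tcp_of_top_or_essential hypY hRe).2
  have hd : ∀ x ∈ R, x⁻¹ * apl α x ∈ H := fun x hx => hXY.2.1 (coprime_diff_mem hR hα hco hx)
  have hst : ∀ y ∈ R ⊓ H, apl α y ∈ R ⊓ H := fun y hy => by
    refine ⟨apl_mem α hy.1, ?_⟩
    have h := H.mul_mem hy.2 (hd y hy.1)
    rwa [mul_inv_cancel_left] at h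
  obtain ⟨a, ha, hao, hax⟩ := exists_restrict inf_le_left hR hα hst
  have haX := coprime_mem_of_index hXY inf_le_right hHT ha
    (Nat.Coprime.coprime_dvd_left hao hco)
  have hRS : R ≤ S := hR.trans hyp.T_le
  have hαF := autGroup_le_of_sub hYF hα
  obtain ⟨β, hβ, hβc, hβd, hβx⟩ := exists_extension (F := F) hyp.pS hyp.T_le hyp.satE
    (PPI.normal_of_pPowerIndex hpT hyp.satE hHT hHn hX hXE) hXE.2.1 hR hc hαF hco hd
    ((iso_apl inf_le_right haX).1.congr fun y hy => (hax y hy).symm)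
  obtain ⟨κ, hκ, -, -, hκe⟩ := exists_fix_conj (U := R ⊓ H) hyp.pS hRS inf_le_left hαF
    (autGroup_le_of_invariant hyp.inv hβ) hco hβc
    (fun x hx => ⟨R.mul_mem (R.inv_mem hx) (apl_mem α hx), hd x hx⟩)
    (fun x hx => ⟨R.mul_mem (R.inv_mem hx) (apl_mem β hx), hβd x hx⟩) hβx
  have h1 := conjAut_mem_of_isInvariant hyp.inv hR (iso_apl hRS hκ) hβ
  rwa [AM.conjAut_apl_iso hRS hκ, hκe] at h1

/-- Of two nested saturated systems with a common residual the bigger lies in the smaller. -/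
theorem sub_of_common [Fact p.Prime] [Finite T] (hpT : IsPGroup p T) {Y₁ Y₂ : FusionSystem T}
    (h₁ : Y₁.IsSaturated p) (h₂ : Y₂.IsSaturated p) (hle : Y₁.IsSubsystemOf Y₂) (hHT : H ≤ T)
    (hHn : ∀ t ∈ T, ∀ x ∈ H, t * x * t⁻¹ ∈ H) (hX : X.IsSaturated p)
    (hX₁ : X.HasPPowerIndexIn Y₁ p) (hX₂ : X.HasPPowerIndexIn Y₂ p) : Y₂.IsSubsystemOf Y₁ := by
  have hyp₂ := hyp_of_index hpT h₂ hHT hHn hX hX₂
  refine sub_of_mor (mor_of_generators hpT h₂ le_rfl fun R hR hRe α hα hco => ?_)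
  have hc := (tcp_of_top_or_essential hyp₂ hRe).2
  have hrad : Y₂.IsRadical p R := by
    rcases hRe with rfl | hRe
    · exact radical_top' hpT h₂
    · exact essential_radical hpT h₂ hRe
  have hd : ∀ x ∈ R, x⁻¹ * apl α x ∈ H := fun x hx => hX₂.2.1 (coprime_diff_mem hR hα hco hx)
  have hst : ∀ γ ∈ Y₂.autGroup R, ∀ y ∈ R ⊓ H, apl γ y ∈ R ⊓ H := fun γ hγ y hy =>
    ⟨apl_mem γ hy.1, StronglyClosed.mor_mem hyp₂.sc (iso_apl hR hγ).1 hy.1 hy.2⟩
  obtain ⟨a, ha, hao, hax⟩ := exists_restrict inf_le_left hR hα (hst α hα)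
  have haX := coprime_mem_of_index hX₂ inf_le_right hHT ha
    (Nat.Coprime.coprime_dvd_left hao hco)
  obtain ⟨β, hβ, hβc, hβd, hβx⟩ := exists_extension (F := Y₂) hpT le_rfl h₁
    (PPI.normal_of_pPowerIndex hpT h₁ hHT hHn hX hX₁) hX₁.2.1 hR hc hα hco hd
    ((iso_apl inf_le_right haX).1.congr fun y hy => (hax y hy).symm)
  obtain ⟨κ, hκ, hκU, hκd, hκe⟩ := exists_fix_conj (U := R ⊓ H) hpT hR inf_le_left hα
    (autGroup_le_of_sub hle hβ) hco hβc
    (fun x hx => ⟨R.mul_mem (R.inv_mem hx) (apl_mem α hx), hd x hx⟩)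
    (fun x hx => ⟨R.mul_mem (R.inv_mem hx) (apl_mem β hx), hβd x hx⟩) hβx
  have hκ₁ : κ ∈ Y₁.autGroup R :=
    inn_le_autGroup hR (fix_mem_inn hpT hrad inf_le_left hst hκ hκU hκd)
  rw [← hκe]
  exact Subgroup.mul_mem _ (Subgroup.mul_mem _ hκ₁ hβ) (Subgroup.inv_mem _ hκ₁)

/-- Systems of `p`-power index over equal subgroups. -/
theorem hom_eq_of_index [Finite S] [Fact p.Prime] (hS : IsPGroup p S) {H' : Subgroup Ω}
    (hH : H = H') (hHS : H ≤ S) {X' : FusionSystem H'} (hX : X.IsSaturated p)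
    (hX' : X'.IsSaturated p) (hi : X.HasPPowerIndexIn F p) (hi' : X'.HasPPowerIndexIn F p)
    (P : Subgroup Ω) : X.Hom P = X'.Hom P := by
  subst hH
  haveI := finite_of_le hHS
  exact eq_of_pPowerIndex (hS.to_le hHS) hX hX' hi hi' P

/-- Equal systems over equal subgroups have `p`-power index together. -/
theorem index_of_hom_eq {H' : Subgroup Ω} (hH : H = H') {X' : FusionSystem H'}
    (he : ∀ P, X.Hom P = X'.Hom P) (hi : X.HasPPowerIndexIn F p) : X'.HasPPowerIndexIn F p := by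
  subst hH
  rwa [← show X = X' from hom_ext_iff.2 he]

namespace Hyp

variable (hyp : Hyp p F E) [Fact p.Prime] [Finite S]
include hyp

/-- The saturated system over `R` with the residual of the normal subsystem. -/
theorem exists_over {R : Subgroup Ω} (hTR : T ≤ R) (hRS : R ≤ S) :
    ∃ D : FusionSystem R, (D.IsSaturated p ∧ D.IsSubsystemOf F ∧
      D.hyperfocalSubgroup p = E.hyperfocalSubgroup p ∧
      ∀ (D₁ : FusionSystem (D.hyperfocalSubgroup p)) (E₁ : FusionSystem (E.hyperfocalSubgroup p)),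
        D.IsPResidual p D₁ → E.IsPResidual p E₁ → ∀ P, D₁.Hom P = E₁.Hom P) ∧
      ∀ D' : FusionSystem R, D'.IsSaturated p → D'.IsSubsystemOf F →
        D'.hyperfocalSubgroup p = E.hyperfocalSubgroup p →
        (∀ (D₁ : FusionSystem (D'.hyperfocalSubgroup p)) (E₁ : FusionSystem (E.hyperfocalSubgroup p)),
          D'.IsPResidual p D₁ → E.IsPResidual p E₁ → ∀ P, D₁.Hom P = E₁.Hom P) →
        ∀ P, D'.Hom P = D.Hom P := by
  haveI := hyp.finite_T
  haveI : Finite R := finite_of_le hRS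
  have hS := hyp.pS
  have hpR : IsPGroup p R := hS.to_le hRS
  have hpT := hyp.pT
  have hTS := hyp.T_le
  have hPsat := hyp.prod_saturated
  have hEP := hyp.prod_index
  have hhypE := hyperfocal_eq hS hTS hEP
  obtain ⟨D, ⟨hD, hDP⟩, -⟩ := PPI.exists_unique_pPower hS hPsat hRS (hEP.2.1.trans hTR)
  have hhypD := hyperfocal_eq hS hRS hDP
  have hED : E.HasPPowerIndexIn D p := index_restrict hS hRS hTR hDP hyp.satE hEP
  have hTn : ∀ s ∈ R, ∀ x ∈ T, s * x * s⁻¹ ∈ T := fun s hs x hx => hyp.diff_mem (hRS hs) hx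
  refine ⟨D, ⟨hD, fun P _ h => prod_sub P (hDP.1 P h), hhypD.trans hhypE.symm,
    fun D₁ E₁ hD₁ hE₁ P => ?_⟩, fun D' hD' hD'F hhyp hres P => ?_⟩
  · exact hom_eq_of_index hS (hhypD.trans hhypE.symm) ((hyperfocal_le D p).trans hRS) hD₁.1 hE₁.1
      (index_trans hS hRS (hyperfocal_le D p) hDP hD₁.2)
      (index_trans hS hTS (hyperfocal_le E p) hEP hE₁.2) P
  -- the common residual
  have hHT : E.hyperfocalSubgroup p ≤ T := hyperfocal_le E p
  have hHn : ∀ t ∈ T, ∀ x ∈ E.hyperfocalSubgroup p, t * x * t⁻¹ ∈ E.hyperfocalSubgroup p :=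
    fun t ht x hx => (hyperfocal_conj_iff ht (hHT hx)).2 hx
  obtain ⟨E₁, ⟨hE₁, hE₁E⟩, -⟩ := PPI.exists_unique_pPower hpT hyp.satE hHT le_rfl
  obtain ⟨D₁, ⟨hD₁, hD₁D⟩, -⟩ :=
    PPI.exists_unique_pPower hpR hD' (hyperfocal_le D' p) le_rfl
  have hE₁D' : E₁.HasPPowerIndexIn D' p :=
    index_of_hom_eq hhyp (hres D₁ E₁ ⟨hD₁, hD₁D⟩ ⟨hE₁, hE₁E⟩) hD₁D
  obtain ⟨X, ⟨hX, hXD'⟩, -⟩ := PPI.exists_unique_pPower hpR hD' hTR (hhyp.le.trans hHT)
  have hE₁X : E₁.HasPPowerIndexIn X p := index_restrict hpR hTR hHT hXD' hE₁ hE₁D'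
  have hXE := sub_of_residual hyp hX (fun P _ h => hD'F P (hXD'.1 P h)) hHT hHn hE₁ hE₁E hE₁X
  have hEX := sub_of_common hpT hX hyp.satE hXE hHT hHn hE₁ hE₁X hE₁E
  have heq : X = E := hom_ext_iff.2 fun Q => Set.Subset.antisymm (hXE Q) (hEX Q)
  subst heq
  have hyp' : Hyp p D' X := hyp_of_index hpR hD' hTR hTn hX hXD'
  -- inside the product
  have hD'P : D'.IsSubsystemOf (prodSys p F X) :=
    sub_of_mor (mor_of_generators hpR hD' hRS fun Q hQ hQe α hα hco => by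
      have hQT : TCP S X Q := ⟨hQ.trans hRS, (tcp_of_top_or_essential hyp' hQe).2⟩
      have hd : ∀ x ∈ Q, x⁻¹ * apl α x ∈ T := fun x hx =>
        hXD'.2.1 (coprime_diff_mem hQ hα hco hx)
      have hst : ∀ y ∈ Q ⊓ T, apl α y ∈ Q ⊓ T := fun y hy => by
        refine ⟨apl_mem α hy.1, ?_⟩
        have h := T.mul_mem hy.2 (hd y hy.1)
        rwa [mul_inv_cancel_left] at h
      obtain ⟨a, ha, hao, hax⟩ := exists_restrict inf_le_left hQ hα hst
      have haX := coprime_mem_of_index hXD' inf_le_right hTR ha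
        (Nat.Coprime.coprime_dvd_left hao hco)
      exact A0_le_prod hQT (hyp.mem_A0 (autGroup_le_of_sub hD'F hα) hco
        ⟨hd, (iso_apl inf_le_right haX).1.congr fun y hy => (hax y hy).symm⟩))
  have hD'D : D'.IsSubsystemOf D :=
    sub_of_mor (mor_of_generators hpR hD' le_rfl fun Q hQ _ α hα hco =>
      coprime_mem_of_index hDP hQ hRS (autGroup_le_of_sub hD'P hα) hco)
  exact Set.Subset.antisymm (hD'D P) (sub_of_common hpR hD' hD hD'D hTR hTn hX hXD' hED P)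

end Hyp

end Cfsg.Agent.FusSys.ProdS
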