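import Cfsg.Agent.FusSys.ProdS.Phi

/-!
At a subgroup with centric, fully normalized part in `T`, fully normalized in the product system,
the generating automorphisms together with those induced by `S` have the latter as Sylow subgroup
and extend to the subgroups on which they can extend.
-/

set_option autoImplicit false
set_option linter.unusedSectionVars false
set_option linter.style.haveILetI false
set_option linter.unusedVariables false

namespace Cfsg.Agent.FusSys.ProdS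

open Cfsg Cfsg.FusionSystem Cfsg.Agent.FusSys

universe u

variable {Ω : Type u} [Group Ω] {S T : Subgroup Ω} {F : FusionSystem S} {E : FusionSystem T}
variable {P Q R U M : Subgroup Ω} {f g : Ω → Ω} {p : ℕ}

theorem card_le_of_le {G : Type*} [Group G] {A B : Subgroup G} (h : A ≤ B) [Finite B] :
    Nat.card A ≤ Nat.card B :=
  Nat.card_le_card_of_injective _ (Subgroup.inclusion_injective h)

namespace Hyp

variable (hyp : Hyp p F E) [Fact p.Prime] [Finite S]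
include hyp

theorem normalizer_le_inter (hP : P ≤ S) : normalizerIn S P ≤ normalizerIn S (P ⊓ T) := by
  intro s hs
  haveI : Finite (P ⊓ T : Subgroup Ω) := finite_of_le (inf_le_left.trans hP)
  refine ⟨hs.1, mem_normalizer_of_maps fun x hx => ?_⟩
  exact ⟨(Subgroup.mem_normalizer_iff.1 hs.2 x).1 hx.1, hyp.diff_mem hs.1 hx.2⟩

/-- Sylow axiom and extension axiom for the generating automorphisms. -/
theorem exists_axioms (hP : TCP S E P) (hfn : E.IsFullyNormalized (P ⊓ T))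
    (hmax : (prodSys p F E).IsFullyNormalized P) :
    ¬ p ∣ (autInducedBy S P).relIndex (AS p F E P) ∧
      ∀ a ∈ AS p F E P, ∀ M : Subgroup Ω, P ≤ M → M ≤ normalizerIn S P →
        (∀ m ∈ M, ∀ β : MulAut P, (∀ x ∈ P, apl β x = m * x * m⁻¹) →
          a * β * a⁻¹ ∈ autInducedBy S P) →
        ∃ f, Mor (prodSys p F E) M f ∧ ∀ x ∈ P, f x = apl a x := by
  have hPS := hP.1
  haveI := finite_of_le hPS
  haveI : Finite (MulAut P) := Finite.of_injective _ MulEquiv.toEquiv_injective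
  obtain ⟨c⟩ := hyp.exists_ctl hP.2 hfn
  obtain ⟨l, hl⟩ : ∃ l, l = c.loc := ⟨_, rfl⟩
  have hN := hyp.normalizer_le_inter hPS
  have hPN : P ≤ normalizerIn S P := le_normalizerIn hPS
  have hPU : P ≤ normalizerIn S (P ⊓ T) := hPN.trans hN
  let eP : Subgroup l.G :=
    { carrier := {z | ∃ x ∈ P, l.e x = z}
      one_mem' := ⟨1, one_mem _, l.e_one⟩
      mul_mem' := by
        rintro _ _ ⟨x, hx, rfl⟩ ⟨y, hy, rfl⟩
        exact ⟨x * y, mul_mem hx hy, l.e_mul (hPU hx) (hPU hy)⟩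
      inv_mem' := by
        rintro _ ⟨x, hx, rfl⟩
        exact ⟨x⁻¹, Subgroup.inv_mem _ hx, l.e_inv (hPU hx)⟩ }
  obtain ⟨Γ, hΓ⟩ : ∃ Γ, Γ = Subgroup.normalizer (eP : Set l.G) := ⟨_, rfl⟩
  have hmov : ∀ g ∈ Γ, ∀ x ∈ P, l.Moves g x ∧ l.cj g x ∈ P := by
    intro g hg x hx
    obtain ⟨y, hy, hye⟩ := (Subgroup.mem_normalizer_iff.1 (hΓ.le hg) _).1 ⟨x, hx, rfl⟩
    exact ⟨⟨y, hPU hy, hye⟩, (l.cj_eq (hPU hy) hye).symm ▸ hy⟩
  have hexist : ∀ g : Γ, ∃ α : MulAut P, ∀ x ∈ P, apl α x = l.cj g x := fun g => by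
    obtain ⟨α, -, hα, -⟩ := l.exists_aut_cj (g := (g : l.G)) hPU
      (fun x hx => (hmov g g.2 x hx).1) fun x hx => (hmov g g.2 x hx).2
    exact ⟨α, hα⟩
  choose π₀ hπ₀ using hexist
  let π : Γ →* MulAut P := MonoidHom.mk' π₀ fun a b => apl_ext fun x hx => by
    rw [hπ₀ _ x hx, apl_mul _ _ hx, hπ₀ b x hx, hπ₀ a _ (hmov b b.2 x hx).2]
    exact (l.cj_mul (hmov b b.2 x hx).1 (hmov a a.2 _ (hmov b b.2 x hx).2).1).2
  have hπ : ∀ (g : Γ) (x : Ω), x ∈ P → apl (π g) x = l.cj g x := hπ₀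
  have hnmem : ∀ (g : l.G), (∀ x ∈ P, ∃ y ∈ P, l.e y = g * l.e x * g⁻¹) → g ∈ Γ := by
    intro g h
    rw [hΓ]
    refine mem_normalizer_of_maps ?_
    rintro _ ⟨x, hx, rfl⟩
    exact h x hx
  -- the Sylow subgroup
  have heΓ : ∀ s ∈ normalizerIn S P, l.e s ∈ Γ := fun s hs => hnmem _ fun x hx =>
    ⟨_, (Subgroup.mem_normalizer_iff.1 hs.2 x).1 hx, l.e_conj (hN hs) (hPU hx)⟩
  let Z₀ : Subgroup Γ :=
    { carrier := {z | ∃ s ∈ normalizerIn S P, l.e s = (z : l.G)}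
      one_mem' := ⟨1, one_mem _, l.e_one⟩
      mul_mem' := by
        rintro a b ⟨x, hx, hxa⟩ ⟨y, hy, hyb⟩
        exact ⟨x * y, mul_mem hx hy, by
          rw [l.e_mul (hN hx) (hN hy), hxa, hyb, Subgroup.coe_mul]⟩
      inv_mem' := by
        rintro a ⟨x, hx, hxa⟩
        exact ⟨x⁻¹, Subgroup.inv_mem _ hx, by rw [l.e_inv (hN hx), hxa, InvMemClass.coe_inv]⟩ }
  have hZp : IsPGroup p Z₀ := by
    rintro ⟨z, s, hs, hsz⟩
    obtain ⟨j, hj⟩ := l.pWim ⟨_, l.e_mem (hN hs)⟩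
    refine ⟨j, Subtype.ext (Subtype.ext ?_)⟩
    show (z : l.G) ^ p ^ j = 1
    rw [← hsz]
    exact congrArg Subtype.val hj
  obtain ⟨V, hV⟩ := hZp.exists_le_sylow
  have hVZ : (V : Subgroup Γ) = Z₀ := by
    refine le_antisymm ?_ hV
    obtain ⟨x, hx⟩ := exists_conj_mem_sylow (R := (V : Subgroup Γ).map Γ.subtype) (V.2.map _)
      (l.pWim.toSylow l.syl)
    have hmovP : ∀ y ∈ P, l.Moves x y := fun y hy => l.moves_of_range
      (hx _ (Subgroup.mem_map.2 ⟨⟨_, heΓ y (hPN hy)⟩, hV ⟨y, hPN hy, rfl⟩, rfl⟩))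
    obtain ⟨P', hP'⟩ := (l.mor_cj hPU hmovP).exists_iso
    haveI := finite_of_le hP'.right_le
    have hkey : ∀ v : (V : Subgroup Γ), ∃ y ∈ normalizerIn S P',
        l.e y = x * ((v : Γ) : l.G) * x⁻¹ ∧ y ∈ normalizerIn S (P ⊓ T) := by
      intro v
      obtain ⟨y, hy, hye⟩ := l.mem_Wim.1 (hx _ (Subgroup.mem_map.2 ⟨_, v.2, rfl⟩))
      replace hye : l.e y = x * ((v : Γ) : l.G) * x⁻¹ := hye
      refine ⟨y, ⟨hy.1, mem_normalizer_of_maps fun w hw => ?_⟩, hye, hy⟩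
      obtain ⟨a, ha, rfl⟩ := hP'.exists_eq hw
      obtain ⟨b, hb, hbe⟩ :=
        (Subgroup.mem_normalizer_iff.1 (hΓ.le (v : Γ).2) _).1 ⟨a, ha, rfl⟩
      have hya : l.cj x a ∈ normalizerIn S (P ⊓ T) := l.cj_mem (hmovP a ha)
      convert hP'.mem hb using 1
      refine l.e_inj (mul_mem (mul_mem hy hya) (Subgroup.inv_mem _ hy))
        (l.cj_mem (hmovP b hb)) ?_
      rw [l.e_conj hy hya, hye, l.e_cj (hmovP a ha), l.e_cj (hmovP b hb), hbe]
      group
    choose y hyN hye hyU using hkey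
    haveI : Finite (normalizerIn S P') := finite_of_le inf_le_left
    have h1 : Nat.card (V : Subgroup Γ) ≤ Nat.card (normalizerIn S P') :=
      Nat.card_le_card_of_injective (fun v => (⟨y v, hyN v⟩ : normalizerIn S P')) fun a b hab => by
        have h2 := congrArg l.e (congrArg Subtype.val hab)
        rw [hye a, hye b] at h2
        exact Subtype.ext (Subtype.ext (mul_left_cancel (mul_right_cancel h2)))
    have h2 : Nat.card (normalizerIn S P) ≤ Nat.card Z₀ := by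
      refine Nat.card_le_card_of_injective
        (fun s => ⟨⟨l.e s, heΓ s s.2⟩, s, s.2, rfl⟩) fun a b hab => ?_
      exact Subtype.ext (l.e_inj (hN a.2) (hN b.2)
        (congrArg (fun z : Z₀ => ((z : Γ) : l.G)) hab))
    exact (Subgroup.eq_of_le_of_card_ge hV
      (h1.trans ((hmax.2 P' hP'.isConj).trans h2))).ge
  have hπZ : Z₀.map π = autInducedBy S P := by
    ext α
    constructor
    · rintro ⟨z, ⟨s, hs, hsz⟩, rfl⟩
      refine mem_autInducedBy_iff.2 ⟨s, hs.1, hs.2, fun x hx => ?_⟩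
      rw [hπ z x hx, ← hsz]
      exact (l.cj_e (hN hs) (hPU hx)).2
    · intro hα
      obtain ⟨s, hs, hsn, hsx⟩ := mem_autInducedBy_iff.1 hα
      refine ⟨⟨_, heΓ s ⟨hs, hsn⟩⟩, ⟨s, ⟨hs, hsn⟩, rfl⟩, apl_ext fun x hx => ?_⟩
      rw [hπ _ x hx, hsx x hx]
      exact (l.cj_e (hN ⟨hs, hsn⟩) (hPU hx)).2
  have hAS : AS p F E P ≤ π.range := by
    refine sup_le ((Subgroup.closure_le _).2 ?_) ?_
    · rintro σ ⟨hσ, hσc, hσk⟩
      obtain ⟨h, -, hhx⟩ := c.lift P inf_le_left hPU rfl σ hσ hσc hσk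
      subst hl
      refine ⟨⟨h, hnmem h fun x hx => ⟨_, apl_mem σ hx, hhx x hx⟩⟩, apl_ext fun x hx => ?_⟩
      rw [hπ _ x hx]
      exact c.loc.cj_eq (hPU (apl_mem σ hx)) (hhx x hx)
    · rw [← hπZ]
      exact Subgroup.map_le_range π Z₀
  refine ⟨fun hd => ?_, fun a ha M hPM hM hcond => ?_⟩
  · have h1 : (autInducedBy S P).relIndex (AS p F E P) ∣
        (autInducedBy S P).relIndex π.range :=
      ⟨_, (Subgroup.relIndex_mul_relIndex _ _ _ le_sup_right hAS).symm⟩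
    have h2 : (autInducedBy S P).relIndex π.range ∣ Z₀.index := by
      rw [← hπZ, MonoidHom.range_eq_map, Subgroup.relIndex_map_map, top_sup_eq,
        Subgroup.relIndex_top_right]
      exact Subgroup.index_dvd_of_le le_sup_left
    exact V.not_dvd_index (hVZ.symm ▸ (hd.trans h1).trans h2)
  · obtain ⟨g, rfl⟩ := hAS ha
    let R : Subgroup Γ :=
      { carrier := {z | ∃ m ∈ M, (g : l.G) * l.e m * (g : l.G)⁻¹ = (z : l.G)}
        one_mem' := ⟨1, one_mem _, by rw [l.e_one, Subgroup.coe_one]; group⟩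
        mul_mem' := by
          rintro x y ⟨m, hm, hmx⟩ ⟨n, hn, hny⟩
          exact ⟨m * n, mul_mem hm hn, by
            rw [l.e_mul (hN (hM hm)) (hN (hM hn)), Subgroup.coe_mul, ← hmx, ← hny]; group⟩
        inv_mem' := by
          rintro x ⟨m, hm, hmx⟩
          exact ⟨m⁻¹, inv_mem hm, by
            rw [l.e_inv (hN (hM hm)), InvMemClass.coe_inv, ← hmx]; group⟩ }
    have hR : IsPGroup p R := by
      rintro ⟨z, m, hm, hmz⟩
      obtain ⟨j, hj⟩ := l.pWim ⟨_, l.e_mem (hN (hM hm))⟩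
      refine ⟨j, Subtype.ext (Subtype.ext ?_)⟩
      show (z : l.G) ^ p ^ j = 1
      rw [← hmz, conj_pow, show l.e m ^ p ^ j = 1 from congrArg Subtype.val hj]
      group
    have hle : R ≤ (V : Subgroup Γ) ⊔ π.ker := by
      rintro z ⟨m, hm, hmz⟩
      have e : z = g * ⟨_, heΓ m (hM hm)⟩ * g⁻¹ := Subtype.ext hmz.symm
      have h1 : π z ∈ autInducedBy S P := by
        rw [e, map_mul, map_mul, map_inv]
        refine hcond m hm _ fun x hx => ?_
        rw [hπ _ x hx]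
        exact (l.cj_e (hN (hM hm)) (hPU hx)).2
      rw [← hπZ] at h1
      obtain ⟨w, hw, hwz⟩ := h1
      rw [← mul_inv_cancel_left w z]
      exact Subgroup.mul_mem_sup (hVZ.ge hw) (MonoidHom.mem_ker.2 (by
        rw [map_mul, map_inv, hwz, inv_mul_cancel]))
    obtain ⟨k, hk, hkR⟩ := exists_conj_mem_sylow_of_le_sup V π.ker hR hle
    have hkey : ∀ m ∈ M, ∃ s ∈ normalizerIn S P,
        l.e s = ((k * g : Γ) : l.G) * l.e m * ((k * g : Γ) : l.G)⁻¹ := by
      intro m hm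
      obtain ⟨s, hs, hse⟩ := hVZ.le (hkR (g * ⟨_, heΓ m (hM hm)⟩ * g⁻¹) ⟨m, hm, rfl⟩)
      refine ⟨s, hs, hse.trans ?_⟩
      simp only [Subgroup.coe_mul, InvMemClass.coe_inv]
      group
    have hmovM : ∀ m ∈ M, l.Moves ((k * g : Γ) : l.G) m := fun m hm => by
      obtain ⟨s, hs, hse⟩ := hkey m hm
      exact ⟨s, hN hs, hse⟩
    refine ⟨_, l.mor_cj (hM.trans hN) hmovM, fun x hx => ?_⟩
    rw [← hπ (k * g) x hx, map_mul, MonoidHom.mem_ker.1 hk, one_mul]

end Hyp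

end Cfsg.Agent.FusSys.ProdS
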