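import Cfsg.Agent.FusSys.ProdS.Axioms
import Cfsg.Agent.FusSys.SatCriterion

/-!
Conjugation between the members of a class of subgroups with centric part in `T`, read through the
maps carrying normalizers into the normalizer of a top member, is given by the generating
automorphisms and those induced by `S`.
-/

set_option autoImplicit false
set_option linter.unusedSectionVars false
set_option linter.style.haveILetI false
set_option linter.unusedVariables false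

namespace Cfsg.Agent.FusSys.ProdS

open Cfsg Cfsg.FusionSystem Cfsg.Agent.FusSys

universe u

variable {Ω : Type u} [Group Ω] {S T : Subgroup Ω} {F : FusionSystem S} {E : FusionSystem T}
variable {P P₀ Q Q' R U Y : Subgroup Ω} {f g g' : Ω → Ω} {p : ℕ}

/-- The automorphisms of order prime to `p` are generating ones. -/
def Co (p : ℕ) (F : FusionSystem S) (E : FusionSystem T) (Y : Subgroup Ω) : Prop :=
  ∀ α ∈ (prodSys p F E).autGroup Y, (orderOf α).Coprime p → α ∈ A0 p F E Y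

/-- A map carrying `Q` to `P₀` defined on the normalizer. -/
def RM (D : FusionSystem S) (P₀ Q : Subgroup Ω) (g : Ω → Ω) : Prop :=
  Mor D (normalizerIn S Q) g ∧ Iso D Q P₀ g

/-- `f` is given by the generating automorphisms through the maps to `P₀`. -/
def Lk (p : ℕ) (F : FusionSystem S) (E : FusionSystem T) (P₀ Q : Subgroup Ω) (f g g' : Ω → Ω) :
    Prop :=
  ∃ a ∈ AS p F E P₀, ∀ x ∈ Q, g' (f x) = apl a (g x)

/-- A map of the product system between conjugates of `P` has a property closed under composition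
and inverse which the extendable maps and the generators have. -/
theorem prod_induct [Fact p.Prime] [Finite S] (hS : IsPGroup p S) (hne : P ≠ S)
    (C : Subgroup Ω → Subgroup Ω → (Ω → Ω) → Prop)
    (congr : ∀ {Q Q' f g}, C Q Q' f → (∀ x ∈ Q, g x = f x) → C Q Q' g)
    (comp : ∀ {Q Q' Q'' f g}, (prodSys p F E).IsConj P Q → Iso (prodSys p F E) Q Q' f → C Q Q' f →
      Iso (prodSys p F E) Q' Q'' g → C Q' Q'' g → C Q Q'' (g ∘ f))
    (inv : ∀ {Q Q' f g}, (prodSys p F E).IsConj P Q → Iso (prodSys p F E) Q Q' f → C Q Q' f →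
      Iso (prodSys p F E) Q' Q g → (∀ x ∈ Q, g (f x) = x) → C Q' Q g)
    (link : ∀ {Q Q' Y f}, (prodSys p F E).IsConj P Q → Q < Y → Y ≤ normalizerIn S Q →
      Mor (prodSys p F E) Y f → Iso (prodSys p F E) Q Q' f → C Q Q' f)
    (gen : ∀ {Q α}, (prodSys p F E).IsConj P Q → TCP S E Q → α ∈ A0 p F E Q → C Q Q (apl α)) :
    ∀ {Q Q' f}, (prodSys p F E).IsConj P Q → Iso (prodSys p F E) Q Q' f → C Q Q' f := by
  have hout : ∀ R, (prodSys p F E).IsConj P R → R < S := fun R hR =>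
    lt_of_le_of_ne (isConj_le_right hR) fun he => hne (eq_of_le_of_card le_rfl (isConj_le_left hR)
      (by rw [isConj_card_eq hR, he]))
  let M : Subgroup Ω → (Ω → Ω) → Prop := fun A f =>
    Mor (prodSys p F E) A f ∧ ∀ R, R ≤ A → (prodSys p F E).IsConj P R → ∀ R', Iso (prodSys p F E) R R' f → C R R' f
  have hM : SubRel F S M :=
    { congr := fun {A f g} hf he => ⟨hf.1.congr he, fun R hR hPR R' hi =>
        congr (hf.2 R hR hPR R' (hi.congr fun x hx => (he x (hR hx)).symm))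
          fun x hx => he x (hR hx)⟩
      le := fun hf => ⟨hf.1.le, fun x hx => hf.1.mem_S hx⟩
      conj := fun {A s} hA hs => ⟨mor_conj hA hs, mor_conj hA hs, fun R hR hPR R' hi =>
        link hPR (lt_normalizerIn hS (hout R hPR)) le_rfl (mor_conj (normalizerIn_le S R) hs) hi⟩
      comp := fun {A B f g} _ hMf _ hMg hfB => ⟨hMf.1.comp hMg.1 hfB, fun R hR hPR R'' hi => by
        obtain ⟨R', hR'⟩ := (hMf.1.mono hR).exists_iso
        have hR'B : R' ≤ B := fun y hy => by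
          obtain ⟨x, hx, rfl⟩ := hR'.exists_eq hy
          exact hfB x (hR hx)
        obtain ⟨R₂, hR₂⟩ := (hMg.1.mono hR'B).exists_iso
        have e : R₂ = R'' := (hR'.comp hR₂).eq_image hi
        exact e ▸ comp hPR hR' (hMf.2 R hR hPR R' hR') hR₂
          (hMg.2 R' hR'B (isConj_trans hPR hR'.isConj) R₂ hR₂)⟩
      inv := fun {A B f g} hfF hMf hgF hgf => by
        have hf : Iso (prodSys p F E) A B f := ⟨hMf.1, hfF.2⟩
        obtain ⟨g₀, hg₀, hg₀f, -⟩ := hf.symm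
        have hgD : Mor (prodSys p F E) B g := hg₀.1.congr fun y hy => by
          obtain ⟨a, ha, rfl⟩ := hf.exists_eq hy
          rw [hg₀f a ha, hgf a ha]
        refine ⟨hgD, fun R hR hPR R' hi => ?_⟩
        have hR'A : R' ≤ A := fun y hy => by
          obtain ⟨x, hx, rfl⟩ := hi.exists_eq hy
          exact hgF.mem (hR hx)
        have hback : ∀ x ∈ R, f (g x) = x := fun x hx => by
          obtain ⟨a, ha, rfl⟩ := hf.exists_eq (hR hx)
          rw [hgf a ha]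
        have hfi : Iso (prodSys p F E) R' R f := by
          refine ⟨hMf.1.mono hR'A, fun y => ⟨fun hy => ⟨g y, hi.mem hy, hback y hy⟩, ?_⟩⟩
          rintro ⟨x, hx, rfl⟩
          obtain ⟨z, hz, rfl⟩ := hi.exists_eq hx
          rw [hback z hz]
          exact hz
        exact inv (isConj_trans hPR hi.isConj) hfi
          (hMf.2 R' hR'A (isConj_trans hPR hi.isConj) R hfi) hi
          fun y hy => hgf y (hR'A hy) }
  intro Q Q' f hPQ hf
  refine ((mor_prod.1 hf.1).2 M hM fun R α hR hα => ?_).2 Q le_rfl hPQ Q' hf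
  have hm : Mor (prodSys p F E) R (apl α) := mor_gen hR hα
  refine ⟨hm, fun R₁ hR₁ hPR₁ R₁' hi => ?_⟩
  rcases eq_or_lt_of_le hR₁ with rfl | hlt
  · have hii : Iso (prodSys p F E) R₁ R₁ (apl α) :=
      ⟨hm, (iso_apl hR.1 (A0_le hα)).2⟩
    obtain rfl := hii.eq_image hi
    exact gen hPR₁ hR hα
  · exact link hPR₁ (lt_inf_normalizer hS hR.1 hlt) (inf_le_inf_right _ hR.1)
      (hm.mono inf_le_left) hi

namespace Hyp

variable (hyp : Hyp p F E) [Fact p.Prime] [Finite S]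
include hyp

theorem middle {Y₁ Q₁ : Subgroup Ω} {h : Ω → Ω} (hco : Co p F E Y₁) (hQ₁ : TCP S E Q₁)
    (hstd : StdPair (prodSys p F E) p Y₁ Q₁) (hh : RM (prodSys p F E) P₀ Q₁ h) {τ : MulAut Y₁}
    (hτ : τ ∈ pairStab (prodSys p F E) Y₁ Q₁) : Lk p F E P₀ Q₁ (apl τ) h h := by
  haveI := finite_of_le hstd.leS
  haveI : Finite (MulAut Y₁) := Finite.of_injective _ MulEquiv.toEquiv_injective
  obtain ⟨⟨hhN, hhi⟩, hY₁⟩ := hh, hyp.tcp_mono hQ₁ hstd.le hstd.leS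
  have hP₀S := hhi.right_le
  let ψ : pairStab (prodSys p F E) Y₁ Q₁ →* MulAut P₀ :=
    hhi.conjAut.toMonoidHom.comp (pairRes (prodSys p F E) hstd.le)
  have hψ : ∀ β x, x ∈ Q₁ → apl (ψ β) (h x) = h (apl (β : MulAut Y₁) x) := fun β x hx => by
    show apl (hhi.conjAut _) (h x) = _
    rw [hhi.conjAut_apl _ hx, pairRes_apl hstd.le β hx]
  have hp : IsPGroup p ((autInducedBy (pairNorm S Y₁ Q₁) Y₁).subgroupOf
      (pairStab (prodSys p F E) Y₁ Q₁)) :=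
    (isPGroup_autInducedBy (hyp.pS.to_le (pairNorm_le S Y₁ Q₁))).comap_subtype
  have hall : (⊤ : Subgroup (pairStab (prodSys p F E) Y₁ Q₁)) ≤ (AS p F E P₀).comap ψ := by
    rw [← Cfsg.Agent.Fusion.sylow_sup_pResidual (hp.toSylow hstd.syl)]
    refine sup_le (fun β hβ => ?_) ((Subgroup.closure_le _).2 fun β hβ => ?_)
    · obtain ⟨m, hm, -, hmx⟩ := mem_autInducedBy_iff.1 (Subgroup.mem_subgroupOf.1 hβ)
      have hhm := mem_normalizerIn_image hhi.left_le hhN hhi hm.2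
      refine Subgroup.mem_sup_right (mem_autInducedBy_iff.2 ⟨h m, hhm.1, hhm.2, fun y hy => ?_⟩)
      obtain ⟨x, hx, rfl⟩ := hhi.exists_eq hy
      rw [hψ β x hx, hmx x (hstd.le hx),
        hhN.map_conj hm.2 (le_normalizerIn hhi.left_le hx)]
    · have hβc : (orderOf (β : MulAut Y₁)).Coprime p := by
        have h := hβ
        rwa [Set.mem_setOf_eq, ← Subgroup.orderOf_coe] at h
      have hk := hyp.kaut_of_A0 hY₁.1 (hco _ β.2.1 hβc)
      refine Subgroup.mem_sup_left (hyp.A0_transport (prod_iso_F hhi) (hyp.mem_A0 ?_ ?_ ⟨?_, ?_⟩))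
      · exact (mem_autGroup_iff hhi.left_le).2 (prod_iso_F
          ((pairStab_iso hstd.leS hstd.le β.2).congr fun x hx => pairRes_apl hstd.le β hx))
      · exact Nat.Coprime.coprime_dvd_left (orderOf_map_dvd _ β) hβ
      · intro x hx
        rw [pairRes_apl hstd.le β hx]
        exact hk.1 x (hstd.le hx)
      · exact (hk.2.mono (inf_le_inf_right _ hstd.le)).congr fun x hx => pairRes_apl hstd.le β hx.1
  refine ⟨ψ ⟨τ, hτ⟩, hall (Subgroup.mem_top _), fun x hx => ?_⟩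
  rw [hψ _ x hx]

/-- Extendable maps between members of the class. -/
theorem big (hP₀ : TCP S E P₀)
    (htop : ∀ Q, (prodSys p F E).IsConj P₀ Q → Reach (prodSys p F E) Q P₀)
    (hIH : ∀ Y, TCP S E Y → Nat.card P₀ < Nat.card Y →
      SatClass (prodSys p F E) p Y ∧ Co p F E Y) :
    ∀ n, ∀ Q Q' Y f g g', (prodSys p F E).IsConj P₀ Q → Q < Y → Y ≤ normalizerIn S Q →
      Mor (prodSys p F E) Y f → Iso (prodSys p F E) Q Q' f → RM (prodSys p F E) P₀ Q g →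
      RM (prodSys p F E) P₀ Q' g' → Nat.card S - Nat.card Y = n → Lk p F E P₀ Q f g g' := by
  intro n
  induction n using Nat.strong_induction_on with
  | h n ih =>
  have hS := hyp.pS
  have hP₀S := hP₀.1
  have hbigY : ∀ Q Y, (prodSys p F E).IsConj P₀ Q → Q < Y → Y ≤ S →
      TCP S E Q ∧ TCP S E Y ∧ Nat.card P₀ < Nat.card Y := fun Q Y hQ hQY hY => by
    obtain ⟨r, hr⟩ := isConj_iff.1 hQ
    have hQT := hyp.tcp_iso hP₀ (prod_iso_F hr)
    exact ⟨hQT, hyp.tcp_mono hQT hQY.le hY, (isConj_card_eq hQ).trans_lt (card_lt_of_lt' hY hQY)⟩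
  have key : ∀ Q₁ Q₂ Y₁ Y₂ f g g', (prodSys p F E).IsConj P₀ Q₁ → Q₁ < Y₁ →
      Y₁ < normalizerIn S Q₁ → Y₂ < normalizerIn S Q₂ → Iso (prodSys p F E) Y₁ Y₂ f →
      Iso (prodSys p F E) Q₁ Q₂ f → RM (prodSys p F E) P₀ Q₁ g → RM (prodSys p F E) P₀ Q₂ g' →
      Nat.card S - Nat.card Y₁ ≤ n → Lk p F E P₀ Q₁ f g g' := by
    intro Q₁ Q₂ Y₁ Y₂ f g g' hQ₁ hQY hY₁ hY₂ hf hfQ hg hg' hn
    have hY₁S : Y₁ ≤ S := hf.left_le
    have hY₂S : Y₂ ≤ S := hf.right_le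
    obtain ⟨-, hY₁T, hlt⟩ := hbigY Q₁ Y₁ hQ₁ hQY hY₁S
    obtain ⟨Y', Q₀, u, hstd, hu, huQ⟩ := exists_std hS hQY.le (hIH Y₁ hY₁T hlt).1
    obtain ⟨u₁, hu₁, hu₁Y, hu₁Q, -⟩ := to_std hS hstd hQY.le hu huQ
    obtain ⟨f', hf', hf'f, hff'⟩ := hf.symm
    have hQ₂Y : Q₂ ≤ Y₂ := fun y hy => by
      obtain ⟨x, hx, rfl⟩ := hfQ.exists_eq hy
      exact hf.mem (hQY.le hx)
    have hf'Q : Iso (prodSys p F E) Q₂ Q₁ f' := by
      refine ⟨hf'.1.mono hQ₂Y, fun x => ⟨fun hx => ⟨f x, hfQ.mem hx, hf'f x (hQY.le hx)⟩, ?_⟩⟩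
      rintro ⟨y, hy, rfl⟩
      obtain ⟨x, hx, rfl⟩ := hfQ.exists_eq hy
      rw [hf'f x (hQY.le hx)]
      exact hx
    obtain ⟨u₂, hu₂, hu₂Y, hu₂Q, -⟩ := to_std hS hstd hQ₂Y (hf'.comp hu) (hf'Q.comp huQ)
    have big : ∀ Q Y, Q ≤ Y → Y < normalizerIn S Q → Y < pairNorm S Y Q := fun Q Y _ h =>
      lt_of_lt_of_le (lt_inf_normalizer hS (normalizerIn_le S Q) h)
        fun a ha => ⟨⟨ha.1.1, ha.2⟩, ha.1⟩
    have h1 := big Q₁ Y₁ hQY.le hY₁
    have h2 := big Q₂ Y₂ hQ₂Y hY₂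
    have c1 := card_lt_of_lt' (pairNorm_le S Y₁ Q₁) h1
    have c2 := card_lt_of_lt' (pairNorm_le S Y₂ Q₂) h2
    have c3 := hf.card_eq
    have d1 : Nat.card ↥(pairNorm S Y₁ Q₁) ≤ Nat.card S :=
      Nat.le_of_dvd Nat.card_pos (Subgroup.card_dvd_of_le (pairNorm_le S Y₁ Q₁))
    have d2 : Nat.card ↥(pairNorm S Y₂ Q₂) ≤ Nat.card S :=
      Nat.le_of_dvd Nat.card_pos (Subgroup.card_dvd_of_le (pairNorm_le S Y₂ Q₂))
    have hQ₂ := isConj_trans hQ₁ hfQ.isConj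
    have hQ₀ := isConj_trans hQ₁ huQ.isConj
    obtain ⟨h, hh⟩ := htop Q₀ hQ₀
    obtain ⟨a₁, ha₁, hax₁⟩ := ih _ (by omega) Q₁ Q₀ _ u₁ g h hQ₁ (lt_of_lt_of_le hQY h1.le)
      inf_le_right hu₁ hu₁Q hg hh rfl
    obtain ⟨a₂, ha₂, hax₂⟩ := ih _ (by omega) Q₂ Q₀ _ u₂ g' h hQ₂ (lt_of_le_of_lt hQ₂Y h2)
      inf_le_right hu₂ hu₂Q hg' hh rfl
    -- the middle automorphism
    obtain ⟨v, hv, hvu, -⟩ := hu₁Y.symm
    have hvQ : Iso (prodSys p F E) Q₀ Q₁ v := by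
      refine ⟨hv.1.mono hstd.le, fun x => ⟨fun hx => ⟨u₁ x, hu₁Q.mem hx, hvu x (hQY.le hx)⟩, ?_⟩⟩
      rintro ⟨y, hy, rfl⟩
      obtain ⟨x, hx, rfl⟩ := hu₁Q.exists_eq hy
      rw [hvu x (hQY.le hx)]
      exact hx
    haveI := finite_of_le hstd.leS
    obtain ⟨τ, hτ, hτx⟩ := ((hv.comp hf).comp hu₂Y).exists_mem_autGroup
    have hτQ : Iso (prodSys p F E) Q₀ Q₀ (apl τ) :=
      ((hvQ.comp hfQ).comp hu₂Q).congr fun x hx => hτx x (hstd.le hx)
    obtain ⟨hQ₀T, -, hlt'⟩ := hbigY Q₀ Y' hQ₀ (lt_of_le_of_ne hstd.le fun he => by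
      have e1 := hu₁Q.card_eq
      have e2 := hu₁Y.card_eq
      have e3 := card_lt_of_lt' hY₁S hQY
      rw [e1, he, ← e2] at e3
      exact lt_irrefl _ e3) hstd.leS
    obtain ⟨b, hb, hbx⟩ := hyp.middle (hIH Y' (hyp.tcp_mono hQ₀T hstd.le hstd.leS) hlt').2 hQ₀T
      hstd hh (mem_pairStab.2 ⟨hτ, fun x hx =>
        (iso_apl hstd.leS hτ).mem_iff_of_restrict hstd.le hτQ hx⟩)
    refine ⟨a₂⁻¹ * b * a₁, mul_mem (mul_mem (inv_mem ha₂) hb) ha₁, fun x hx => ?_⟩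
    have e1 := hbx _ (hu₁Q.mem hx)
    rw [hax₁ x hx, hτx _ (hstd.le (hu₁Q.mem hx))] at e1
    have e2 : h (u₂ (f (v (u₁ x)))) = apl b (apl a₁ (g x)) := e1
    rw [hvu x (hQY.le hx), hax₂ _ (hfQ.mem hx)] at e2
    rw [apl_mul _ _ (hg.2.mem hx), apl_mul _ _ (apl_mem _ (hg.2.mem hx)), ← e2,
      apl_inv_apl a₂ (hg'.2.mem (hfQ.mem hx))]
  have hid : RM (prodSys p F E) P₀ P₀ id := ⟨mor_id (normalizerIn_le S P₀), iso_id hP₀S⟩
  -- two maps on the whole normalizer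
  have full : ∀ Q g k, (prodSys p F E).IsConj P₀ Q → Q < normalizerIn S Q →
      RM (prodSys p F E) P₀ Q g → RM (prodSys p F E) P₀ Q k →
      Nat.card S - Nat.card (normalizerIn S Q) = n → Lk p F E P₀ Q id g k := by
    intro Q g k hQ hlt hg hk hn
    have hQS := isConj_le_right hQ
    have hQN := le_normalizerIn (S := S) hQS
    obtain ⟨Y₂, hY₂⟩ := hg.1.exists_iso
    obtain ⟨g₁, hg₁, hg₁g, -⟩ := hY₂.symm
    have hY₂N : Y₂ ≤ normalizerIn S P₀ := fun y hy => by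
      obtain ⟨x, hx, rfl⟩ := hY₂.exists_eq hy
      exact mem_normalizerIn_image hQS hg.1 hg.2 hx
    have hP₀Y : P₀ ≤ Y₂ := fun y hy => by
      obtain ⟨x, hx, rfl⟩ := hg.2.exists_eq hy
      exact hY₂.mem (hQN hx)
    have hP₀lt : P₀ < Y₂ := lt_of_le_of_ne hP₀Y fun he => by
      have e1 := card_lt_of_lt' (normalizerIn_le S Q) hlt
      rw [hY₂.card_eq, ← he, ← isConj_card_eq hQ] at e1
      exact lt_irrefl _ e1
    obtain ⟨d, hd⟩ : ∃ d, d = k ∘ g₁ := ⟨_, rfl⟩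
    have hdm : Mor (prodSys p F E) Y₂ d := hd ▸ hg₁.1.comp hk.1 fun y hy => hg₁.mem hy
    have hg₁P : Iso (prodSys p F E) P₀ Q g₁ := by
      refine ⟨hg₁.1.mono hP₀Y, fun x => ⟨fun hx => ⟨g x, hg.2.mem hx, hg₁g x (hQN hx)⟩, ?_⟩⟩
      rintro ⟨y, hy, rfl⟩
      obtain ⟨x, hx, rfl⟩ := hg.2.exists_eq hy
      rw [hg₁g x (hQN hx)]
      exact hx
    have hdP : Iso (prodSys p F E) P₀ P₀ d := hd ▸ hg₁P.comp hk.2
    suffices ∃ a ∈ AS p F E P₀, ∀ y ∈ P₀, d y = apl a y by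
      obtain ⟨a, ha, hay⟩ := this
      refine ⟨a, ha, fun x hx => ?_⟩
      rw [← hay _ (hg.2.mem hx), hd, Function.comp_apply, hg₁g x (hQN hx)]
      rfl
    obtain ⟨Y₃, hY₃⟩ := hdm.exists_iso
    have hY₃N : Y₃ ≤ normalizerIn S P₀ := fun y hy => by
      obtain ⟨x, hx, rfl⟩ := hY₃.exists_eq hy
      exact hdm.mem_normalizerIn hP₀Y hdP hx (hY₂N hx).2
    rcases eq_or_lt_of_le hY₂N with heq | hY₂lt
    · subst heq
      haveI := finite_of_le (normalizerIn_le S P₀)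
      have hdN : Iso (prodSys p F E) (normalizerIn S P₀) (normalizerIn S P₀) d :=
        AM.iso_of_stable hdm fun x hx => hdm.mem_normalizerIn hP₀Y hdP hx hx.2
      obtain ⟨-, hNT, hNlt⟩ := hbigY P₀ _ (isConj_refl hP₀S) hP₀lt (normalizerIn_le S P₀)
      obtain ⟨N₁, Q₁, u, hstd, hu, huQ⟩ := exists_std hS hP₀Y (hIH _ hNT hNlt).1
      obtain ⟨u₁, -, hu₁N, hu₁Q, -⟩ := to_std hS hstd hP₀Y hu huQ
      have hQ₁ := huQ.isConj
      obtain ⟨h, hh, hhu, -⟩ := hu₁N.symm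
      have hN₁le : N₁ ≤ normalizerIn S Q₁ := fun y hy => by
        obtain ⟨x, hx, rfl⟩ := hu₁N.exists_eq hy
        exact hu₁N.1.mem_normalizerIn hP₀Y hu₁Q hx hx.2
      have hN₁eq : N₁ = normalizerIn S Q₁ :=
        eq_of_le_of_card (normalizerIn_le S Q₁) hN₁le
          ((htop Q₁ hQ₁).card_le.trans hu₁N.card_eq.le)
      have hhP : Iso (prodSys p F E) Q₁ P₀ h := by
        refine ⟨hh.1.mono hstd.le, fun x => ⟨fun hx => ⟨u₁ x, hu₁Q.mem hx, hhu x (hP₀Y hx)⟩, ?_⟩⟩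
        rintro ⟨y, hy, rfl⟩
        obtain ⟨x, hx, rfl⟩ := hu₁Q.exists_eq hy
        rw [hhu x (hP₀Y hx)]
        exact hx
      have hhr : RM (prodSys p F E) P₀ Q₁ h := ⟨hN₁eq ▸ hh.1, hhP⟩
      haveI := finite_of_le hstd.leS
      obtain ⟨τ, hτ, hτx⟩ := ((hh.comp hdN).comp hu₁N).exists_mem_autGroup
      have hτQ : Iso (prodSys p F E) Q₁ Q₁ (apl τ) :=
        ((hhP.comp hdP).comp hu₁Q).congr fun x hx => hτx x (hstd.le hx)
      obtain ⟨hQ₁T, hN₁T, hN₁lt⟩ := hbigY Q₁ N₁ hQ₁ (lt_of_le_of_ne hstd.le fun he => by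
        have e1 := card_lt_of_lt' (normalizerIn_le S P₀) hP₀lt
        rw [hu₁N.card_eq, ← he, ← hu₁Q.card_eq] at e1
        exact lt_irrefl _ e1) hstd.leS
      obtain ⟨b, hb, hbx⟩ := hyp.middle (hIH N₁ hN₁T hN₁lt).2 hQ₁T hstd hhr
        (mem_pairStab.2 ⟨hτ, fun x hx =>
          (iso_apl hstd.leS hτ).mem_iff_of_restrict hstd.le hτQ hx⟩)
      refine ⟨b, hb, fun y hy => ?_⟩
      have e1 := hbx _ (hu₁Q.mem hy)
      rw [hτx _ (hstd.le (hu₁Q.mem hy))] at e1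
      have e2 : h (u₁ (d (h (u₁ y)))) = apl b (h (u₁ y)) := e1
      rwa [hhu y (hP₀Y hy), hhu _ (hP₀Y (hdP.mem hy))] at e2
    · have hY₃lt : Y₃ < normalizerIn S P₀ := lt_of_le_of_ne hY₃N fun he => by
        have e1 := card_lt_of_lt' (normalizerIn_le S P₀) hY₂lt
        rw [hY₃.card_eq, he] at e1
        exact lt_irrefl _ e1
      obtain ⟨a, ha, hax⟩ := key P₀ P₀ Y₂ Y₃ d id id (isConj_refl hP₀S) hP₀lt hY₂lt hY₃lt hY₃ hdP
        hid hid (by rw [← hY₂.card_eq]; exact hn.le)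
      exact ⟨a, ha, hax⟩
  intro Q Q' Y f g g' hQ hQY hYN hf hfQ hg hg' hn
  obtain ⟨Y', hY'⟩ := hf.exists_iso
  have hY'N : Y' ≤ normalizerIn S Q' := fun y hy => by
    obtain ⟨x, hx, rfl⟩ := hY'.exists_eq hy
    exact hf.mem_normalizerIn hQY.le hfQ hx (hYN hx).2
  rcases eq_or_lt_of_le hYN with rfl | hYlt
  · have hk : RM (prodSys p F E) P₀ Q (g' ∘ f) :=
      ⟨hf.comp hg'.1 fun x hx => hY'N (hY'.mem hx), hfQ.comp hg'.2⟩
    obtain ⟨a, ha, hax⟩ := full Q g (g' ∘ f) hQ hQY hg hk hn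
    exact ⟨a, ha, hax⟩
  rcases eq_or_lt_of_le hY'N with rfl | hY'lt
  · obtain ⟨f', hf', hf'f, -⟩ := hY'.symm
    have hf'Q : Iso (prodSys p F E) Q' Q f' := by
      refine ⟨hf'.1.mono (le_normalizerIn hfQ.right_le), fun x =>
        ⟨fun hx => ⟨f x, hfQ.mem hx, hf'f x (hQY.le hx)⟩, ?_⟩⟩
      rintro ⟨y, hy, rfl⟩
      obtain ⟨x, hx, rfl⟩ := hfQ.exists_eq hy
      rw [hf'f x (hQY.le hx)]
      exact hx
    have hk : RM (prodSys p F E) P₀ Q' (g ∘ f') :=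
      ⟨hf'.1.comp hg.1 fun x hx => hYN (hf'.mem hx), hf'Q.comp hg.2⟩
    have hlt' : Q' < normalizerIn S Q' := lt_of_le_of_ne (le_normalizerIn hfQ.right_le) fun he => by
      have e1 := card_lt_of_lt' hf.le hQY
      rw [hY'.card_eq, ← he, ← hfQ.card_eq] at e1
      exact lt_irrefl _ e1
    obtain ⟨a, ha, hax⟩ := full Q' g' (g ∘ f') (isConj_trans hQ hfQ.isConj) hlt' hg' hk
      (by rw [← hY'.card_eq]; exact hn)
    refine ⟨a⁻¹, inv_mem ha, fun x hx => ?_⟩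
    have e1 := hax _ (hfQ.mem hx)
    simp only [id_eq, Function.comp_apply, hf'f x (hQY.le hx)] at e1
    rw [e1, apl_inv_apl a (hg'.2.mem (hfQ.mem hx))]
  exact key Q Q' Y Y' f g g' hQ hQY hYlt hY'lt hY' hfQ hg hg' hn.le

/-- All maps between members of the class are given by the generating automorphisms. -/
theorem nice (hP₀ : TCP S E P₀) (hne : P₀ ≠ S)
    (htop : ∀ Q, (prodSys p F E).IsConj P₀ Q → Reach (prodSys p F E) Q P₀)
    (hIH : ∀ Y, TCP S E Y → Nat.card P₀ < Nat.card Y →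
      SatClass (prodSys p F E) p Y ∧ Co p F E Y)
    (hQ : (prodSys p F E).IsConj P₀ Q) (hf : Iso (prodSys p F E) Q Q' f)
    (hg : RM (prodSys p F E) P₀ Q g) (hg' : RM (prodSys p F E) P₀ Q' g') :
    Lk p F E P₀ Q f g g' := by
  have hbig := hyp.big hP₀ htop hIH
  refine prod_induct (F := F) (E := E) hyp.pS hne
    (fun Q Q' f => ∀ g g', RM (prodSys p F E) P₀ Q g → RM (prodSys p F E) P₀ Q' g' →
      Lk p F E P₀ Q f g g') ?_ ?_ ?_ ?_ ?_ hQ hf g g' hg hg'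
  · intro Q Q' f f' h he g g' hg hg'
    obtain ⟨a, ha, hax⟩ := h g g' hg hg'
    exact ⟨a, ha, fun x hx => by rw [he x hx]; exact hax x hx⟩
  · intro Q Q' Q'' f f' hQ hf hC hf' hC' g g'' hg hg''
    obtain ⟨g', hg'⟩ := htop Q' (isConj_trans hQ hf.isConj)
    obtain ⟨a, ha, hax⟩ := hC g g' hg hg'
    obtain ⟨b, hb, hbx⟩ := hC' g' g'' hg' hg''
    refine ⟨b * a, mul_mem hb ha, fun x hx => ?_⟩
    rw [Function.comp_apply, hbx _ (hf.mem hx), hax x hx, apl_mul _ _ (hg.2.mem hx)]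
  · intro Q Q' f f' hQ hf hC hf' hf'f g g' hg hg'
    obtain ⟨a, ha, hax⟩ := hC g' g hg' hg
    refine ⟨a⁻¹, inv_mem ha, fun y hy => ?_⟩
    obtain ⟨x, hx, rfl⟩ := hf.exists_eq hy
    rw [hax x hx, hf'f x hx, apl_inv_apl a (hg'.2.mem hx)]
  · intro Q Q' Y f hQ hQY hYN hf hfQ g g' hg hg'
    exact hbig _ Q Q' Y f g g' hQ hQY hYN hf hfQ hg hg' rfl
  · intro Q α hQ hQT hα g g' hg hg'
    have hQN : Q < normalizerIn S Q := lt_normalizerIn hyp.pS (lt_of_le_of_ne hQT.1 fun he =>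
      hne (eq_of_le_of_card le_rfl hP₀.1 (by rw [isConj_card_eq hQ, he])))
    obtain ⟨a, ha, hax⟩ := hbig _ Q Q (normalizerIn S Q) id g g' hQ hQN le_rfl
      (mor_id (normalizerIn_le S Q)) (iso_id hQT.1) hg hg' rfl
    refine ⟨hg'.2.conjAut α * a, mul_mem (Subgroup.mem_sup_left
      (hyp.A0_transport (prod_iso_F hg'.2) hα)) ha, fun x hx => ?_⟩
    rw [apl_mul _ _ (hg.2.mem hx), ← hax x hx]
    exact (hg'.2.conjAut_apl α hx).symm

end Hyp

end Cfsg.Agent.FusSys.ProdS
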