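import Cfsg.Agent.FusSys.Realized

/-!
The system induced by a group through an injective homomorphism.
-/

set_option autoImplicit false

namespace Cfsg.Agent.FusSys.ProdS

open Cfsg Cfsg.FusionSystem Cfsg.Agent.FusSys

universe u v

variable {Ω : Type u} [Group Ω] {S : Subgroup Ω}

/-- The system that a group induces on `S` through an injective homomorphism. -/
noncomputable def realSys {G : Type v} [Group G] (ι : S →* G) (hι : Function.Injective ι) : FusionSystem S where
  Hom P := {φ | P ≤ S ∧ (∀ x : P, φ x ∈ S) ∧ ∃ g : G, ∀ x : P, thFn ι (φ x) = g * thFn ι (x : Ω) * g⁻¹}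
  le_of_mem h := ⟨h.1, h.2.1⟩
  injective_of_mem := by
    rintro P φ ⟨hP, hφ, g, hg⟩ a b hab
    have h1 : g * thFn ι (a : Ω) * g⁻¹ = g * thFn ι (b : Ω) * g⁻¹ := ((hg a).symm.trans (by rw [hab])).trans (hg b)
    have h2 := mul_left_cancel (mul_right_cancel h1)
    rw [thFn_apply (hP a.2), thFn_apply (hP b.2)] at h2
    exact Subtype.ext (congrArg (fun z : S => (z : Ω)) (hι h2))
  conj_mem := by
    intro P s hP hs
    refine ⟨hP, fun x => S.mul_mem (S.mul_mem hs (hP x.2)) (S.inv_mem hs), ι ⟨s, hs⟩, fun x => ?_⟩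
    show thFn ι (s * (x : Ω) * s⁻¹) = _
    rw [thFn_apply (hP x.2), thFn_apply (S.mul_mem (S.mul_mem hs (hP x.2)) (S.inv_mem hs)), ← map_inv, ← map_mul,
      ← map_mul]
    rfl
  comp_mem := by
    rintro P Q φ ψ ⟨hP, hφS, g, hg⟩ ⟨hQ, hψS, k, hk⟩ h
    refine ⟨hP, fun x => hψS _, k * g, fun x => ?_⟩
    show thFn ι (ψ (φ.codRestrict Q h x)) = _
    rw [hk]
    show k * thFn ι (φ x) * k⁻¹ = _
    rw [hg, mul_inv_rev]
    simp only [mul_assoc]
  inv_mem := by
    rintro P φ ⟨hP, hφS, g, hg⟩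
    have hinj : Function.Injective φ := fun a b hab => by
      have h1 : g * thFn ι (a : Ω) * g⁻¹ = g * thFn ι (b : Ω) * g⁻¹ :=
        ((hg a).symm.trans (by rw [hab])).trans (hg b)
      have h2 := mul_left_cancel (mul_right_cancel h1)
      rw [thFn_apply (hP a.2), thFn_apply (hP b.2)] at h2
      exact Subtype.ext (congrArg (fun z : S => (z : Ω)) (hι h2))
    let e := MonoidHom.ofInjective hinj
    refine ⟨P.subtype.comp e.symm.toMonoidHom, ⟨?_, fun y => hP (e.symm y).2, g⁻¹, fun y => ?_⟩, fun x => ?_⟩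
    · rintro _ ⟨x, rfl⟩
      exact hφS x
    · show thFn ι ((e.symm y : P) : Ω) = g⁻¹ * thFn ι (y : Ω) * g⁻¹⁻¹
      have hy : φ (e.symm y) = (y : Ω) := congrArg Subtype.val (e.apply_symm_apply y)
      rw [← hy, hg]
      group
    · show ((e.symm (φ.rangeRestrict x) : P) : Ω) = x
      congr 1
      exact e.symm_apply_apply x

theorem realSys_isRealizedBy {G : Type v} [Group G] (ι : S →* G) (hι : Function.Injective ι) :
    (realSys ι hι).IsRealizedBy ι := by
  refine ⟨hι, fun P hP φ hφ => ⟨fun ⟨_, _, g, hg⟩ => ⟨g, fun x => ?_⟩, fun ⟨g, hg⟩ => ⟨hP, hφ, g, fun x => ?_⟩⟩⟩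
  · have := hg x
    rwa [thFn_apply (hφ x), thFn_apply (hP x.2)] at this
  · rw [thFn_apply (hφ x), thFn_apply (hP x.2)]
    exact hg x

end Cfsg.Agent.FusSys.ProdS
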