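import Cfsg.Agent.FusSys.ProdS.Lift
import Cfsg.Agent.FusSys.ProdS.RealSys
import Cfsg.Agent.FusSys.Terminating

/-!
At a subgroup `U` of `T` which is centric and fully normalized in the normal subsystem, the fusion
of a finite group with `N_S(U)` as Sylow subgroup lies in the product system.
-/

set_option autoImplicit false
set_option linter.unusedSectionVars false
set_option linter.style.haveILetI false
set_option linter.unusedVariables false
set_option maxHeartbeats 800000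

namespace Cfsg.Agent.FusSys.ProdS

open Cfsg Cfsg.FusionSystem Cfsg.Agent.FusSys

universe u

variable {Ω : Type u} [Group Ω] {S T : Subgroup Ω} {F : FusionSystem S} {E : FusionSystem T}
variable {P Q R U : Subgroup Ω} {f g : Ω → Ω} {p : ℕ}

/-- The index of a subgroup in its product with a normal subgroup. -/
theorem relIndex_sup_normal {G : Type*} [Group G] [Finite G] (A N : Subgroup G) [N.Normal] :
    A.relIndex (A ⊔ N) = (A ⊓ N).relIndex N := by
  have h1 := Subgroup.relIndex_mul_relIndex (A ⊓ N) A (A ⊔ N) inf_le_left le_sup_left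
  have h2 := Subgroup.relIndex_mul_relIndex (A ⊓ N) N (A ⊔ N) inf_le_right le_sup_right
  rw [Subgroup.relIndex_sup_right] at h2
  rw [Subgroup.inf_relIndex_left, ← h2, mul_comm] at h1
  exact Nat.eq_of_mul_eq_mul_right (Nat.pos_of_ne_zero Subgroup.index_ne_zero_of_finite) h1

/-- A local group for the product system, covered by the normal subgroup and the Sylow subgroup, in
which the generating automorphisms lift to the normal subgroup. -/
structure Ctl (p : ℕ) (F : FusionSystem S) (E : FusionSystem T) (U : Subgroup Ω) where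
  /-- The group. -/
  loc : Loc p (prodSys p F E) E U
  split : ∀ g : loc.G, ∃ h ∈ loc.H, ∃ w ∈ loc.Wim, g = h * w
  lift : ∀ (P : Subgroup Ω), U ≤ P → P ≤ normalizerIn S U → P ⊓ T = U → ∀ σ : MulAut P,
    σ ∈ F.autGroup P → (orderOf σ).Coprime p → KAut E P σ →
      ∃ h ∈ loc.H, ∀ x ∈ P, loc.e (apl σ x) = h * loc.e x * h⁻¹

namespace Hyp

variable (hyp : Hyp p F E) [Fact p.Prime] [Finite S]
include hyp

theorem card_normalizer_T {β : MulAut T} (hβ : β ∈ F.autGroup T) {Q₁ Q₂ : Subgroup Ω} (hQ₁ : Q₁ ≤ T)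
    (h : ∀ y, y ∈ Q₂ ↔ ∃ x ∈ Q₁, apl β x = y) :
    Nat.card (normalizerIn T Q₂) ≤ Nat.card (normalizerIn T Q₁) := by
  haveI := hyp.finite_T
  haveI : Finite (normalizerIn T Q₁) := finite_of_le (S := T) inf_le_left
  have hi := iso_apl hyp.T_le hβ
  have key : ∀ y ∈ normalizerIn T Q₂, apl β⁻¹ y ∈ normalizerIn T Q₁ := by
    intro y hy
    have hw := apl_mem β⁻¹ hy.1
    haveI : Finite Q₁ := finite_of_le hQ₁
    refine ⟨hw, mem_normalizer_of_maps fun z hz => ?_⟩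
    have h1 : y * apl β z * y⁻¹ ∈ Q₂ :=
      (Subgroup.mem_normalizer_iff.1 hy.2 _).1 ((h _).2 ⟨z, hz, rfl⟩)
    obtain ⟨z', hz', he⟩ := (h _).1 h1
    have h2 : apl β (apl β⁻¹ y * z * (apl β⁻¹ y)⁻¹) = apl β z' := by
      rw [hi.1.map_conj hw (hQ₁ hz), apl_apl_inv β hy.1, he]
    rwa [hi.1.injOn (T.mul_mem (T.mul_mem hw (hQ₁ hz)) (T.inv_mem hw)) (hQ₁ hz') h2]
  refine Nat.card_le_card_of_injective (fun y => ⟨apl β⁻¹ y, key y y.2⟩) fun a b hab => ?_
  have h1 : apl β⁻¹ (a : Ω) = apl β⁻¹ (b : Ω) := congrArg Subtype.val hab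
  have h2 := congrArg (apl β) h1
  rw [apl_apl_inv β a.2.1, apl_apl_inv β b.2.1] at h2
  exact Subtype.ext h2

/-- A map from `N_S(U)` into the normalizer of a fully normalized conjugate of `U` covers the
normalizer in `T`. -/
theorem cover_normalizer (hUT : U ≤ T) (hfn : E.IsFullyNormalized U) {u : Subgroup Ω}
    {k : Ω → Ω} (hk : Mor F (normalizerIn S U) k) (hkU : Iso F U u k)
    (hkW : ∀ x ∈ normalizerIn S U, k x ∈ normalizerIn S u) :
    ∀ y ∈ normalizerIn T u, ∃ x ∈ normalizerIn T U, k x = y := by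
  obtain ⟨β, hβ, g, hg, hkg⟩ := exists_frattini hyp.inv hUT hkU.1
  obtain ⟨Q₁, hQ₁⟩ := hg.exists_iso
  have h1 := hfn.2 Q₁ hQ₁.isConj
  have h2 := hyp.card_normalizer_T hβ hQ₁.right_le (Q₂ := u) fun y => by
    constructor
    · intro hy
      obtain ⟨x, hx, rfl⟩ := hkU.exists_eq hy
      exact ⟨g x, hQ₁.mem hx, (hkg x hx).symm⟩
    · rintro ⟨x, hx, rfl⟩
      obtain ⟨w, hw, rfl⟩ := hQ₁.exists_eq hx
      exact hkg w hw ▸ hkU.mem hw
  have hle : normalizerIn T U ≤ normalizerIn S U := inf_le_inf_right _ hyp.T_le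
  intro y hy
  exact (hk.mono hle).surj_of_card (inf_le_left.trans hyp.T_le)
    (fun x hx => (⟨StronglyClosed.mor_mem hyp.sc hk (hle hx) hx.1, (hkW x (hle hx)).2⟩ :
      k x ∈ normalizerIn T u))
    (h2.trans h1) hy

/-- The local group for the product system. -/
theorem exists_ctl (hU : E.IsCentric U) (hfn : E.IsFullyNormalized U) :
    Nonempty (Ctl p F E U) := by
  classical
  haveI := hyp.finite_T
  have hS := hyp.pS
  have hUT : U ≤ T := hU.1
  have hUS : U ≤ S := hUT.trans hyp.T_le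
  obtain ⟨u, k, hun, hk, hkU, hkN⟩ := exists_fullyNormalized_mor hS hyp.sat hUS
  have huE : E.IsCentric u := centric_of_mor hyp.inv hU hkU
  have huS : u ≤ S := hun.1
  obtain ⟨l⟩ := hyp.exists_loc huE hun
  obtain ⟨W₀, hkW⟩ := hk.exists_iso
  obtain ⟨k', hk', hk'k, hkk'⟩ := hkW.symm
  have hUN : U ≤ normalizerIn S U := le_normalizerIn hUS
  have hW₀ : W₀ ≤ normalizerIn S u := fun y hy => by
    obtain ⟨x, hx, rfl⟩ := hkW.exists_eq hy
    exact hkN x hx
  have hW₀S : W₀ ≤ S := hW₀.trans inf_le_left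
  haveI := finite_of_le hW₀S
  have huW₀ : u ≤ W₀ := fun y hy => by
    obtain ⟨x, hx, rfl⟩ := hkU.exists_eq hy
    exact hkW.mem (hUN hx)
  have hTcov : ∀ y ∈ normalizerIn S u, y ∈ T → y ∈ W₀ := fun y hy hyT => by
    obtain ⟨x, hx, rfl⟩ := hyp.cover_normalizer hUT hfn hk hkU hkN y ⟨hyT, hy.2⟩
    exact hkW.mem (inf_le_inf_right _ hyp.T_le hx)
  have hkU' : Iso F u U k' := by
    refine ⟨hk'.1.mono huW₀, fun x => ⟨fun hx => ⟨k x, hkU.mem hx, hk'k x (hUN hx)⟩, ?_⟩⟩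
    rintro ⟨y, hy, rfl⟩
    obtain ⟨x, hx, rfl⟩ := hkU.exists_eq hy
    rwa [hk'k x (hUN hx)]
  -- the subgroup of the local group
  let A : Subgroup l.G :=
    { carrier := {g | ∃ x ∈ W₀, l.e x = g}
      one_mem' := ⟨1, one_mem _, l.e_one⟩
      mul_mem' := by
        rintro _ _ ⟨x, hx, rfl⟩ ⟨y, hy, rfl⟩
        exact ⟨x * y, mul_mem hx hy, l.e_mul (hW₀ hx) (hW₀ hy)⟩
      inv_mem' := by
        rintro _ ⟨x, hx, rfl⟩
        exact ⟨x⁻¹, inv_mem hx, l.e_inv (hW₀ hx)⟩ }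
  have hAW : A ≤ l.Wim := by
    rintro _ ⟨x, hx, rfl⟩
    exact l.e_mem (hW₀ hx)
  haveI hHn : l.H.Normal := ⟨fun h hh g => l.H_normal g hh⟩
  obtain ⟨X, hX⟩ : ∃ X, X = A ⊔ l.H := ⟨_, rfl⟩
  have hAX : A ≤ X := hX ▸ le_sup_left
  have hHX : l.H ≤ X := hX ▸ le_sup_right
  have hint : A ⊓ l.H = l.Wim ⊓ l.H := by
    refine le_antisymm (inf_le_inf_right _ hAW) ?_
    rintro g ⟨hg, hgH⟩
    obtain ⟨x, hx, rfl⟩ := l.mem_Wim.1 hg
    exact ⟨⟨x, hTcov x hx ((l.mem_H hx).1 hgH), rfl⟩, hgH⟩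
  let ι : W₀ →* X :=
    { toFun := fun x => ⟨l.e x, hAX ⟨x, x.2, rfl⟩⟩
      map_one' := Subtype.ext l.e_one
      map_mul' := fun x y => Subtype.ext (l.e_mul (hW₀ x.2) (hW₀ y.2)) }
  have hι : Function.Injective ι := fun x y h =>
    Subtype.ext (l.e_inj (hW₀ x.2) (hW₀ y.2) (congrArg Subtype.val h))
  have hιv : ∀ x ∈ W₀, ((thFn ι x : X) : l.G) = l.e x := fun x hx => by rw [thFn_apply hx]; rfl
  have hrange : ι.range = A.subgroupOf X := by
    ext g
    constructor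
    · rintro ⟨x, rfl⟩
      exact ⟨x, x.2, rfl⟩
    · rintro ⟨x, hx, hxg⟩
      exact ⟨⟨x, hx⟩, Subtype.ext hxg⟩
  have hpA : IsPGroup p ι.range := hrange ▸ (l.pWim.to_le hAW).comap_subtype
  have hsyl : ¬ p ∣ ι.range.index := by
    rw [hrange]
    intro hd
    have h1 : A.relIndex X = (l.Wim ⊓ l.H).relIndex l.H := by
      rw [hX, relIndex_sup_normal, hint]
    rw [Subgroup.inf_relIndex_right] at h1
    refine l.syl (dvd_trans hd ?_)
    show A.relIndex X ∣ _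
    rw [h1]
    exact relIndex_normal_dvd _ _
  have hr := realSys_isRealizedBy ι hι
  obtain ⟨Y, hY⟩ : ∃ Y, Y = realSys ι hι := ⟨_, rfl⟩
  rw [← hY] at hr
  have hYs : Y.IsSaturated p := realized_saturated hr ⟨hpA.toSylow hsyl, rfl⟩
  have hW₀p : IsPGroup p W₀ := hS.to_le hW₀S
  have hYrel : ∀ {P : Subgroup Ω} {f : Ω → Ω}, Mor Y P f → P ≤ W₀ ∧ (∀ x ∈ P, f x ∈ W₀) ∧
      ∃ g : X, ∀ x ∈ P, l.e (f x) = (g : l.G) * l.e x * (g : l.G)⁻¹ := by
    intro P f hf
    obtain ⟨hP, hfW, g, hg⟩ := (mor_realized hr).1 hf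
    refine ⟨hP, hfW, g, fun x hx => ?_⟩
    rw [← hιv _ (hfW x hx), hg ⟨x, hP hx⟩ hx]
    rfl
  have hYF : ∀ {P : Subgroup Ω} {f : Ω → Ω}, Mor Y P f → Mor F P f := by
    intro P f hf
    obtain ⟨hP, hfW, g, hg⟩ := hYrel hf
    obtain ⟨f', hf', hfx⟩ := l.mor g P (hP.trans hW₀) fun x hx => by
      rw [← hg x hx]; exact l.e_mem (hW₀ (hfW x hx))
    exact hf'.congr fun x hx =>
      l.e_inj (hW₀ (hfW x hx)) (hfx x hx).1 ((hg x hx).trans (hfx x hx).2.symm)
  -- `u` is normal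
  have hun' : Y.IsNormal u := by
    refine isNormal_iff.2 ⟨huW₀, fun P f hf => ?_⟩
    obtain ⟨hP, hfW, g, hg⟩ := hYrel hf
    have hmov : ∀ x ∈ P ⊔ u, ∃ y ∈ W₀, l.e y = (g : l.G) * l.e x * (g : l.G)⁻¹ := by
      intro x hx
      have hle : P ⊔ u ≤ W₀ := sup_le hP huW₀
      rw [Subgroup.sup_eq_closure] at hx
      induction hx using Subgroup.closure_induction with
      | mem a ha =>
        rcases ha with ha | ha
        · exact ⟨_, hfW a ha, hg a ha⟩
        · obtain ⟨y, hy, he⟩ := l.stab g a ha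
          exact ⟨y, huW₀ hy, he⟩
      | one => exact ⟨1, one_mem _, by rw [l.e_one]; group⟩
      | mul a b ha hb iha ihb =>
        rw [← Subgroup.sup_eq_closure] at ha hb
        obtain ⟨y, hy, he⟩ := iha
        obtain ⟨z, hz, hze⟩ := ihb
        exact ⟨y * z, mul_mem hy hz, by
          rw [l.e_mul (hW₀ hy) (hW₀ hz), l.e_mul (hW₀ (hle ha)) (hW₀ (hle hb)), he, hze]
          group⟩
      | inv a ha iha =>
        rw [← Subgroup.sup_eq_closure] at ha
        obtain ⟨y, hy, he⟩ := iha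
        exact ⟨y⁻¹, inv_mem hy, by rw [l.e_inv (hW₀ hy), l.e_inv (hW₀ (hle ha)), he]; group⟩
    choose! f' hf'W hf'e using hmov
    refine ⟨f', (mor_realized hr).2 ⟨sup_le hP huW₀, hf'W, g, fun x hx => Subtype.ext ?_⟩,
      fun x hx => l.e_inj (hW₀ (hf'W x (Subgroup.mem_sup_left hx))) (hW₀ (hfW x hx))
        (by rw [hf'e x (Subgroup.mem_sup_left hx), hg x hx]),
      fun y => ⟨fun hy => ?_, ?_⟩⟩
    · rw [hιv _ (hf'W _ hx), hf'e _ hx]
      rfl
    · obtain ⟨x, hx, he⟩ := l.stab (g⁻¹ : X) y hy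
      refine ⟨x, hx, l.e_inj (hW₀ (hf'W x (Subgroup.mem_sup_right hx))) (hW₀ (huW₀ hy)) ?_⟩
      rw [hf'e x (Subgroup.mem_sup_right hx), he, InvMemClass.coe_inv]
      group
    · rintro ⟨x, hx, rfl⟩
      obtain ⟨y, hy, he⟩ := l.stab g x hx
      exact l.e_inj (hW₀ (huW₀ hy)) (hW₀ (hf'W x (Subgroup.mem_sup_right hx)))
        (he.trans (hf'e x (Subgroup.mem_sup_right hx)).symm) ▸ hy
  have hpow : ∀ g : X, ∃ j, g ^ p ^ j ∈ l.H.subgroupOf X := by
    intro g
    obtain ⟨a, ha, b, hb, hab⟩ := Subgroup.mem_sup_of_normal_right.1 (hX.le g.2)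
    obtain ⟨j, hj⟩ := l.pWim ⟨a, hAW ha⟩
    refine ⟨j, Subgroup.mem_subgroupOf.2 ?_⟩
    rw [← QuotientGroup.eq_one_iff, SubgroupClass.coe_pow, ← QuotientGroup.mk'_apply, map_pow,
      ← hab, map_mul,
      show QuotientGroup.mk' l.H b = 1 from (QuotientGroup.eq_one_iff _).2 hb, mul_one, ← map_pow,
      show a ^ p ^ j = 1 from congrArg Subtype.val hj, map_one]
  -- the automorphisms
  have haut : ∀ R, u ≤ R → Y.IsFullyAutomized p R → ∀ α ∈ Y.autGroup R,
      ∀ Q : Subgroup Ω, Q ≤ normalizerIn S U → (∀ x ∈ Q, k x ∈ R) →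
        Mor (prodSys p F E) Q (fun x => k' (apl α (k x))) := by
    intro R huR hRa α hα Q hQ hQR
    have hRW : R ≤ W₀ := hRa.1
    haveI := finite_of_le hRW
    obtain ⟨P₁, hP₁⟩ := (hk'.1.mono hRW).exists_iso
    have hP₁N : P₁ ≤ normalizerIn S U := fun y hy => by
      obtain ⟨x, hx, rfl⟩ := hP₁.exists_eq hy
      exact hk'.mem (hRW hx)
    have hUP₁ : U ≤ P₁ := fun y hy => by
      rw [← hk'k y (hUN hy)]
      exact hP₁.mem (huR (hkU.mem hy))
    have hP₁S : P₁ ≤ S := hP₁N.trans inf_le_left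
    have hP₁T : TCP S E P₁ := ⟨hP₁S, centric_of_le hU (le_inf hUP₁ hUT) inf_le_right⟩
    have hYA : ∀ β ∈ Y.autGroup R, β ∈ F.autGroup R := fun β hβ =>
      (mem_autGroup_iff (hRW.trans hW₀S)).2 ⟨hYF (iso_apl hRW hβ).1, (iso_apl hRW hβ).2⟩
    have hgen : Y.autGroup R ≤
        ((prodSys p F E).autGroup P₁).comap hP₁.conjAut.toMonoidHom := by
      obtain ⟨-, V, hV⟩ := hRa
      intro β hβ
      have h1 : (⟨β, hβ⟩ : Y.autGroup R) ∈
          (((prodSys p F E).autGroup P₁).comap hP₁.conjAut.toMonoidHom).subgroupOf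
            (Y.autGroup R) := by
        haveI : Finite (MulAut R) := Finite.of_injective _ MulEquiv.toEquiv_injective
        refine (show (⊤ : Subgroup (Y.autGroup R)) ≤ _ from ?_) (Subgroup.mem_top _)
        rw [← Cfsg.Agent.Fusion.sylow_sup_pResidual V, hV]
        refine sup_le ?_ ((Subgroup.closure_le _).2 ?_)
        · intro γ hγ
          obtain ⟨s, hs, hsn, hsx⟩ := mem_autInducedBy_iff.1 (Subgroup.mem_subgroupOf.1 hγ)
          refine autInducedBy_le_autGroup hP₁S (mem_autInducedBy_iff.2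
            ⟨k' s, inf_le_left (b := Subgroup.normalizer (U : Set Ω)) (hk'.mem hs), ?_,
              fun y hy => ?_⟩)
          · haveI := finite_of_le hP₁S
            refine mem_normalizer_of_maps fun y hy => ?_
            obtain ⟨x, hx, rfl⟩ := hP₁.exists_eq hy
            rw [← hk'.1.map_conj hs (hRW hx)]
            exact hP₁.mem ((Subgroup.mem_normalizer_iff.1 hsn x).1 hx)
          · obtain ⟨x, hx, rfl⟩ := hP₁.exists_eq hy
            show apl (hP₁.conjAut _) (k' x) = _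
            rw [hP₁.conjAut_apl _ hx]
            exact (congrArg k' (hsx x hx)).trans (hk'.1.map_conj hs (hRW hx))
        · rintro ⟨γ, hγ⟩ hγc
          have hγco : (orderOf γ).Coprime p := by
            have h := hγc
            rwa [Set.mem_setOf_eq, ← Subgroup.orderOf_coe] at h
          obtain ⟨g, hg, hgx⟩ := exists_rel_part hr hRW hγ (pow_orderOf_eq_one γ)
            (K := l.H.subgroupOf X) fun g => by
              obtain ⟨j, hj⟩ := hpow g
              refine ⟨p ^ j, hγco.pow_right j, fun n hn => ?_⟩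
              obtain ⟨c, rfl⟩ := Nat.modEq_zero_iff_dvd.1 hn
              rw [pow_mul]
              exact Subgroup.pow_mem _ hj c
          have hgH : (g : l.G) ∈ l.H := Subgroup.mem_subgroupOf.1 hg
          have hgx' : ∀ x ∈ R, l.e (apl γ x) = (g : l.G) * l.e x * (g : l.G)⁻¹ := fun x hx =>
            (congrArg Subtype.val (hgx ⟨x, hRW hx⟩ hx)).symm
          obtain ⟨σ, hσd⟩ : ∃ σ, σ = hP₁.conjAut γ := ⟨_, rfl⟩
          have hσF : σ ∈ F.autGroup P₁ := hσd ▸ hP₁.conjAut_mem (hYA γ hγ)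
          have hσc : (orderOf σ).Coprime p := by rwa [hσd, AM.orderOf_conjAut]
          show hP₁.conjAut γ ∈ (prodSys p F E).autGroup P₁
          rw [← hσd]
          refine A0_le_prod hP₁T (hyp.mem_A0 hσF hσc ⟨fun y hy => ?_, ?_⟩)
          · obtain ⟨x, hx, rfl⟩ := hP₁.exists_eq hy
            have hy' := apl_mem γ hx
            rw [hσd, hP₁.conjAut_apl γ hx, ← hP₁.1.map_inv hx,
              ← hP₁.1.map_mul (R.inv_mem hx) hy']
            refine StronglyClosed.mor_mem hyp.sc hP₁.1 (R.mul_mem (R.inv_mem hx) hy') ?_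
            refine (l.mem_H (hW₀ (hRW (R.mul_mem (R.inv_mem hx) hy')))).1 ?_
            rw [l.e_mul (hW₀ (hRW (R.inv_mem hx))) (hW₀ (hRW hy')), l.e_inv (hW₀ (hRW hx)),
              hgx' x hx, show (l.e x)⁻¹ * ((g : l.G) * l.e x * (g : l.G)⁻¹) =
                (l.e x)⁻¹ * (g : l.G) * (l.e x)⁻¹⁻¹ * (g : l.G)⁻¹ by group]
            exact mul_mem (l.H_normal _ hgH) (inv_mem hgH)
          · obtain ⟨a, ha, hax⟩ := l.act _ hgH
            have hb := conjAut_mem_of_isInvariant hyp.inv huE.1 hkU' ha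
            have hag : ∀ y ∈ U, apl σ y = apl (hkU'.conjAut a) y := by
              intro y hy
              obtain ⟨x, hx, rfl⟩ := hkU'.exists_eq hy
              rw [hkU'.conjAut_apl a hx, hσd, hP₁.conjAut_apl γ (huR hx)]
              congr 1
              exact l.e_inj (hW₀ (hRW (apl_mem γ (huR hx)))) (hW₀ (huW₀ (apl_mem a hx)))
                (by rw [hgx' x (huR hx), hax x hx])
            exact AM.mor_ext_inter hS hyp.wn hP₁S hU hUP₁ (hP₁N.trans inf_le_right) hσF hσc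
              (fun y hy => hag y hy ▸ apl_mem _ hy) ((iso_apl hUT hb).1.congr hag)
      exact Subgroup.mem_subgroupOf.1 h1
    have hαc : hP₁.conjAut α ∈ (prodSys p F E).autGroup P₁ := hgen hα
    refine ((iso_apl hP₁S hαc).1.mono fun x hx => ?_).congr fun x hx => ?_
    · rw [← hk'k x (hQ hx)]
      exact hP₁.mem (hQR x hx)
    · conv_rhs => rw [← hk'k x (hQ hx), hP₁.conjAut_apl α (hQR x hx)]
  -- all maps
  let M : Subgroup Ω → (Ω → Ω) → Prop := fun P f => P ≤ W₀ ∧ (∀ x ∈ P, f x ∈ W₀) ∧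
    ∀ Q : Subgroup Ω, Q ≤ normalizerIn S U → (∀ x ∈ Q, k x ∈ P) →
      Mor (prodSys p F E) Q (fun x => k' (f (k x)))
  have hM : SubRel Y W₀ M := by
    refine
      { congr := ?_
        le := fun h => ⟨h.1, h.2.1⟩
        conj := ?_
        comp := ?_
        inv := ?_ }
    · rintro P f g ⟨h1, h2, h3⟩ he
      exact ⟨h1, fun x hx => by rw [he x hx]; exact h2 x hx,
        fun Q hQ hQP => (h3 Q hQ hQP).congr fun x hx => by rw [he _ (hQP x hx)]⟩
    · intro P s hP hs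
      refine ⟨mor_conj hP hs, hP, fun x hx => mul_mem (mul_mem hs (hP hx)) (inv_mem hs),
        fun Q hQ hQP => ?_⟩
      refine (mor_conj (hQ.trans inf_le_left)
        (inf_le_left (b := Subgroup.normalizer (U : Set Ω)) (hk'.mem hs))).congr fun x hx => ?_
      rw [hk'.1.map_conj hs (hkW.mem (hQ hx)), hk'k x (hQ hx)]
    · rintro P P' f f' hf ⟨h1, h2, h3⟩ hf' ⟨h1', h2', h3'⟩ hfP
      refine ⟨h1, fun x hx => h2' _ (hfP x hx), fun Q hQ hQP => ?_⟩
      obtain ⟨Z, hZ⟩ := (h3 Q hQ hQP).exists_iso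
      have hZN : Z ≤ normalizerIn S U := fun z hz => by
        obtain ⟨x, hx, rfl⟩ := hZ.exists_eq hz
        exact hk'.mem (h2 _ (hQP x hx))
      have hZP : ∀ z ∈ Z, k z ∈ P' := fun z hz => by
        obtain ⟨x, hx, rfl⟩ := hZ.exists_eq hz
        rw [hkk' _ (h2 _ (hQP x hx))]
        exact hfP _ (hQP x hx)
      refine (hZ.1.comp (h3' Z hZN hZP) fun x hx => hZ.mem hx).congr fun x hx => ?_
      show k' (f' (f (k x))) = k' (f' (k (k' (f (k x)))))
      rw [hkk' _ (h2 _ (hQP x hx))]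
    · rintro P P' f g hf ⟨h1, h2, h3⟩ hg hgf
      refine ⟨hg.left_le, fun x hx => h1 (hg.mem hx), fun Q hQ hQP => ?_⟩
      obtain ⟨P₁, hP₁⟩ := (hk'.1.mono h1).exists_iso
      have hP₁N : P₁ ≤ normalizerIn S U := fun y hy => by
        obtain ⟨x, hx, rfl⟩ := hP₁.exists_eq hy
        exact hk'.mem (h1 hx)
      obtain ⟨Z, hZ⟩ := (h3 P₁ hP₁N fun y hy => by
        obtain ⟨x, hx, rfl⟩ := hP₁.exists_eq hy
        rw [hkk' x (h1 hx)]
        exact hx).exists_iso
      obtain ⟨r, hr', hrf, -⟩ := hZ.symm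
      have hkey : ∀ y ∈ Q, ∃ x ∈ P, f x = k y ∧ k' (f (k (k' x))) = y := fun y hy => by
        obtain ⟨x, hx, hxy⟩ := hf.exists_eq (hQP y hy)
        exact ⟨x, hx, hxy, by rw [hkk' x (h1 hx), hxy, hk'k y (hQ hy)]⟩
      refine (hr'.1.mono fun y hy => ?_).congr fun y hy => ?_
      · obtain ⟨x, hx, -, hxy⟩ := hkey y hy
        exact hxy ▸ hZ.mem (hP₁.mem hx)
      · obtain ⟨x, hx, hxk, hxy⟩ := hkey y hy
        rw [← hxk, hgf x hx]
        conv_rhs => rw [← hxy, hrf _ (hP₁.mem hx)]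
  have hall : ∀ P f, Mor Y P f → M P f := alperin_induction hW₀p hYs hM fun R hR α hα => by
    have hRW : R ≤ W₀ := hR.elim (fun e => e.le) fun e => e.1.1
    refine ⟨hRW, fun x hx => hRW (apl_mem α hx), fun Q hQ hQR => ?_⟩
    rcases hR with rfl | hR
    · exact haut _ huW₀ (top_fullyAutomized hW₀p hYs) α hα Q hQ hQR
    · exact haut R
        (le_of_normal_centric_radical hW₀p hun' hR.1 (essential_radical hW₀p hYs hR))
        (fullyAutomized_of_fullyNormalized hW₀p hYs hR.2.1) α hα Q hQ hQR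
  -- the data
  let e' : Ω → X := fun x =>
    if h : x ∈ normalizerIn S U then ⟨l.e (k x), hAX ⟨k x, hkW.mem h, rfl⟩⟩ else 1
  have he' : ∀ x ∈ normalizerIn S U, ((e' x : X) : l.G) = l.e (k x) := fun x hx => by
    simp only [e', dif_pos hx]
  refine ⟨⟨
    { G := X
      e := e'
      Wim := ι.range
      H := l.H.subgroupOf X
      e_mul := ?_
      e_inj := ?_
      mem_Wim := ?_
      pWim := hpA
      syl := hsyl
      H_normal := ?_
      mem_H := ?_
      mor := ?_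
      act := ?_
      realise := ?_
      cent := ?_
      stab := ?_ }, ?_, ?_⟩⟩
  · intro x y hx hy
    refine Subtype.ext ?_
    rw [he' _ (mul_mem hx hy), Subgroup.coe_mul, he' x hx, he' y hy, hk.map_mul hx hy,
      l.e_mul (hkN x hx) (hkN y hy)]
  · intro x y hx hy h
    have h1 := congrArg Subtype.val h
    rw [he' x hx, he' y hy] at h1
    exact hk.injOn hx hy (l.e_inj (hkN x hx) (hkN y hy) h1)
  · intro g
    constructor
    · rintro ⟨x, rfl⟩
      obtain ⟨y, hy, hyx⟩ := hkW.exists_eq x.2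
      exact ⟨y, hy, Subtype.ext (by rw [he' y hy, hyx]; rfl)⟩
    · rintro ⟨x, hx, rfl⟩
      exact ⟨⟨k x, hkW.mem hx⟩, Subtype.ext (he' x hx).symm⟩
  · intro h g hh
    exact Subgroup.mem_subgroupOf.2 (by
      rw [Subgroup.coe_mul, Subgroup.coe_mul, InvMemClass.coe_inv]
      exact l.H_normal _ (Subgroup.mem_subgroupOf.1 hh))
  · intro x hx
    rw [Subgroup.mem_subgroupOf, he' x hx, l.mem_H (hkN x hx)]
    refine ⟨fun h => ?_, fun h => StronglyClosed.mor_mem hyp.sc hk hx h⟩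
    rw [← hk'k x hx]
    exact StronglyClosed.mor_mem hyp.sc hk'.1 (hkW.mem hx) h
  · intro g P hP hg
    obtain ⟨P₁, hP₁⟩ := (hk.mono hP).exists_iso
    have hmov : ∀ y ∈ P₁, ∃ z ∈ W₀, l.e z = (g : l.G) * l.e y * (g : l.G)⁻¹ := fun y hy => by
      obtain ⟨x, hx, rfl⟩ := hP₁.exists_eq hy
      obtain ⟨z, hz⟩ := hg x hx
      refine ⟨z, z.2, (congrArg Subtype.val hz).trans ?_⟩
      rw [Subgroup.coe_mul, Subgroup.coe_mul, InvMemClass.coe_inv, he' x (hP hx)]
    choose! f₁ hf₁W hf₁e using hmov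
    have hP₁W : P₁ ≤ W₀ := fun y hy => by
      obtain ⟨x, hx, rfl⟩ := hP₁.exists_eq hy
      exact hkW.mem (hP hx)
    have hf₁ : Mor Y P₁ f₁ := (mor_realized hr).2 ⟨hP₁W, hf₁W, g, fun x hx => Subtype.ext (by
      rw [hιv _ (hf₁W _ hx), hf₁e _ hx]
      rfl)⟩
    refine ⟨fun x => k' (f₁ (k x)), (hall P₁ f₁ hf₁).2.2 P hP fun x hx => hP₁.mem hx,
      fun x hx => ?_⟩
    have hz := hf₁W _ (hP₁.mem hx)
    refine ⟨hk'.mem hz, Subtype.ext ?_⟩
    rw [he' _ (hk'.mem hz), hkk' _ hz, hf₁e _ (hP₁.mem hx), Subgroup.coe_mul, Subgroup.coe_mul,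
      InvMemClass.coe_inv, he' x (hP hx)]
  · intro h hh
    obtain ⟨a, ha, hax⟩ := l.act _ (Subgroup.mem_subgroupOf.1 hh)
    refine ⟨_, conjAut_mem_of_isInvariant hyp.inv huE.1 hkU' ha, fun x hx => Subtype.ext ?_⟩
    obtain ⟨y, hy, rfl⟩ := hkU'.exists_eq hx
    rw [hkU'.conjAut_apl a hy, Subgroup.coe_mul, Subgroup.coe_mul, InvMemClass.coe_inv,
      he' _ (hUN (hkU'.mem (apl_mem a hy))), he' _ (hUN (hkU'.mem hy)),
      hkk' _ (huW₀ (apl_mem a hy)), hkk' _ (huW₀ hy), hax y hy]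
  · intro a ha
    obtain ⟨h, hh, hhx⟩ := l.realise _ (conjAut_mem_of_isInvariant hyp.inv hUT hkU ha)
    refine ⟨⟨h, hHX hh⟩, Subgroup.mem_subgroupOf.2 hh, fun x hx => Subtype.ext ?_⟩
    rw [Subgroup.coe_mul, Subgroup.coe_mul, InvMemClass.coe_inv,
      he' _ (hUN (apl_mem a hx)), he' _ (hUN hx)]
    rw [← hhx _ (hkU.mem hx), hkU.conjAut_apl a hx]
  · intro h hh hfix
    obtain ⟨z, hz, hze⟩ := l.cent _ (Subgroup.mem_subgroupOf.1 hh) fun y hy => by
      obtain ⟨x, hx, rfl⟩ := hkU.exists_eq hy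
      have h1 := congrArg Subtype.val (hfix x hx)
      rwa [Subgroup.coe_mul, Subgroup.coe_mul, InvMemClass.coe_inv, he' x (hUN hx)] at h1
    refine ⟨k' z, hkU'.mem hz, Subtype.ext ?_⟩
    rw [he' _ (hUN (hkU'.mem hz)), hkk' z (huW₀ hz), hze]
  · intro g x hx
    obtain ⟨y, hy, hye⟩ := l.stab g (k x) (hkU.mem hx)
    refine ⟨k' y, hkU'.mem hy, Subtype.ext ?_⟩
    rw [he' _ (hUN (hkU'.mem hy)), hkk' y (huW₀ hy), hye, Subgroup.coe_mul, Subgroup.coe_mul,
      InvMemClass.coe_inv, he' x (hUN hx)]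
  · intro g
    obtain ⟨a, ha, b, hb, hab⟩ := Subgroup.mem_sup_of_normal_right.1 (hX.le g.2)
    refine ⟨⟨a * b * a⁻¹, hHX (l.H_normal a hb)⟩, Subgroup.mem_subgroupOf.2 (l.H_normal a hb),
      ⟨a, hAX ha⟩, hrange.ge (Subgroup.mem_subgroupOf.2 ha), Subtype.ext ?_⟩
    show (g : l.G) = a * b * a⁻¹ * a
    rw [← hab]
    group
  · intro P hUP hPN hPT σ hσ hσc hσk
    obtain ⟨P₁, hP₁⟩ := (hk.mono hPN).exists_iso
    have hP₁N : P₁ ≤ normalizerIn S u := fun y hy => by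
      obtain ⟨x, hx, rfl⟩ := hP₁.exists_eq hy
      exact hkN x (hPN hx)
    have huP₁ : u ≤ P₁ := fun y hy => by
      obtain ⟨x, hx, rfl⟩ := hkU.exists_eq hy
      exact hP₁.mem (hUP hx)
    have hP₁T : P₁ ⊓ T = u := by
      refine le_antisymm (fun y hy => ?_) (le_inf huP₁ huE.1)
      obtain ⟨x, hx, rfl⟩ := (hyp.iso_inter hP₁).exists_eq hy
      exact hkU.mem (hPT ▸ hx)
    obtain ⟨h, hh, -, hhx⟩ := l.exists_lift hyp huE hun huP₁ hP₁N hP₁T
      (hP₁.conjAut_mem hσ) (by rw [AM.orderOf_conjAut]; exact hσc)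
      (hyp.kaut_transport hP₁ hσ hσk)
    refine ⟨⟨h, hHX hh⟩, Subgroup.mem_subgroupOf.2 hh, fun x hx => Subtype.ext ?_⟩
    obtain ⟨hm, he⟩ := hhx _ (hP₁.mem hx)
    rw [hP₁.conjAut_apl σ hx] at he
    show ((e' (apl σ x) : X) : l.G) = h * ((e' x : X) : l.G) * h⁻¹
    rw [he' _ (hPN (apl_mem σ hx)), he' x (hPN hx), ← he, l.e_cj hm]

end Hyp

end Cfsg.Agent.FusSys.ProdS
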