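import Cfsg.Agent.FusSys.InvariantOp
import Cfsg.Agent.FusSys.AMap.Meet.Ext

/-!
The product of a normal subsystem over `T` with `S`: the system generated by `S` and the
automorphisms of order prime to `p`, trivial modulo `T` and in `E` on the part in `T`, of the
subgroups whose part in `T` is centric.
-/

set_option autoImplicit false
set_option linter.unusedSectionVars false
set_option linter.style.haveILetI false
set_option linter.unusedVariables false

namespace Cfsg.Agent.FusSys.ProdS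

open Cfsg Cfsg.FusionSystem Cfsg.Agent.FusSys

universe u

variable {Ω : Type u} [Group Ω] {S T : Subgroup Ω} {F : FusionSystem S} {E : FusionSystem T}
variable {P Q R M : Subgroup Ω} {f g : Ω → Ω} {p : ℕ}

/-- A normal subsystem of a system over a `p`-group. -/
structure Hyp (p : ℕ) (F : FusionSystem S) (E : FusionSystem T) : Prop where
  pS : IsPGroup p S
  norm : E.IsNormalIn F p

/-- Subgroups of `S` with centric part in `T`. -/
def TCP (S : Subgroup Ω) {T : Subgroup Ω} (E : FusionSystem T) (P : Subgroup Ω) : Prop :=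
  P ≤ S ∧ E.IsCentric (P ⊓ T)

/-- Trivial modulo `T` and in `E` on the part in `T`. -/
def KAut (E : FusionSystem T) (P : Subgroup Ω) (α : MulAut P) : Prop :=
  (∀ x ∈ P, x⁻¹ * apl α x ∈ T) ∧ Mor E (P ⊓ T) (apl α)

/-- The generating automorphisms of order prime to `p`. -/
def A0 (p : ℕ) (F : FusionSystem S) (E : FusionSystem T) (P : Subgroup Ω) : Subgroup (MulAut P) :=
  Subgroup.closure {α | α ∈ F.autGroup P ∧ (orderOf α).Coprime p ∧ KAut E P α}

/-- These with the automorphisms induced by `S`. -/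
def AS (p : ℕ) (F : FusionSystem S) (E : FusionSystem T) (P : Subgroup Ω) : Subgroup (MulAut P) :=
  A0 p F E P ⊔ autInducedBy S P

/-- The maps generated by `S` and these automorphisms. -/
def GenRel (p : ℕ) (F : FusionSystem S) (E : FusionSystem T) (P : Subgroup Ω) (f : Ω → Ω) : Prop :=
  Mor F P f ∧ ∀ M : Subgroup Ω → (Ω → Ω) → Prop, SubRel F S M →
    (∀ R α, TCP S E R → α ∈ A0 p F E R → M R (apl α)) → M P f

theorem subRel_genRel : SubRel F S (GenRel p F E) where
  congr h1 he := ⟨h1.1.congr he, fun M hM hgen => hM.congr (h1.2 M hM hgen) he⟩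
  le h1 := ⟨h1.1.le, fun _ hx => h1.1.mem_S hx⟩
  conj hP hs := ⟨mor_conj hP hs, mor_conj hP hs, fun M hM _ => (hM.conj hP hs).2⟩
  comp hf h1 hg h2 hfQ := ⟨hf.comp hg hfQ,
    fun M hM hgen => hM.comp hf (h1.2 M hM hgen) hg (h2.2 M hM hgen) hfQ⟩
  inv hf h1 hg hgf := ⟨hg.1, fun M hM hgen => hM.inv hf (h1.2 M hM hgen) hg hgf⟩

/-- The product system. -/
def prodSys (p : ℕ) (F : FusionSystem S) (E : FusionSystem T) : FusionSystem S :=
  subSys (subRel_genRel (p := p) (F := F) (E := E))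

theorem mor_prod : Mor (prodSys p F E) P f ↔ GenRel p F E P f :=
  (mor_subSys _).trans ⟨And.right, fun h => ⟨h.1, h⟩⟩

theorem prod_mor_F (h : Mor (prodSys p F E) P f) : Mor F P f := (mor_prod.1 h).1

theorem prod_iso_F (h : Iso (prodSys p F E) P Q f) : Iso F P Q f := ⟨prod_mor_F h.1, h.2⟩

theorem prod_sub : (prodSys p F E).IsSubsystemOf F :=
  isSubsystemOf_iff_mor.2 fun _ _ h => prod_mor_F h

theorem A0_le : A0 p F E P ≤ F.autGroup P := (Subgroup.closure_le _).2 fun _ h => h.1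

theorem AS_le (hP : P ≤ S) : AS p F E P ≤ F.autGroup P :=
  sup_le A0_le (autInducedBy_le_autGroup hP)

theorem mor_gen (hR : TCP S E R) {α : MulAut R} (hα : α ∈ A0 p F E R) :
    Mor (prodSys p F E) R (apl α) :=
  mor_prod.2 ⟨(iso_apl hR.1 (A0_le hα)).1, fun _ _ hgen => hgen R α hR hα⟩

theorem A0_le_prod (hR : TCP S E R) : A0 p F E R ≤ (prodSys p F E).autGroup R := fun _ hα =>
  Subgroup.subset_closure ((mor_gen hR hα).hom_eq fun x => (apl_coe _ x).symm)

theorem AS_le_prod (hR : TCP S E R) : AS p F E R ≤ (prodSys p F E).autGroup R :=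
  sup_le (A0_le_prod hR) (autInducedBy_le_autGroup hR.1)

namespace Hyp

variable (h : Hyp p F E)
include h

theorem wn : E.IsWeaklyNormalIn F p := h.norm.1

theorem sat : F.IsSaturated p := h.norm.1.2.1

theorem satE : E.IsSaturated p := h.norm.1.1

theorem inv : E.IsInvariantIn F := h.norm.1.2.2

theorem sc : F.StronglyClosed T := h.norm.1.2.2.2.1

theorem T_le : T ≤ S := h.sc.1

theorem pT : IsPGroup p T := h.pS.to_le h.T_le

theorem E_mor_F (hf : Mor E P f) : Mor F P f := sub_of_invariant h.inv hf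

/-- Elements of `S` normalize `T`. -/
theorem S_norm {s : Ω} (hs : s ∈ S) : s ∈ Subgroup.normalizer (T : Set Ω) :=
  StronglyClosed.le_normalizer h.sc hs

theorem diff_mem {s t : Ω} (hs : s ∈ S) (ht : t ∈ T) : s * t * s⁻¹ ∈ T :=
  (Subgroup.mem_normalizer_iff.1 (h.S_norm hs) t).1 ht

variable [Finite S]

theorem finite_T : Finite T := finite_of_le h.T_le

/-- Isomorphisms restrict to the parts in `T`. -/
theorem iso_inter (hf : Iso F P Q f) : Iso F (P ⊓ T) (Q ⊓ T) f := by
  refine ⟨hf.1.mono inf_le_left, fun y => ⟨fun hy => ?_, ?_⟩⟩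
  · obtain ⟨g, hg, hgf, hfg⟩ := hf.symm
    exact ⟨g y, ⟨hg.mem hy.1, StronglyClosed.mor_mem h.sc hg.1 hy.1 hy.2⟩, hfg y hy.1⟩
  · rintro ⟨x, hx, rfl⟩
    exact ⟨hf.mem hx.1, StronglyClosed.mor_mem h.sc hf.1 hx.1 hx.2⟩

theorem tcp_mono (hP : TCP S E P) (hPR : P ≤ R) (hR : R ≤ S) : TCP S E R := by
  haveI := h.finite_T
  exact ⟨hR, centric_of_le hP.2 (inf_le_inf_right _ hPR) inf_le_right⟩

theorem tcp_iso (hP : TCP S E P) (hf : Iso F P Q f) : TCP S E Q :=
  ⟨hf.right_le, centric_of_mor h.inv hP.2 (h.iso_inter hf)⟩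

theorem tcp_top : TCP S E S := by
  haveI := h.finite_T
  refine ⟨le_rfl, ?_⟩
  rw [inf_eq_right.2 h.T_le]
  exact centric_top E

/-! ### The generating automorphisms -/

theorem kaut_one (hP : P ≤ S) : KAut E P 1 :=
  ⟨fun x hx => by rw [apl_one hx, inv_mul_cancel]; exact T.one_mem,
    (mor_id inf_le_right).congr fun _ hx => apl_one hx.1⟩

theorem kaut_mem {α : MulAut P} (hα : KAut E P α) {x : Ω} (hx : x ∈ P ⊓ T) :
    apl α x ∈ P ⊓ T := by
  refine ⟨apl_mem α hx.1, ?_⟩
  have h1 := T.mul_mem hx.2 (hα.1 x hx.1)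
  rwa [mul_inv_cancel_left] at h1

theorem kaut_mul {α β : MulAut P} (hα : KAut E P α) (hβ : KAut E P β) : KAut E P (α * β) := by
  refine ⟨fun x hx => ?_, (hβ.2.comp hα.2 fun x hx => h.kaut_mem hβ hx).congr
    fun x hx => apl_mul α β hx.1⟩
  rw [apl_mul _ _ hx]
  have h1 := T.mul_mem (hβ.1 x hx) (hα.1 _ (apl_mem β hx))
  rwa [mul_assoc, mul_inv_cancel_left] at h1

theorem kaut_inv (hP : P ≤ S) {α : MulAut P} (hα : KAut E P α) : KAut E P α⁻¹ := by
  refine ⟨fun x hx => ?_, ?_⟩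
  · have h1 := T.inv_mem (hα.1 _ (apl_mem α⁻¹ hx))
    rwa [apl_apl_inv α hx, mul_inv_rev, inv_inv] at h1
  · haveI := h.finite_T
    obtain ⟨g, hg, hga, -⟩ := (AM.iso_of_stable hα.2 fun x hx => h.kaut_mem hα hx).symm
    refine hg.1.congr fun y hy => ?_
    obtain ⟨x, hx, rfl⟩ := (AM.iso_of_stable hα.2 fun x hx => h.kaut_mem hα hx).exists_eq hy
    rw [hga x hx, apl_inv_apl α hx.1]

theorem kaut_of_A0 (hP : P ≤ S) {α : MulAut P} (hα : α ∈ A0 p F E P) : KAut E P α := by
  induction hα using Subgroup.closure_induction with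
  | mem a ha => exact ha.2.2
  | one => exact h.kaut_one hP
  | mul a b _ _ ha hb => exact h.kaut_mul ha hb
  | inv a _ ha => exact h.kaut_inv hP ha

theorem mem_A0 {α : MulAut P} (hα : α ∈ F.autGroup P) (hco : (orderOf α).Coprime p)
    (hk : KAut E P α) : α ∈ A0 p F E P :=
  Subgroup.subset_closure ⟨hα, hco, hk⟩

theorem kaut_transport (hf : Iso F P Q f) {α : MulAut P} (hαF : α ∈ F.autGroup P)
    (hα : KAut E P α) : KAut E Q (hf.conjAut α) := by
  refine ⟨fun y hy => ?_, ?_⟩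
  · obtain ⟨x, hx, rfl⟩ := hf.exists_eq hy
    rw [hf.conjAut_apl α hx, ← hf.1.map_inv hx, ← hf.1.map_mul (P.inv_mem hx) (apl_mem α hx)]
    exact StronglyClosed.mor_mem h.sc hf.1 (P.mul_mem (P.inv_mem hx) (apl_mem α hx)) (hα.1 x hx)
  · haveI := h.finite_T
    have hi := h.iso_inter hf
    obtain ⟨a, ha, hax⟩ := (AM.iso_of_stable hα.2 fun x hx => h.kaut_mem hα hx).exists_mem_autGroup
    refine (iso_apl inf_le_right (conjAut_mem_of_isInvariant h.inv inf_le_right hi ha)).1.congr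
      fun y hy => ?_
    obtain ⟨x, hx, rfl⟩ := hi.exists_eq hy
    rw [hi.conjAut_apl a hx, hax x hx, hf.conjAut_apl α hx.1]

theorem A0_transport (hf : Iso F P Q f) {α : MulAut P} (hα : α ∈ A0 p F E P) :
    hf.conjAut α ∈ A0 p F E Q := by
  induction hα using Subgroup.closure_induction with
  | mem a ha =>
    exact h.mem_A0 (hf.conjAut_mem ha.1) (by rw [AM.orderOf_conjAut]; exact ha.2.1)
      (h.kaut_transport hf ha.1 ha.2.2)
  | one => rw [map_one]; exact one_mem _
  | mul a b _ _ ha hb => rw [map_mul]; exact mul_mem ha hb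
  | inv a _ ha => rw [map_inv]; exact inv_mem ha

theorem A0_conj (hP : P ≤ S) {g α : MulAut P} (hg : g ∈ F.autGroup P) (hα : α ∈ A0 p F E P) :
    g * α * g⁻¹ ∈ A0 p F E P := by
  have h1 := h.A0_transport (iso_apl hP hg) hα
  rwa [AM.conjAut_apl_iso hP hg] at h1

theorem mem_AS_iff (hP : P ≤ S) {α : MulAut P} :
    α ∈ AS p F E P ↔ ∃ a ∈ A0 p F E P, ∃ s ∈ autInducedBy S P, a * s = α := by
  haveI := finite_of_le hP
  haveI : Finite (MulAut P) := Finite.of_injective _ MulEquiv.toEquiv_injective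
  have hle : autInducedBy S P ≤ Subgroup.normalizer (A0 p F E P : Set (MulAut P)) := fun s hs =>
    mem_normalizer_of_conj_mem fun a ha => h.A0_conj hP (autInducedBy_le_autGroup hP hs) ha
  rw [← SetLike.mem_coe, AS, Subgroup.coe_mul_of_right_le_normalizer_left _ _ hle, Set.mem_mul]
  rfl

end Hyp

end Cfsg.Agent.FusSys.ProdS
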