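import Cfsg.Agent.FusSys.ProdS.Act
import Cfsg.Agent.FusSys.KNorm
import Cfsg.Agent.FusSys.Inner

/-!
For `U ≤ P ≤ N_S(U)` the system of the maps acting on `U` as elements of `P`, over `P C_S(U)`.
-/

set_option autoImplicit false
set_option linter.unusedSectionVars false
set_option linter.style.haveILetI false
set_option linter.unusedVariables false

namespace Cfsg.Agent.FusSys.ProdS

open Cfsg Cfsg.FusionSystem Cfsg.Agent.FusSys

universe u

variable {Ω : Type u} [Group Ω] {S T : Subgroup Ω} {F : FusionSystem S} {E : FusionSystem T}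
variable {P Q R U : Subgroup Ω} {f g : Ω → Ω} {p : ℕ}

/-- `P C_S(U)`. -/
def MM (S U P : Subgroup Ω) : Subgroup Ω := P ⊔ centralizerIn S U

/-- The maps acting on `U` as elements of `P`. -/
def KRel (F : FusionSystem S) (U P : Subgroup Ω) (X : Subgroup Ω) (f : Ω → Ω) : Prop :=
  X ≤ MM S U P ∧ (∀ x ∈ X, f x ∈ MM S U P) ∧
    ∃ g, Mor F (X ⊔ U) g ∧ (∀ x ∈ X, g x = f x) ∧ InK (autInducedBy P U) g

section

variable (hUP : U ≤ P) (hPW : P ≤ normalizerIn S U)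
include hUP hPW

theorem le_MM : U ≤ MM S U P := hUP.trans le_sup_left

theorem MM_le : MM S U P ≤ normalizerIn S U :=
  sup_le hPW (centralizerIn_le_normalizerIn S U)

theorem MM_le_S : MM S U P ≤ S := (MM_le hUP hPW).trans inf_le_left

/-- An element of `P C_S(U)` acts on `U` as an element of `P`. -/
theorem MM_inK {s : Ω} (hs : s ∈ MM S U P) :
    InK (autInducedBy P U) (fun x => s * x * s⁻¹) := by
  rw [MM, Subgroup.sup_eq_closure] at hs
  induction hs using Subgroup.closure_induction with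
  | mem a ha =>
    rcases ha with ha | ha
    · obtain ⟨κ, hκ, hκx⟩ := exists_mem_autInducedBy (P := U) ha (hPW ha).2
      exact ⟨κ, hκ, fun x hx => (hκx x hx).symm⟩
    · exact ⟨1, one_mem _, fun x hx => (AM.comm_of_mem ha hx).trans (apl_one hx).symm⟩
  | one =>
    exact ⟨1, one_mem _, fun x hx => (by group : (1 : Ω) * x * 1⁻¹ = x).trans (apl_one hx).symm⟩
  | mul a b _ _ iha ihb =>
    exact (ihb.comp iha).congr fun x _ =>
      (by group : a * b * x * (a * b)⁻¹ = a * (b * x * b⁻¹) * a⁻¹)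
  | inv a _ iha => exact iha.inv fun x _ => (by group : a⁻¹ * (a * x * a⁻¹) * a⁻¹⁻¹ = x)

theorem MM_mem_iff [Finite S] (hUS : U ≤ S) {s : Ω} :
    s ∈ MM S U P ↔ s ∈ S ∧ s ∈ Subgroup.normalizer (U : Set Ω) ∧
      InK (autInducedBy P U) (fun x => s * x * s⁻¹) := by
  refine ⟨fun hs => ⟨(MM_le hUP hPW hs).1, (MM_le hUP hPW hs).2, MM_inK hUP hPW hs⟩, ?_⟩
  rintro ⟨hsS, -, κ, hκ, hκx⟩
  obtain ⟨x, hx, -, hxx⟩ := mem_autInducedBy_iff.1 hκ
  have hc : x⁻¹ * s ∈ centralizerIn S U :=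
    AM.mem_centralizerIn (S.mul_mem (S.inv_mem (hPW hx).1) hsS) fun y hy => by
      calc x⁻¹ * s * y * (x⁻¹ * s)⁻¹ = x⁻¹ * (s * y * s⁻¹) * x := by group
        _ = y := by rw [show s * y * s⁻¹ = apl κ y from hκx y hy, hxx y hy]; group
  have h1 := Subgroup.mul_mem_sup hx hc
  rwa [mul_inv_cancel_left] at h1

theorem subRel_kRel : SubRel F (MM S U P) (KRel F U P) where
  congr h1 he := ⟨h1.1, fun x hx => by rw [he x hx]; exact h1.2.1 x hx, by
    obtain ⟨g, hg, hgf, hgK⟩ := h1.2.2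
    exact ⟨g, hg, fun x hx => by rw [hgf x hx, he x hx], hgK⟩⟩
  le h1 := ⟨h1.1, h1.2.1⟩
  conj := by
    intro X s hX hs
    have hsS := MM_le_S hUP hPW hs
    have hXS := hX.trans (MM_le_S hUP hPW)
    refine ⟨mor_conj hXS hsS, hX, fun x hx => mul_mem (mul_mem hs (hX hx)) (inv_mem hs),
      fun x => s * x * s⁻¹, mor_conj (sup_le hXS ((le_MM hUP hPW).trans (MM_le_S hUP hPW))) hsS,
      fun _ _ => rfl, MM_inK hUP hPW hs⟩
  comp := by
    rintro X Y f f' hf ⟨hX, hfX, g, hg, hgf, hgK⟩ hf' ⟨hY, hfY, g', hg', hgf', hgK'⟩ hfQ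
    refine ⟨hX, fun x hx => hfY _ (hfQ x hx), g' ∘ g, hg.comp hg' fun x hx => ?_, fun x hx => ?_,
      hgK.comp hgK'⟩
    · exact hg.mem_of_sup (fun a ha => Subgroup.mem_sup_left ((hgf a ha).symm ▸ hfQ a ha))
        (fun a ha => Subgroup.mem_sup_right (hgK.mem ha)) hx
    · show g' (g x) = f' (f x)
      rw [hgf x hx, hgf' _ (hfQ x hx)]
  inv := by
    rintro X Y f k hf ⟨hX, hfX, g, hg, hgf, hgK⟩ hk hkf
    obtain ⟨Z, hZ⟩ := hg.exists_iso
    obtain ⟨g', hg', hg'g, -⟩ := hZ.symm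
    have hle : Y ⊔ U ≤ Z := sup_le (fun y hy => by
        obtain ⟨x, hx, rfl⟩ := hf.exists_eq hy
        exact (hgf x hx) ▸ hZ.mem (Subgroup.mem_sup_left hx))
      fun y hy => by
        obtain ⟨x, hx, rfl⟩ := hgK.surj hy
        exact hZ.mem (Subgroup.mem_sup_right hx)
    refine ⟨fun y hy => ?_, fun y hy => hX (hk.mem hy), g', hg'.1.mono hle, fun y hy => ?_,
      hgK.inv fun x hx => hg'g x (Subgroup.mem_sup_right hx)⟩
    · obtain ⟨x, hx, rfl⟩ := hf.exists_eq hy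
      exact hfX x hx
    · obtain ⟨x, hx, rfl⟩ := hf.exists_eq hy
      rw [← hgf x hx, hg'g x (Subgroup.mem_sup_left hx), hgf x hx, hkf x hx]

/-- The system of the maps acting on `U` as elements of `P`. -/
def kSys (F : FusionSystem S) : FusionSystem (MM S U P) := subSys (subRel_kRel (F := F) hUP hPW)

theorem mor_kSys {X : Subgroup Ω} :
    Mor (kSys hUP hPW F) X f ↔ Mor F X f ∧ KRel F U P X f := mor_subSys _

variable [Finite S]

theorem kSys_isKSys (hUS : U ≤ S) : IsKSys F (autInducedBy P U) (kSys hUP hPW F) :=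
  ⟨hUS, fun _ => MM_mem_iff hUP hPW hUS, fun _ _ => mor_kSys hUP hPW⟩

variable [Fact p.Prime] (hS : IsPGroup p S) (hF : F.IsSaturated p) (hn : F.IsFullyNormalized U)
include hS hF hn

theorem kSys_sat : (kSys hUP hPW F).IsSaturated p := by
  refine kSys_saturated hS hF (kSys_isKSys hUP hPW hn.1) fun Q' g hg => ?_
  obtain ⟨g', hg', hg'g, hgg'⟩ := hg.symm
  obtain ⟨k, hk, hkg⟩ :=
    (isReceptive_iff.1 (receptive_of_fullyNormalized hS hF hn)).2 Q' g' hg'
  refine ⟨_, k, hg'.1.le_nPhi, hk, ⟨1, one_mem _, fun x hx => ?_⟩, fun s hs hsK => ?_⟩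
  · show k (g x) = _
    rw [hkg _ (hg.mem hx), hg'g x hx, apl_one hx]
  · obtain ⟨κ, hκ, hκx⟩ := hsK
    obtain ⟨t, ht, htn, htx⟩ := mem_autInducedBy_iff.1 hκ
    haveI := finite_of_le hg.right_le
    refine mem_nPhi.2 ⟨hs, mem_normalizer_of_maps fun y hy => ?_, t, (hPW ht).1, fun y hy => ?_⟩
    · obtain ⟨x, hx, rfl⟩ := hg.exists_eq hy
      rw [hκx x hx]
      exact hg.mem (apl_mem κ hx)
    · obtain ⟨x, hx, rfl⟩ := hg.exists_eq hy
      rw [hκx x hx, hg'g _ (apl_mem κ hx), hg'g x hx, htx x hx]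

omit hS hF hn in
theorem U_normal (hUS : U ≤ S) : (kSys hUP hPW F).IsNormal U := by
  refine isNormal_iff.2 ⟨le_MM hUP hPW, fun X f hf => ?_⟩
  obtain ⟨hfF, hX, hfX, g, hg, hgf, hgK⟩ := (mor_kSys hUP hPW).1 hf
  refine ⟨g, (mor_kSys hUP hPW).2 ⟨hg, sup_le hX (le_MM hUP hPW), fun x hx => ?_, g,
    hg.mono (sup_le le_rfl le_sup_right), fun _ _ => rfl, hgK⟩, hgf,
    fun y => ⟨fun hy => hgK.surj hy, fun ⟨x, hx, hxy⟩ => hxy ▸ hgK.mem hx⟩⟩
  exact hg.mem_of_sup (fun a ha => (hgf a ha).symm ▸ hfX a ha)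
    (fun a ha => le_MM hUP hPW (hgK.mem ha)) hx

end

end Cfsg.Agent.FusSys.ProdS
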