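import Cfsg.Agent.FusSys.ProdS.Trans

/-!
The generating automorphisms of a subgroup of `N_S(U)` with part `U` in `T` are induced by elements
of order prime to `p` of the normal subgroup of the local group at `U`.
-/

set_option autoImplicit false
set_option linter.unusedSectionVars false
set_option linter.style.haveILetI false
set_option linter.unusedVariables false

namespace Cfsg.Agent.FusSys.ProdS

open Cfsg Cfsg.FusionSystem Cfsg.Agent.FusSys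

universe u

variable {Ω : Type u} [Group Ω] {S T : Subgroup Ω} {F : FusionSystem S} {E : FusionSystem T}
variable {P Q U : Subgroup Ω} {f g : Ω → Ω} {p : ℕ}

namespace Loc

variable (l : Loc p F E U)

theorem cj_prod {h : l.G} {a b : Ω} (haW : a ∈ normalizerIn S U) (hbW : b ∈ normalizerIn S U)
    (ha : l.Moves h a) (hb : l.Moves h b) :
    l.Moves h (a * b) ∧ l.cj h (a * b) = l.cj h a * l.cj h b := by
  have hm := Subgroup.mul_mem _ (l.cj_mem ha) (l.cj_mem hb)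
  have he : l.e (l.cj h a * l.cj h b) = h * l.e (a * b) * h⁻¹ := by
    rw [l.e_mul (l.cj_mem ha) (l.cj_mem hb), l.e_cj ha, l.e_cj hb, l.e_mul haW hbW]
    group
  exact ⟨⟨_, hm, he⟩, l.cj_eq hm he⟩

theorem cj_inv {h : l.G} {a : Ω} (haW : a ∈ normalizerIn S U) (ha : l.Moves h a) :
    l.Moves h a⁻¹ ∧ l.cj h a⁻¹ = (l.cj h a)⁻¹ := by
  have hm := Subgroup.inv_mem _ (l.cj_mem ha)
  have he : l.e (l.cj h a)⁻¹ = h * l.e a⁻¹ * h⁻¹ := by
    rw [l.e_inv (l.cj_mem ha), l.e_cj ha, l.e_inv haW]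
    group
  exact ⟨⟨_, hm, he⟩, l.cj_eq hm he⟩

/-- An element of the normal subgroup sends `m` to `m' z` with `z ∈ U` when it carries the action
of `m` on `U` to that of `m'` and `m` agrees with `m'` modulo `T`. -/
theorem exists_cj_eq_mul (hyp : Hyp p F E) (hUS : U ≤ S) {h : l.G} (hh : h ∈ l.H) {m m' : Ω}
    (hm : m ∈ normalizerIn S U) (hm' : m' ∈ normalizerIn S U) (hd : m⁻¹ * m' ∈ T)
    (hc : ∀ y ∈ U, l.cj h (m * y * m⁻¹) = m' * l.cj h y * m'⁻¹) :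
    l.Moves h m ∧ ∃ z ∈ U, l.cj h m = m' * z := by
  obtain ⟨a, ha⟩ : ∃ a, a = h * l.e m * h⁻¹ := ⟨_, rfl⟩
  obtain ⟨b, hb⟩ : ∃ b, b = l.e m' := ⟨_, rfl⟩
  have hmm : m * m'⁻¹ ∈ T := by
    have h1 := hyp.diff_mem hm.1 (T.inv_mem hd)
    rwa [mul_inv_rev, inv_inv, show m * (m'⁻¹ * m) * m⁻¹ = m * m'⁻¹ by group] at h1
  have hH : b⁻¹ * a ∈ l.H := by
    have h1 : a * (l.e m)⁻¹ ∈ l.H := by
      rw [ha, show h * l.e m * h⁻¹ * (l.e m)⁻¹ = h * (l.e m * h⁻¹ * (l.e m)⁻¹) by group]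
      exact Subgroup.mul_mem _ hh (l.H_normal _ (Subgroup.inv_mem _ hh))
    have h2 : l.e m * b⁻¹ ∈ l.H := by
      rw [hb, ← l.e_inv hm', ← l.e_mul hm (Subgroup.inv_mem _ hm')]
      exact (l.mem_H (Subgroup.mul_mem _ hm (Subgroup.inv_mem _ hm'))).2 hmm
    have h3 := l.H_normal b⁻¹ (Subgroup.mul_mem _ h1 h2)
    rwa [show b⁻¹ * (a * (l.e m)⁻¹ * (l.e m * b⁻¹)) * b⁻¹⁻¹ = b⁻¹ * a by group] at h3
  have hUW := Loc.U_le (U := U) hUS
  have hfix : ∀ y ∈ U, b⁻¹ * a * l.e y * (b⁻¹ * a)⁻¹ = l.e y := by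
    intro y hy
    obtain ⟨hmi, hw⟩ := l.moves_U hUS h⁻¹ hy
    obtain ⟨hmw, hwy⟩ := l.cj_inv_cj (hUW hy) hmi
    rw [inv_inv] at hmw hwy
    have hmwm : m * l.cj h⁻¹ y * m⁻¹ ∈ U := (Subgroup.mem_normalizer_iff.1 hm.2 _).1 hw
    have h1 := l.e_cj (l.moves_U hUS h hmwm).1
    rw [hc _ hw, hwy, l.e_conj hm (hUW hw), l.e_conj hm' (hUW hy), ← hb, l.e_cj hmi] at h1
    calc b⁻¹ * a * l.e y * (b⁻¹ * a)⁻¹
        = b⁻¹ * (h * (l.e m * (h⁻¹ * l.e y * h⁻¹⁻¹) * (l.e m)⁻¹) * h⁻¹) * b := by rw [ha]; group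
      _ = b⁻¹ * (b * l.e y * b⁻¹) * b := by rw [h1]
      _ = l.e y := by group
  obtain ⟨z, hz, hze⟩ := l.cent _ hH hfix
  have he : l.e (m' * z) = h * l.e m * h⁻¹ := by
    rw [l.e_mul hm' (hUW hz), hze, ← hb, ← ha]
    group
  have hmem := Subgroup.mul_mem _ hm' (hUW hz)
  exact ⟨⟨_, hmem, he⟩, z, hz, l.cj_eq hmem he⟩

/-- A generating automorphism is induced by an element of order prime to `p` of the normal
subgroup. -/
theorem exists_lift (hyp : Hyp p F E) [Fact p.Prime] [Finite S] (hUE : E.IsCentric U)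
    (hn : F.IsFullyNormalized U) (hUP : U ≤ P) (hPW : P ≤ normalizerIn S U) (hPT : P ⊓ T = U)
    {σ : MulAut P} (hσ : σ ∈ F.autGroup P) (hco : (orderOf σ).Coprime p) (hk : KAut E P σ) :
    ∃ h ∈ l.H, (orderOf h).Coprime p ∧ ∀ x ∈ P, l.Moves h x ∧ l.cj h x = apl σ x := by
  haveI := hyp.finite_T
  have hUS : U ≤ S := hn.1
  have hPS : P ≤ S := hPW.trans inf_le_left
  haveI := finite_of_le hUS
  haveI := finite_of_le hPS
  haveI : Finite (MulAut P) := Finite.of_injective _ MulEquiv.toEquiv_injective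
  have hdU : ∀ x ∈ P, x⁻¹ * apl σ x ∈ U := fun x hx =>
    hPT.le ⟨P.mul_mem (P.inv_mem hx) (apl_mem σ hx), hk.1 x hx⟩
  have hUT : ∀ {y}, y ∈ U → y ∈ T := fun hy => (hPT.ge hy).2
  have hstabU : ∀ (α : MulAut P), α ∈ F.autGroup P → ∀ y ∈ U, apl α y ∈ U := fun α hα y hy =>
    hPT.le ⟨apl_mem α (hUP hy),
      StronglyClosed.mor_mem hyp.sc (iso_apl hPS hα).1 (hUP hy) (hUT hy)⟩
  obtain ⟨a, ha, hax⟩ :=
    (AM.iso_of_stable (hk.2.mono hPT.ge) (hstabU σ hσ)).exists_mem_autGroup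
  obtain ⟨h₀, hh₀, hh₀x⟩ := l.realise a ha
  obtain ⟨π, hπ⟩ := l.exists_resU hUS
  have hUW := Loc.U_le (U := U) hUS
  have hπa : π h₀ = a := apl_ext fun x hx => by
    rw [hπ h₀ x hx]
    exact l.cj_eq (hUW (apl_mem a hx)) (hh₀x x hx)
  have haco : (orderOf a).Coprime p := by
    refine Nat.Coprime.coprime_dvd_left (orderOf_dvd_of_pow_eq_one (apl_ext fun x hx => ?_)) hco
    have hkk : ∀ k : ℕ, apl (a ^ k) x = apl (σ ^ k) x := by
      intro k
      induction k with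
      | zero => rw [pow_zero, pow_zero, apl_one hx, apl_one (hUP hx)]
      | succ k ih =>
        rw [pow_succ', pow_succ', apl_mul _ _ hx, apl_mul _ _ (hUP hx),
          hax _ (apl_mem _ hx), ih]
    rw [hkk, pow_orderOf_eq_one, apl_one (hUP hx), apl_one hx]
  obtain ⟨h, hhz, hhco, hhπ⟩ := AM.exists_coprime_preimage (p := p) π (x := h₀)
    (by rw [hπa]; exact haco)
  have hhH : h ∈ l.H := Subgroup.zpowers_le.2 hh₀ hhz
  have hhU : ∀ y ∈ U, l.cj h y = apl σ y := fun y hy => by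
    rw [← hπ h y hy, hhπ, hπa, hax y hy]
  have hnorm : ∀ x ∈ P, ∀ y ∈ U, x * y * x⁻¹ ∈ U := fun x hx y hy =>
    (Subgroup.mem_normalizer_iff.1 (hPW hx).2 y).1 hy
  -- `h` moves `P` modulo `U`
  have hmovP : ∀ x ∈ P, l.Moves h x ∧ ∃ z ∈ U, l.cj h x = apl σ x * z := fun x hx =>
    l.exists_cj_eq_mul hyp hUS hhH (hPW hx) (hPW (apl_mem σ hx)) (hk.1 x hx) fun y hy => by
      rw [hhU _ (hnorm x hx y hy), hhU y hy, (iso_apl hPS hσ).1.map_conj hx (hUP hy)]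
  have hmovC : ∀ c ∈ centralizerIn S U, l.Moves h c ∧ ∃ z ∈ U, l.cj h c = c * z := fun c hc =>
    l.exists_cj_eq_mul hyp hUS hhH (centralizerIn_le_normalizerIn S U hc)
      (centralizerIn_le_normalizerIn S U hc) (by rw [inv_mul_cancel]; exact T.one_mem)
      fun y hy => by
        rw [AM.comm_of_mem hc hy, AM.comm_of_mem hc (l.moves_U hUS h hy).2]
  have hmov : ∀ m ∈ MM S U P, m ∈ normalizerIn S U ∧ l.Moves h m ∧ m⁻¹ * l.cj h m ∈ U := by
    intro m hm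
    rw [MM, Subgroup.sup_eq_closure] at hm
    induction hm using Subgroup.closure_induction with
    | mem x hx =>
      rcases hx with hx | hx
      · obtain ⟨h1, z, hz, h2⟩ := hmovP x hx
        refine ⟨hPW hx, h1, ?_⟩
        rw [h2, ← mul_assoc]
        exact U.mul_mem (hdU x hx) hz
      · obtain ⟨h1, z, hz, h2⟩ := hmovC x hx
        refine ⟨centralizerIn_le_normalizerIn S U hx, h1, ?_⟩
        rwa [h2, inv_mul_cancel_left]
    | one =>
      obtain ⟨h1, h2⟩ := l.moves_U hUS h U.one_mem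
      exact ⟨Subgroup.one_mem _, h1, by rwa [inv_one, one_mul]⟩
    | mul a b _ _ iha ihb =>
      obtain ⟨haW, ha, had⟩ := iha
      obtain ⟨hbW, hb, hbd⟩ := ihb
      obtain ⟨h1, h2⟩ := l.cj_prod haW hbW ha hb
      refine ⟨Subgroup.mul_mem _ haW hbW, h1, ?_⟩
      rw [h2, show (a * b)⁻¹ * (l.cj h a * l.cj h b) =
        b⁻¹ * (a⁻¹ * l.cj h a) * b * (b⁻¹ * l.cj h b) by group]
      exact U.mul_mem ((Subgroup.mem_normalizer_iff''.1 hbW.2 _).1 had) hbd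
    | inv a _ iha =>
      obtain ⟨haW, ha, had⟩ := iha
      obtain ⟨h1, h2⟩ := l.cj_inv haW ha
      refine ⟨Subgroup.inv_mem _ haW, h1, ?_⟩
      rw [h2, inv_inv, show a * (l.cj h a)⁻¹ = a * (a⁻¹ * l.cj h a)⁻¹ * a⁻¹ by group]
      exact (Subgroup.mem_normalizer_iff.1 haW.2 _).1 (U.inv_mem had)
  have hHM : HM l P h := by
    refine ⟨hhH, hhco, fun m hm => ?_⟩
    obtain ⟨-, h1, h2⟩ := hmov m hm
    have h3 := (MM S U P).mul_mem hm (le_MM hUP hPW h2)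
    rw [mul_inv_cancel_left] at h3
    exact ⟨h1, h3, J_le hyp hUE hUP hPW h2⟩
  have hPM : P ≤ MM S U P := le_sup_left
  have hst : ∀ x ∈ P, l.cj h x ∈ P := fun x hx => by
    have h3 := P.mul_mem hx (hUP (hmov x (hPM hx)).2.2)
    rwa [mul_inv_cancel_left] at h3
  obtain ⟨τ, hτ, hτx, hτo⟩ :=
    l.exists_aut_cj hPW (fun x hx => (hmov x (hPM hx)).2.1) hst
  -- the automorphisms fixing `U` and trivial modulo `U`
  let Kp : Subgroup (MulAut P) :=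
    { carrier := {β | β ∈ F.autGroup P ∧ (∀ y ∈ U, apl β y = y) ∧ ∀ x ∈ P, x⁻¹ * apl β x ∈ U}
      one_mem' := ⟨one_mem _, fun y hy => apl_one (hUP hy), fun x hx => by
        rw [apl_one hx, inv_mul_cancel]; exact U.one_mem⟩
      mul_mem' := by
        rintro α β ⟨hα, hαU, hαd⟩ ⟨hβ, hβU, hβd⟩
        refine ⟨mul_mem hα hβ, fun y hy => ?_, fun x hx => ?_⟩
        · rw [apl_mul _ _ (hUP hy), hβU y hy, hαU y hy]
        · rw [apl_mul _ _ hx]
          have h1 := U.mul_mem (hβd x hx) (hαd _ (apl_mem β hx))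
          rwa [mul_assoc, mul_inv_cancel_left] at h1
      inv_mem' := by
        rintro α ⟨hα, hαU, hαd⟩
        refine ⟨inv_mem hα, fun y hy => ?_, fun x hx => ?_⟩
        · conv_lhs => rw [← hαU y hy]
          exact apl_inv_apl α (hUP hy)
        · have h1 := U.inv_mem (hαd _ (apl_mem α⁻¹ hx))
          rwa [apl_apl_inv α hx, mul_inv_rev, inv_inv] at h1 }
  have hKp : IsPGroup p Kp := by
    rintro ⟨β, hβ, hβU, hβd⟩
    obtain ⟨k, hk'⟩ := AM.pow_eq_one_of_fix hyp.pS hUP hPS hβ hβU hβd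
    exact ⟨k, Subtype.ext hk'⟩
  have hτU : ∀ y ∈ U, apl τ y = apl σ y := fun y hy => by rw [hτx y (hUP hy), hhU y hy]
  have hnormτ : τ ∈ Subgroup.normalizer (Kp : Set (MulAut P)) := by
    refine mem_normalizer_of_conj_mem fun β hβ => ?_
    obtain ⟨hβ, hβU, hβd⟩ := hβ
    refine ⟨mul_mem (mul_mem hτ hβ) (inv_mem hτ), fun y hy => ?_, fun x hx => ?_⟩
    · have hw := hstabU τ⁻¹ (inv_mem hτ) y hy
      rw [apl_mul _ _ (hUP hy), apl_mul _ _ (hUP hw), hβU _ hw, apl_apl_inv τ (hUP hy)]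
    · have hw := apl_mem τ⁻¹ hx
      have h1 := hstabU τ hτ _ (hβd _ hw)
      rw [(iso_apl hPS hτ).1.map_mul (P.inv_mem hw) (apl_mem β hw),
        (iso_apl hPS hτ).1.map_inv hw, apl_apl_inv τ hx] at h1
      rwa [apl_mul _ _ hx, apl_mul _ _ hw]
  have hδ : σ * τ⁻¹ ∈ Kp := by
    refine ⟨mul_mem hσ (inv_mem hτ), fun y hy => ?_, fun x hx => ?_⟩
    · rw [apl_mul _ _ (hUP hy), ← hτU _ (hstabU τ⁻¹ (inv_mem hτ) y hy),
        apl_apl_inv τ (hUP hy)]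
    · have hw := apl_mem τ⁻¹ hx
      have h1 : (apl τ⁻¹ x)⁻¹ * x ∈ U := by
        have h2 := (hmov _ (hPM hw)).2.2
        rwa [← hτx _ hw, apl_apl_inv τ hx] at h2
      have h2 := U.mul_mem (U.inv_mem h1) (hdU _ hw)
      rw [mul_inv_rev, inv_inv, mul_assoc, mul_inv_cancel_left] at h2
      rwa [apl_mul _ _ hx]
  obtain ⟨κ, ⟨hκ, hκU, hκd⟩, hκσ⟩ := exists_conj_coprime hKp hnormτ hδ
    (Nat.Coprime.coprime_dvd_left hτo hhco) hco
  have hκk : Mor (kSys hUP hPW F) P (apl κ) :=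
    (mor_kSys hUP hPW).2 ⟨(iso_apl hPS hκ).1, hPM, fun x hx => hPM (apl_mem κ hx), apl κ,
      (iso_apl hPS hκ).1.mono (sup_le le_rfl hUP), fun _ _ => rfl, 1, one_mem _,
      fun y hy => by rw [hκU y hy, apl_one hy]⟩
  obtain ⟨-, -, k, hkm, hkκ, hfor, -⟩ := rr_all hyp l hUE hUP hPW hn hκk
  obtain ⟨h', hh', hh'x⟩ := hfor h hHM
  refine ⟨h', hh'.1, hh'.2.1, fun y hy => ⟨(hh'.2.2 y (hPM hy)).1, ?_⟩⟩
  have hw := apl_mem κ⁻¹ hy
  have h1 := hh'x _ (Subgroup.mem_sup_left hw)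
  rw [hkκ _ hw, hkκ _ (hst _ hw), apl_apl_inv κ hy, ← hτx _ hw] at h1
  rw [← h1, ← hκσ, apl_mul _ _ hy, apl_mul _ _ hw]

end Loc

end Cfsg.Agent.FusSys.ProdS
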