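import Cfsg.Agent.FusSys.ProdS.Gen
import Cfsg.Agent.FusSys.AMap.Meet.Largest
import Cfsg.Agent.FusSys.FreeBase
import Cfsg.Agent.Fusion.TransferTools

/-!
The local group at a fully normalized subgroup `u` of `T`: a finite group with `N_S(u)` as Sylow
subgroup and a normal subgroup which induces `Aut_E(u)` and meets `N_S(u)` in `N_T(u)`.
-/

set_option autoImplicit false
set_option linter.unusedSectionVars false
set_option linter.style.haveILetI false
set_option linter.unusedVariables false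
set_option maxHeartbeats 800000

namespace Cfsg.Agent.FusSys.ProdS

open Cfsg Cfsg.FusionSystem Cfsg.Agent.FusSys

universe u

variable {Ω : Type u} [Group Ω] {S T : Subgroup Ω} {F : FusionSystem S} {E : FusionSystem T}
variable {P Q R U : Subgroup Ω} {f g : Ω → Ω} {p : ℕ}

/-- An element of the residual lying in a Sylow subgroup `P` lies in a normal subgroup of `P`
containing the displacements of `P` under conjugation. -/
theorem residual_inter {G : Type*} [Group G] [Finite G] [hp : Fact p.Prime] {P N : Subgroup G}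
    (hP : IsPGroup p P) (hidx : ¬ p ∣ P.index) (hN : ∀ a ∈ P, ∀ x ∈ N, a * x * a⁻¹ ∈ N)
    (hd : ∀ a s : G, s ∈ P → a * s * a⁻¹ ∈ P → a * s * a⁻¹ * s⁻¹ ∈ N) {x : G}
    (hx : x ∈ pResidual p G) (hxP : x ∈ P) : x ∈ N := by
  let M : Subgroup P := N.subgroupOf P
  haveI hM : M.Normal := ⟨fun n hn g => hN _ g.2 _ hn⟩
  have hcomm : ∀ a b : P ⧸ M, a * b = b * a := by
    intro a b
    obtain ⟨a, rfl⟩ := QuotientGroup.mk_surjective a
    obtain ⟨b, rfl⟩ := QuotientGroup.mk_surjective b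
    rw [← QuotientGroup.mk_mul, ← QuotientGroup.mk_mul, QuotientGroup.eq]
    show ((a : G) * b)⁻¹ * ((b : G) * a) ∈ N
    have h := hd (b : G)⁻¹ (a : G)⁻¹ (P.inv_mem a.2)
      (P.mul_mem (P.mul_mem (P.inv_mem b.2) (P.inv_mem a.2)) (P.inv_mem (P.inv_mem b.2)))
    convert h using 1
    group
  letI : CommGroup (P ⧸ M) := { (inferInstance : Group (P ⧸ M)) with mul_comm := hcomm }
  have key := Cfsg.Agent.Fusion.transfer_apply_eq_pow (QuotientGroup.mk' M) (⟨x, hxP⟩ : P)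
    (fun k a hk => by
      show QuotientGroup.mk' M _ = QuotientGroup.mk' M _
      rw [QuotientGroup.mk'_apply, QuotientGroup.mk'_apply, eq_comm, QuotientGroup.eq]
      have h := hN _ (P.inv_mem (P.pow_mem hxP k)) _ (hd a (x ^ k) (P.pow_mem hxP k) hk)
      show ((((⟨x, hxP⟩ : P) ^ k)⁻¹ * ⟨a * x ^ k * a⁻¹, hk⟩ : P) : G) ∈ N
      push_cast
      convert h using 1
      group)
  have hA : IsPGroup p (P ⧸ M) :=
    hP.of_surjective (QuotientGroup.mk' M) (QuotientGroup.mk'_surjective M)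
  have h0 : MonoidHom.transfer (QuotientGroup.mk' M) x = 1 :=
    Cfsg.Agent.Fusion.pResidual_le_ker _ hA hx
  rw [h0] at key
  obtain ⟨k, hk⟩ := IsPGroup.iff_orderOf.1 hA (QuotientGroup.mk' M ⟨x, hxP⟩)
  have h2 : orderOf (QuotientGroup.mk' M (⟨x, hxP⟩ : P)) = 1 :=
    Nat.eq_one_of_dvd_coprimes
      (Nat.Coprime.pow_left k ((Nat.Prime.coprime_iff_not_dvd hp.out).2 hidx))
      hk.dvd (orderOf_dvd_iff_pow_eq_one.2 key.symm)
  rw [orderOf_eq_one_iff, QuotientGroup.mk'_apply, QuotientGroup.eq_one_iff] at h2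
  exact h2

/-- The data of a local group at `u`. -/
structure Loc (p : ℕ) (F : FusionSystem S) (E : FusionSystem T) (U : Subgroup Ω) where
  /-- The group. -/
  G : Type u
  [grp : Group G]
  [fin : Finite G]
  /-- The embedding of `N_S(U)`. -/
  e : Ω → G
  /-- Its image. -/
  Wim : Subgroup G
  /-- The normal subgroup inducing `Aut_E(U)`. -/
  H : Subgroup G
  e_mul : ∀ {x y : Ω}, x ∈ normalizerIn S U → y ∈ normalizerIn S U → e (x * y) = e x * e y
  e_inj : ∀ {x y : Ω}, x ∈ normalizerIn S U → y ∈ normalizerIn S U → e x = e y → x = y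
  mem_Wim : ∀ {g : G}, g ∈ Wim ↔ ∃ x ∈ normalizerIn S U, e x = g
  pWim : IsPGroup p Wim
  syl : ¬ p ∣ Wim.index
  H_normal : ∀ {h : G} (g : G), h ∈ H → g * h * g⁻¹ ∈ H
  mem_H : ∀ {x : Ω}, x ∈ normalizerIn S U → (e x ∈ H ↔ x ∈ T)
  mor : ∀ (g : G) (P : Subgroup Ω), P ≤ normalizerIn S U → (∀ x ∈ P, g * e x * g⁻¹ ∈ Wim) →
    ∃ f, Mor F P f ∧ ∀ x ∈ P, f x ∈ normalizerIn S U ∧ e (f x) = g * e x * g⁻¹
  act : ∀ h ∈ H, ∃ a ∈ E.autGroup U, ∀ x ∈ U, e (apl a x) = h * e x * h⁻¹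
  realise : ∀ a ∈ E.autGroup U, ∃ h ∈ H, ∀ x ∈ U, e (apl a x) = h * e x * h⁻¹
  cent : ∀ h ∈ H, (∀ x ∈ U, h * e x * h⁻¹ = e x) → ∃ z ∈ U, e z = h
  stab : ∀ (g : G), ∀ x ∈ U, ∃ y ∈ U, e y = g * e x * g⁻¹

attribute [instance] Loc.grp Loc.fin

namespace Hyp

variable (hyp : Hyp p F E) [Fact p.Prime] [Finite S]
include hyp

/-- A centric subgroup of the normal subsystem is centric at all its conjugates. -/
theorem tc_of_centric (hU : E.IsCentric U) : AM.TC F T U :=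
  ⟨hU.1, fun Q hQ => by
    obtain ⟨f, hf⟩ := isConj_iff.1 hQ
    exact centric_self (centric_of_mor hyp.inv hU hf)⟩

theorem exists_loc (hU : E.IsCentric U) (hn : F.IsFullyNormalized U) :
    Nonempty (Loc p F E U) := by
  classical
  have hS := hyp.pS
  have hF := hyp.sat
  have hTC := hyp.tc_of_centric hU
  have hP : AM.Pair p F T E E := AM.pair_self hS hyp.wn
  haveI := hyp.finite_T
  have hUS : U ≤ S := hP.le_S hTC
  obtain ⟨I, hI⟩ : ∃ I, I = AM.cc S U := ⟨_, rfl⟩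
  have hIS : I ≤ S := hI ▸ hP.cc_le_S hTC
  have hUI : U ≤ I := hI ▸ AM.le_cc
  have hIn : F.IsFullyNormalized I := hI ▸ hP.fullyNormalized_cc hTC hn
  have hIc : F.IsCentric I := hI ▸
    AM.cc_centric_self hS hF (fullyCentralized_of_fullyNormalized hS hF hn)
  have hWI : normalizerIn S I = normalizerIn S U := hI ▸ hP.normalizer_cc_eq hTC
  obtain ⟨N, L, hL, ι, hN, hM⟩ := exists_normalizer_model hS hF hIn hIc
  haveI : Finite L := hM.1
  have hIW : I ≤ normalizerIn S I := le_normalizerIn hIS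
  have hNn := normalizerSystem_isNormal hN hIS
  have hNc : N.IsCentric I := by
    haveI : Finite (normalizerIn S I) := finite_of_le inf_le_left
    exact centric_of_normal hNn fun z hz => centric_self hIc ⟨hz.1.1, hz.2⟩
  obtain ⟨pr, hpr, hprι, hsurj⟩ := exists_autHom hM hNn inf_le_right
  have hcen := model_centralizer hM hNn hNc
  have hinj := hM.2.1.1
  have hemul : ∀ {x y : Ω}, x ∈ normalizerIn S I → y ∈ normalizerIn S I →
      thFn ι (x * y) = thFn ι x * thFn ι y := fun hx hy => thFn_mul hx hy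
  have heinj : ∀ {x y : Ω}, x ∈ normalizerIn S I → y ∈ normalizerIn S I →
      thFn ι x = thFn ι y → x = y := fun hx hy h => by
    rw [thFn_apply hx, thFn_apply hy] at h
    exact congrArg Subtype.val (hinj h)
  have hWim : ∀ {g : L}, g ∈ ι.range ↔ ∃ x ∈ normalizerIn S I, thFn ι x = g := by
    intro g
    exact ⟨fun ⟨x, hx⟩ => ⟨x, x.2, (thFn_coe x).trans hx⟩,
      fun ⟨x, hx, he⟩ => ⟨⟨x, hx⟩, (thFn_apply hx).symm.trans he⟩⟩
  have hpW : IsPGroup p ι.range := by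
    haveI : Finite (normalizerIn S I) := finite_of_le inf_le_left
    rw [MonoidHom.range_eq_map]
    exact ((hS.to_le inf_le_left).to_subgroup _).map ι
  have hsyl : ¬ p ∣ ι.range.index := by
    obtain ⟨Y, hY⟩ := hM.2.2.1
    exact hY ▸ Y.not_dvd_index
  let π : L →* MulAut I := (N.autGroup I).subtype.comp pr
  have hπ : ∀ (g : L) (x : Ω), x ∈ I → g * thFn ι x * g⁻¹ = thFn ι (apl (π g) x) := fun g x hx => by
    rw [thFn_apply (hIW hx), hpr g ⟨x, hIW hx⟩ hx, thFn_apply (hIW (apl_mem _ hx))]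
    rfl
  have hπF : ∀ g, π g ∈ F.autGroup I := fun g => by
    rw [← normalizerSystem_autGroup hS hF hN hIS]
    exact (pr g).2
  have hπW : ∀ w ∈ normalizerIn S I, ∀ x ∈ I, apl (π (thFn ι w)) x = w * x * w⁻¹ := fun w hw x hx => by
    show apl ((pr (thFn ι w) : N.autGroup I) : MulAut I) x = _
    rw [thFn_apply hw, hprι]
    exact apl_toAut _ hx
  have hπS : ∀ w ∈ normalizerIn S I, π (thFn ι w) ∈ autInducedBy S I := fun w hw =>
    mem_autInducedBy_iff.2 ⟨w, hw.1, hw.2, hπW w hw⟩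
  subst hI
  obtain ⟨K, hK⟩ : ∃ K, K = (AM.HH p F E E T U).comap π := ⟨_, rfl⟩
  have hKmem : ∀ {g : L}, g ∈ K ↔ π g ∈ AM.HH p F E E T U := fun {g} => by rw [hK]; rfl
  haveI hKn : K.Normal := ⟨fun k hk g => hKmem.2 (by
    rw [map_mul, map_mul, map_inv]
    exact hP.HH_normal hTC hn (hπF g) (hKmem.1 hk))⟩
  obtain ⟨W, hW⟩ : ∃ W, W = normalizerIn S (AM.cc S U) := ⟨_, rfl⟩
  have hWW : ∀ {x : Ω}, x ∈ normalizerIn S (AM.cc S U) → x ∈ normalizerIn S U := fun hx => hWI ▸ hx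
  have hWW' : ∀ {x : Ω}, x ∈ normalizerIn S U → x ∈ normalizerIn S (AM.cc S U) := fun hx => hWI ▸ hx
  let TW : Subgroup L := (T.subgroupOf (normalizerIn S (AM.cc S U))).map ι
  have hTWmem : ∀ {g : L}, g ∈ TW ↔
      ∃ t ∈ normalizerIn S (AM.cc S U), t ∈ T ∧ thFn ι t = g := by
    intro g
    constructor
    · rintro ⟨x, hx, rfl⟩
      exact ⟨x, x.2, hx, thFn_coe x⟩
    · rintro ⟨t, ht, htT, rfl⟩
      exact ⟨⟨t, ht⟩, htT, (thFn_apply ht).symm⟩
  have hTWK : TW ≤ K := fun g hg => by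
    obtain ⟨t, ht, htT, rfl⟩ := hTWmem.1 hg
    exact hKmem.2 (hP.autT_le_HH (mem_autInducedBy_iff.2 ⟨t, htT, ht.2, hπW t ht⟩))
  -- the elements of `K` in the Sylow subgroup
  have hsplit : ∀ s ∈ normalizerIn S (AM.cc S U), thFn ι s ∈ K →
      ∃ t ∈ normalizerIn S (AM.cc S U), t ∈ T ∧ t⁻¹ * s ∈ AM.cc S U := by
    intro s hs hsK
    obtain ⟨t, ht, htn, htx⟩ :=
      mem_autInducedBy_iff.1 (hP.HH_inter hTC hn (hKmem.1 hsK) (hπS s hs))
    have htW : t ∈ normalizerIn S (AM.cc S U) := ⟨hyp.T_le ht, htn⟩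
    refine ⟨t, htW, ht, centric_self hIc ⟨S.mul_mem (S.inv_mem htW.1) hs.1,
      Subgroup.mem_centralizer_iff.2 fun x hx => ?_⟩⟩
    have h1 : t * x * t⁻¹ = s * x * s⁻¹ := by rw [← htx x hx, hπW s hs x hx]
    calc x * (t⁻¹ * s) = t⁻¹ * (t * x * t⁻¹) * s := by group
      _ = t⁻¹ * (s * x * s⁻¹) * s := by rw [h1]
      _ = t⁻¹ * s * x := by group
  have hWn : ∀ a ∈ ι.range, ∀ g ∈ TW, a * g * a⁻¹ ∈ TW := by
    intro a ha g hg
    obtain ⟨w, hw, rfl⟩ := hWim.1 ha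
    obtain ⟨t, ht, htT, rfl⟩ := hTWmem.1 hg
    refine hTWmem.2 ⟨w * t * w⁻¹, mul_mem (mul_mem hw ht) (inv_mem hw), hyp.diff_mem hw.1 htT, ?_⟩
    rw [hemul (mul_mem hw ht) (inv_mem hw), hemul hw ht]
    congr 1
    refine eq_inv_of_mul_eq_one_right ?_
    rw [← hemul hw (inv_mem hw), mul_inv_cancel, thFn_apply (Subgroup.one_mem _)]
    exact map_one ι
  -- conjugates landing in the Sylow subgroup
  have hmor : ∀ (g : L) (P : Subgroup Ω), P ≤ normalizerIn S (AM.cc S U) →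
      (∀ x ∈ P, g * thFn ι x * g⁻¹ ∈ ι.range) →
      ∃ f, Mor F P f ∧ ∀ x ∈ P, f x ∈ normalizerIn S (AM.cc S U) ∧
        thFn ι (f x) = g * thFn ι x * g⁻¹ := by
    intro g P hPW hg
    have hval : ∀ x ∈ P, pullConj ι g x ∈ normalizerIn S (AM.cc S U) ∧
        thFn ι (pullConj ι g x) = g * thFn ι x * g⁻¹ := fun x hx => by
      obtain ⟨w, hw⟩ := hg x hx
      have h1 : pullConj ι g x = w := pullConj_eq hinj (x := ⟨x, hPW hx⟩) (by
        rw [hw, thFn_apply (hPW hx)])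
      rw [h1, thFn_coe, hw]
      exact ⟨w.2, rfl⟩
    have hm : Mor N P (pullConj ι g) := (mor_realized hM.2.1).2
      ⟨hPW, fun x hx => (hval x hx).1, g, fun x hx => by rw [(hval x hx).2, thFn_coe]⟩
    exact ⟨_, ((mor_normalizerSystem hN).1 hm).1, hval⟩
  have hTclosed : ∀ (g : L) (t : Ω), t ∈ normalizerIn S (AM.cc S U) → t ∈ T →
      g * thFn ι t * g⁻¹ ∈ ι.range → g * thFn ι t * g⁻¹ ∈ TW := by
    intro g t ht htT hg
    obtain ⟨f, hf, hfx⟩ := hmor g (Subgroup.zpowers t) (Subgroup.zpowers_le.2 ht) (by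
      rintro _ ⟨k, rfl⟩
      have h1 : thFn ι (t ^ k) = thFn ι t ^ k := by
        rw [thFn_apply (Subgroup.zpow_mem _ ht k), thFn_apply ht, ← map_zpow]
        rfl
      show g * thFn ι (t ^ k) * g⁻¹ ∈ _
      rw [h1, ← conj_zpow]
      exact Subgroup.zpow_mem _ hg k)
    obtain ⟨h1, h2⟩ := hfx t (Subgroup.mem_zpowers t)
    exact hTWmem.2 ⟨f t, h1, StronglyClosed.mor_mem hyp.sc hf (Subgroup.mem_zpowers t) htT, h2⟩
  obtain ⟨O, hO⟩ : ∃ O, O = (pResidual p K).map K.subtype := ⟨_, rfl⟩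
  haveI hOn : O.Normal := by
    rw [hO]
    haveI := Cfsg.Agent.Fusion.pResidual_characteristic (p := p) (G := K)
    infer_instance
  have hOK : O ≤ K := hO ▸ Subgroup.map_subtype_le _
  -- the residual meets the Sylow subgroup in `T`
  have hOint : ∀ g ∈ O, g ∈ ι.range → g ∈ TW := by
    intro g hg hgW
    obtain ⟨x, hx, rfl⟩ := hO ▸ hg
    refine residual_inter (P := ι.range.subgroupOf K) (N := TW.subgroupOf K) hpW.comap_subtype
      (fun hd => hsyl (hd.trans (relIndex_normal_dvd _ _)))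
      (fun a ha n hn' => hWn _ ha _ hn') ?_ hx hgW
    intro a s hs has
    obtain ⟨w, hw, hwe⟩ := hWim.1 (Subgroup.mem_subgroupOf.1 hs)
    obtain ⟨t, ht, htT, htz⟩ := hsplit w hw (hwe ▸ s.2)
    obtain ⟨z, hz⟩ : ∃ z, z = t⁻¹ * w := ⟨_, rfl⟩
    rw [← hz] at htz
    have hzW := le_normalizerIn (S := S) (hP.cc_le_S hTC) htz
    have hsz : (s : L) = thFn ι t * thFn ι z := by
      rw [← hwe, ← hemul ht hzW, hz, mul_inv_cancel_left]
    have hza : (a : L) * thFn ι z * (a : L)⁻¹ = thFn ι (apl (π a) z) := hπ a z htz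
    have hzd : z⁻¹ * apl (π a) z ∈ U :=
      ((hP.mem_XX hTC).1 (hP.HH_le_XX hTC (hKmem.1 a.2))).2.1 z htz
    have hzaW := le_normalizerIn (S := S) (hP.cc_le_S hTC) (apl_mem (π a) htz)
    have has' : (a : L) * s * (a : L)⁻¹ ∈ ι.range := has
    have hat : (a : L) * thFn ι t * (a : L)⁻¹ ∈ TW := by
      refine hTclosed _ t ht htT ?_
      have e : (a : L) * thFn ι t * (a : L)⁻¹ =
          (a : L) * s * (a : L)⁻¹ * ((a : L) * thFn ι z * (a : L)⁻¹)⁻¹ := by rw [hsz]; group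
      rw [e, hza]
      exact ι.range.mul_mem has' (ι.range.inv_mem (hWim.2 ⟨_, hzaW, rfl⟩))
    have hd1 : apl (π a) z * z⁻¹ ∈ T := by
      have h1 := hyp.diff_mem hzW.1 (hTC.1 hzd)
      rwa [mul_inv_cancel_left] at h1
    have hd2 : (a : L) * thFn ι z * (a : L)⁻¹ * (thFn ι z)⁻¹ ∈ TW := by
      refine hTWmem.2 ⟨apl (π a) z * z⁻¹, mul_mem hzaW (inv_mem hzW), hd1, ?_⟩
      rw [hemul hzaW (inv_mem hzW), hza]
      congr 1
      refine eq_inv_of_mul_eq_one_right ?_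
      rw [← hemul hzW (inv_mem hzW), mul_inv_cancel, thFn_apply (Subgroup.one_mem _)]
      exact map_one ι
    show (a : L) * s * (a : L)⁻¹ * (s : L)⁻¹ ∈ TW
    have e : (a : L) * s * (a : L)⁻¹ * (s : L)⁻¹ = (a : L) * thFn ι t * (a : L)⁻¹ *
        ((a : L) * thFn ι z * (a : L)⁻¹ * (thFn ι z)⁻¹) * (thFn ι t)⁻¹ := by rw [hsz]; group
    rw [e]
    exact mul_mem (mul_mem hat hd2) (inv_mem (hTWmem.2 ⟨t, ht, htT, rfl⟩))
  obtain ⟨H, hH⟩ : ∃ H, H = O ⊔ TW := ⟨_, rfl⟩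
  have hmemH : ∀ {g : L}, g ∈ H ↔ ∃ o ∈ O, ∃ t ∈ TW, o * t = g := fun {g} => by
    rw [hH, Subgroup.mem_sup_of_normal_left]
  have hHK : H ≤ K := hH ▸ sup_le hOK hTWK
  -- `K` normalizes `H`
  have hKH : K ≤ Subgroup.normalizer (H : Set L) := by
    have hidx : ¬ p ∣ (ι.range.subgroupOf K).index := fun hd =>
      hsyl (hd.trans (relIndex_normal_dvd _ _))
    let Y : Sylow p K := (hpW.comap_subtype : IsPGroup p (ι.range.subgroupOf K)).toSylow hidx
    have hgen := Cfsg.Agent.Fusion.sylow_sup_pResidual Y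
    have h1 : K ≤ (ι.range ⊓ K) ⊔ O := by
      intro g hg
      have h2 : (⟨g, hg⟩ : K) ∈ (Y : Subgroup K) ⊔ pResidual p K := hgen ▸ Subgroup.mem_top _
      have h3 := Subgroup.mem_map_of_mem K.subtype h2
      rw [Subgroup.map_sup] at h3
      rwa [show (Y : Subgroup K) = ι.range.subgroupOf K from rfl,
        Subgroup.subgroupOf_map_subtype, ← hO] at h3
    refine h1.trans (sup_le (fun w hw => mem_normalizer_of_conj_mem fun x hx => ?_) ?_)
    · obtain ⟨o, ho, t, ht, rfl⟩ := hmemH.1 hx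
      exact hmemH.2 ⟨w * o * w⁻¹, hOn.conj_mem o ho w, w * t * w⁻¹, hWn w hw.1 t ht, by group⟩
    · exact (le_sup_left.trans_eq hH.symm).trans Subgroup.le_normalizer
  have hHn : ∀ {h : L} (g : L), h ∈ H → g * h * g⁻¹ ∈ H := by
    intro h g hh
    obtain ⟨o, ho, t, ht, rfl⟩ := hmemH.1 hh
    rw [show g * (o * t) * g⁻¹ = g * o * g⁻¹ * (g * t * g⁻¹) by group]
    refine mul_mem (hH ▸ Subgroup.mem_sup_left (hOn.conj_mem o ho g)) ?_
    obtain ⟨x, hx, hxT, rfl⟩ := hTWmem.1 ht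
    have hk : g * thFn ι x * g⁻¹ ∈ K := hKn.conj_mem _ (hTWK ht) g
    obtain ⟨j, hj⟩ : ∃ j, thFn ι x ^ p ^ j = 1 := by
      obtain ⟨j, hj⟩ := hpW ⟨_, hWim.2 ⟨x, hx, rfl⟩⟩
      exact ⟨j, congrArg Subtype.val hj⟩
    have hidx : ¬ p ∣ (ι.range.subgroupOf K).index := fun hd =>
      hsyl (hd.trans (relIndex_normal_dvd _ _))
    obtain ⟨c, hc⟩ := exists_conj_mem_sylow (isPGroup_zpowers_of_pow_eq_one
      (x := (⟨_, hk⟩ : K)) (e := j) (Subtype.ext (by
        show (g * thFn ι x * g⁻¹) ^ p ^ j = 1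
        rw [conj_pow, hj]
        group)))
      ((hpW.comap_subtype : IsPGroup p (ι.range.subgroupOf K)).toSylow hidx)
    have h2 : (c : L) * (g * thFn ι x * g⁻¹) * (c : L)⁻¹ ∈ ι.range :=
      hc _ (Subgroup.mem_zpowers _)
    have e : (c : L) * (g * thFn ι x * g⁻¹) * (c : L)⁻¹ =
        (c : L) * g * thFn ι x * ((c : L) * g)⁻¹ := by group
    have h3 : (c : L) * (g * thFn ι x * g⁻¹) * (c : L)⁻¹ ∈ H :=
      e ▸ hH ▸ Subgroup.mem_sup_right (hTclosed _ x hx hxT (e ▸ h2))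
    exact (Subgroup.mem_normalizer_iff.1 (hKH c.2) _).2 h3
  have hmemT : ∀ {x : Ω}, x ∈ normalizerIn S (AM.cc S U) → (thFn ι x ∈ H ↔ x ∈ T) := by
    intro x hx
    refine ⟨fun hxH => ?_, fun hxT => hH ▸ Subgroup.mem_sup_right (hTWmem.2 ⟨x, hx, hxT, rfl⟩)⟩
    obtain ⟨o, ho, t, ht, hot⟩ := hmemH.1 hxH
    obtain ⟨y, hy, hyT, rfl⟩ := hTWmem.1 ht
    have hoW : o ∈ ι.range := by
      rw [show o = thFn ι x * (thFn ι y)⁻¹ by rw [← hot]; group]
      exact mul_mem (hWim.2 ⟨x, hx, rfl⟩) (inv_mem (hWim.2 ⟨y, hy, rfl⟩))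
    obtain ⟨z, hz, hzT, hze⟩ := hTWmem.1 (hOint o ho hoW)
    rw [← heinj (mul_mem hz hy) hx (by rw [hemul hz hy, hze, hot])]
    exact T.mul_mem hzT hyT
  have hUI' : U ≤ AM.cc S U := AM.le_cc
  have hact : ∀ h ∈ H, ∃ a ∈ E.autGroup U, ∀ x ∈ U, thFn ι (apl a x) = h * thFn ι x * h⁻¹ := by
    intro h hh
    have hXP := (hP.mem_XX hTC).1 (hP.HH_le_XX hTC (hKmem.1 (hHK hh)))
    haveI := finite_of_le hUS
    obtain ⟨a, ha, hax⟩ := (AM.iso_of_stable (hXP.2.2.1.mono AM.le_cc)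
      fun x hx => hP.apl_mem_R hTC hXP.1 hx).exists_mem_autGroup
    exact ⟨a, ha, fun x hx => by rw [hax x hx, hπ h x (hUI' hx)]⟩
  let SG : Subgroup (MulAut U) :=
    { carrier := {a | ∃ h ∈ H, ∀ x ∈ U, thFn ι (apl a x) = h * thFn ι x * h⁻¹}
      one_mem' := ⟨1, one_mem _, fun x hx => by rw [apl_one hx]; group⟩
      mul_mem' := by
        rintro a b ⟨h₁, hh₁, hx₁⟩ ⟨h₂, hh₂, hx₂⟩
        refine ⟨h₁ * h₂, mul_mem hh₁ hh₂, fun x hx => ?_⟩
        rw [apl_mul _ _ hx, hx₁ _ (apl_mem b hx), hx₂ x hx]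
        group
      inv_mem' := by
        rintro a ⟨h₁, hh₁, hx₁⟩
        refine ⟨h₁⁻¹, inv_mem hh₁, fun x hx => ?_⟩
        have h2 := hx₁ _ (apl_mem a⁻¹ hx)
        rw [apl_apl_inv a hx] at h2
        rw [h2]
        group }
  have hreal : E.autGroup U ≤ SG := by
    refine AM.autGroup_le_of_coprime hS hyp.wn hU.1 hn (fun a ha => ?_) fun γ hγ hco => ?_
    · obtain ⟨t, ht, htn, htx⟩ := mem_autInducedBy_iff.1 ha
      have htW := hWW' ⟨hyp.T_le ht, htn⟩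
      refine ⟨thFn ι t, (hmemT htW).2 ht, fun x hx => ?_⟩
      rw [htx x hx, hπ _ x (hUI' hx), hπW t htW x (hUI' hx)]
    · obtain ⟨η, hη, hηco, hηx⟩ := AM.res0_of_normal hS hyp.norm hTC hn hγ hco
      have hηH := hP.mem_HH_of_coprime hη hηco
      haveI := finite_of_le (hP.cc_le_S hTC)
      haveI : Finite (MulAut (AM.cc S U)) := Finite.of_injective _ MulEquiv.toEquiv_injective
      have hηN : η ∈ N.autGroup (AM.cc S U) := by
        rw [normalizerSystem_autGroup hS hF hN (hP.cc_le_S hTC)]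
        exact hP.HH_le hTC hηH
      obtain ⟨l, hl⟩ := hsurj ⟨η, hηN⟩
      have hlπ : π l = η := congrArg Subtype.val hl
      obtain ⟨b, -, hbco, hb⟩ := AM.exists_coprime_preimage (p := p) π (x := l)
        (by rw [hlπ]; exact hηco)
      have hbK : b ∈ K := hKmem.2 (by rw [hb, hlπ]; exact hηH)
      refine ⟨b, hH ▸ Subgroup.mem_sup_left (hO ▸ Subgroup.mem_map.2 ⟨⟨b, hbK⟩,
        Cfsg.Agent.Fusion.mem_pResidual_of_coprime (by rw [← Subgroup.orderOf_coe]; exact hbco),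
          rfl⟩), fun x hx => ?_⟩
      rw [hπ b x (hUI' hx), hb, hlπ, hηx x hx]
  have hcent : ∀ h ∈ H, (∀ x ∈ U, h * thFn ι x * h⁻¹ = thFn ι x) →
      ∃ z ∈ U, thFn ι z = h := by
    intro h hh hfix
    obtain ⟨z, hz, hzx⟩ := hP.ker_HH hTC hn (hKmem.1 (hHK hh)) fun x hx =>
      heinj (hIW (apl_mem _ (hUI' hx))) (hIW (hUI' hx)) (by rw [← hπ h x (hUI' hx), hfix x hx])
    have hzW := hIW (hUI' hz)
    have hc : (thFn ι z)⁻¹ * h ∈ ((AM.cc S U).subgroupOf (normalizerIn S (AM.cc S U))).map ι := by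
      refine hcen (Subgroup.mem_centralizer_iff.2 ?_)
      rintro _ ⟨x, hx, rfl⟩
      have h1 : h * ι x * h⁻¹ = thFn ι z * ι x * (thFn ι z)⁻¹ := by
        rw [← thFn_coe (θ := ι) x, hπ h (x : Ω) hx, hπ _ (x : Ω) hx, hzx (x : Ω) hx,
          hπW z hzW (x : Ω) hx]
      calc ι x * ((thFn ι z)⁻¹ * h)
          = (thFn ι z)⁻¹ * (thFn ι z * ι x * (thFn ι z)⁻¹) * h := by group
        _ = (thFn ι z)⁻¹ * (h * ι x * h⁻¹) * h := by rw [h1]
        _ = (thFn ι z)⁻¹ * h * ι x := by group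
    obtain ⟨v, hv, hve⟩ := hc
    have hh' : thFn ι (z * v) = h := by rw [hemul hzW v.2, thFn_coe, hve]; group
    have hzvT : z * v ∈ T := (hmemT (mul_mem hzW v.2)).1 (hh'.symm ▸ hh)
    refine ⟨z * v, hTC.cc_inter hyp.sc (mul_mem (hUI' hz) hv) hzvT, hh'⟩
  refine ⟨{
    G := L
    e := thFn ι
    Wim := ι.range
    H := H
    e_mul := fun hx hy => hemul (hWW' hx) (hWW' hy)
    e_inj := fun hx hy h => heinj (hWW' hx) (hWW' hy) h
    mem_Wim := fun {g} => hWim.trans (exists_congr fun x => and_congr_left fun _ =>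
      ⟨hWW, hWW'⟩)
    pWim := hpW
    syl := hsyl
    H_normal := hHn
    mem_H := fun hx => hmemT (hWW' hx)
    mor := fun g P hP' hg => ?_
    act := hact
    realise := fun a ha => hreal ha
    cent := hcent
    stab := fun g x hx => ?_ }⟩
  · obtain ⟨f, hf, hfx⟩ := hmor g P (fun x hx => hWW' (hP' hx)) hg
    exact ⟨f, hf, fun x hx => ⟨hWW (hfx x hx).1, (hfx x hx).2⟩⟩
  · exact ⟨_, hP.apl_mem_R hTC (hπF g) hx, (hπ g x (hUI' hx)).symm⟩

end Hyp

end Cfsg.Agent.FusSys.ProdS
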