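import Cfsg.Agent.FusSys.ProdS.Ctl

/-!
The normal subsystem lies in the product system, and every subgroup of `T` is carried by a map of
the product system, defined on its normalizer in `S`, to a subgroup fully normalized in the normal
subsystem.
-/

set_option autoImplicit false
set_option linter.unusedSectionVars false
set_option linter.style.haveILetI false
set_option linter.unusedVariables false

namespace Cfsg.Agent.FusSys.ProdS

open Cfsg Cfsg.FusionSystem Cfsg.Agent.FusSys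

universe u

variable {Ω : Type u} [Group Ω] {S T : Subgroup Ω} {F : FusionSystem S} {E : FusionSystem T}
variable {P Q R U : Subgroup Ω} {f g : Ω → Ω} {p : ℕ}

/-- A map on the normalizer of `U` carrying `U` to `Q` lands in the normalizer of `Q`. -/
theorem mem_normalizerIn_image [Finite S] {D : FusionSystem S} (hUS : U ≤ S)
    (hf : Mor D (normalizerIn S U) f) (hi : Iso D U Q f) {x : Ω} (hx : x ∈ normalizerIn S U) :
    f x ∈ normalizerIn S Q := by
  haveI := finite_of_le hi.right_le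
  refine ⟨hf.mem_S hx, mem_normalizer_of_maps fun y hy => ?_⟩
  obtain ⟨w, hw, rfl⟩ := hi.exists_eq hy
  have hUN := le_normalizerIn (S := S) hUS
  rw [← hf.map_conj hx (hUN hw)]
  exact hi.mem ((Subgroup.mem_normalizer_iff.1 hx.2 w).1 hw)

namespace Hyp

variable (hyp : Hyp p F E) [Fact p.Prime] [Finite S]
include hyp

/-- The normal subsystem lies in the product system. -/
theorem mor_E_prod (hf : Mor E P f) : Mor (prodSys p F E) P f := by
  haveI := hyp.finite_T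
  have hpT := hyp.pT
  have hTS := hyp.T_le
  let M : Subgroup Ω → (Ω → Ω) → Prop := fun P f =>
    P ≤ T ∧ (∀ x ∈ P, f x ∈ T) ∧ Mor (prodSys p F E) P f
  have hM : SubRel E T M :=
    { congr := fun h he => ⟨h.1, fun x hx => by rw [he x hx]; exact h.2.1 x hx, h.2.2.congr he⟩
      le := fun h => ⟨h.1, h.2.1⟩
      conj := fun hP hs => ⟨mor_conj hP hs, hP,
        fun x hx => mul_mem (mul_mem hs (hP hx)) (Subgroup.inv_mem _ hs),
        mor_conj (hP.trans hTS) (hTS hs)⟩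
      comp := fun _ h _ h' hfQ => ⟨h.1, fun x hx => h'.2.1 _ (hfQ x hx), h.2.2.comp h'.2.2 hfQ⟩
      inv := fun {P Q f g} hf h hg hgf => ⟨hg.left_le, fun x hx => hg.1.mem_S hx, by
        obtain ⟨r, hr, hrf, -⟩ := (show Iso (prodSys p F E) P Q f from ⟨h.2.2, hf.2⟩).symm
        refine hr.1.congr fun y hy => ?_
        obtain ⟨x, hx, rfl⟩ := hf.exists_eq hy
        rw [hrf x hx, hgf x hx]⟩ }
  refine (alperin_induction hpT hyp.satE hM (fun R hR α hα => ?_) P f hf).2.2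
  have hRT : R ≤ T := hR.elim (fun e => e.le) fun e => e.1.1
  have hRS : R ≤ S := hRT.trans hTS
  refine ⟨hRT, fun x hx => hRT (apl_mem α hx), ?_⟩
  obtain ⟨-, V, hV⟩ : E.IsFullyAutomized p R := by
    rcases hR with rfl | hR
    · exact top_fullyAutomized hpT hyp.satE
    · exact fullyAutomized_of_fullyNormalized hpT hyp.satE hR.2.1
  have hRc : TCP S E R := by
    refine ⟨hRS, ?_⟩
    rw [inf_eq_left.2 hRT]
    exact hR.elim (fun e => e ▸ centric_top E) fun e => e.1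
  haveI := finite_of_le hRS
  haveI : Finite (MulAut R) := Finite.of_injective _ MulEquiv.toEquiv_injective
  have hle : E.autGroup R ≤ (prodSys p F E).autGroup R := by
    intro β hβ
    have h1 : (⟨β, hβ⟩ : E.autGroup R) ∈
        ((prodSys p F E).autGroup R).subgroupOf (E.autGroup R) := by
      refine (show (⊤ : Subgroup (E.autGroup R)) ≤ _ from ?_) (Subgroup.mem_top _)
      rw [← Cfsg.Agent.Fusion.sylow_sup_pResidual V, hV]
      refine sup_le (fun γ hγ => ?_) ((Subgroup.closure_le _).2 ?_)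
      · exact autInducedBy_le_autGroup hRS (autInducedBy_mono hTS (Subgroup.mem_subgroupOf.1 hγ))
      · rintro ⟨γ, hγ⟩ hγc
        have hi := iso_apl hRT hγ
        refine A0_le_prod hRc (hyp.mem_A0 (autGroup_le_of_invariant hyp.inv hγ)
          (by have h := hγc; rwa [Set.mem_setOf_eq, ← Subgroup.orderOf_coe] at h)
          ⟨fun x hx => T.mul_mem (T.inv_mem (hRT hx)) (hRT (apl_mem γ hx)),
            hi.1.mono inf_le_left⟩)
    exact Subgroup.mem_subgroupOf.1 h1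
  exact (iso_apl hRS (hle hα)).1

/-- A subgroup of `T` not fully normalized is moved to one with larger normalizer in `T`. -/
theorem exists_bigger (hIH : ∀ N ≤ T, Nat.card U < Nat.card N → ∃ f, Mor (prodSys p F E)
      (normalizerIn S N) f ∧ ∃ Q, Iso (prodSys p F E) N Q f ∧ E.IsFullyNormalized Q)
    (hUT : U ≤ T) (hnot : ¬ E.IsFullyNormalized U) :
    ∃ f, Mor (prodSys p F E) (normalizerIn S U) f ∧ ∃ Q, Iso (prodSys p F E) U Q f ∧ Q ≤ T ∧
      Nat.card (normalizerIn T U) < Nat.card (normalizerIn T Q) := by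
  haveI := hyp.finite_T
  have hpT := hyp.pT
  have hTS := hyp.T_le
  have hUS : U ≤ S := hUT.trans hTS
  have hUN : U ≤ normalizerIn S U := le_normalizerIn hUS
  -- `U` is not `T`
  have hne : U < T := by
    refine lt_of_le_of_ne hUT fun h => hnot ?_
    subst h
    refine ⟨le_rfl, fun Q hQ => ?_⟩
    rw [eq_of_le_of_card le_rfl (isConj_le_right hQ) (isConj_card_eq hQ).le]
  obtain ⟨N, hN⟩ : ∃ N, N = normalizerIn T U := ⟨_, rfl⟩
  have hNT : N ≤ T := hN ▸ inf_le_left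
  have hlt : U < N := hN ▸ lt_inf_normalizer hpT le_rfl hne
  haveI := finite_of_le (S := T) hNT
  have hSUN : normalizerIn S U ≤ normalizerIn S N := by
    intro s hs
    refine ⟨hs.1, ?_⟩
    haveI : Finite N := finite_of_le (S := T) hNT
    refine mem_normalizer_of_maps fun x hx => ?_
    rw [hN] at hx ⊢
    exact ⟨hyp.diff_mem hs.1 hx.1,
      Subgroup.mul_mem _ (Subgroup.mul_mem _ hs.2 hx.2) (Subgroup.inv_mem _ hs.2)⟩
  obtain ⟨ψ, hψ, N', hψN, hN'fn⟩ := hIH N hNT (by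
    haveI := finite_of_le (S := T) hNT
    exact Nat.lt_of_le_of_ne (Nat.card_le_card_of_injective _ (Subgroup.inclusion_injective hlt.le))
      fun h => hlt.ne (eq_of_le_of_card hNT hlt.le h.ge))
  have hψU : Mor (prodSys p F E) (normalizerIn S U) ψ := hψ.mono hSUN
  obtain ⟨U₁, hψU₁⟩ := (hψU.mono hUN).exists_iso
  have hU₁T : U₁ ≤ T := fun y hy => by
    obtain ⟨x, hx, rfl⟩ := hψU₁.exists_eq hy
    exact StronglyClosed.mor_mem hyp.sc (prod_mor_F hψU₁.1) hx (hUT hx)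
  have hN'le : N' ≤ normalizerIn T U₁ := by
    intro y hy
    obtain ⟨x, hx, rfl⟩ := hψN.exists_eq hy
    have hx' : x ∈ normalizerIn S U := by
      rw [hN] at hx
      exact ⟨hTS hx.1, hx.2⟩
    exact ⟨hN'fn.1 (hψN.mem hx), (mem_normalizerIn_image hUS hψU hψU₁ hx').2⟩
  haveI : Finite (normalizerIn T U₁) := finite_of_le (S := T) inf_le_left
  by_cases hbig : Nat.card N' < Nat.card (normalizerIn T U₁)
  · exact ⟨ψ, hψU, U₁, hψU₁, hU₁T, by rw [← hN, hψN.card_eq]; exact hbig⟩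
  have hN'eq : N' = normalizerIn T U₁ :=
    eq_of_le_of_card inf_le_left hN'le (Nat.le_of_not_lt hbig)
  by_cases hfn₁ : E.IsFullyNormalized U₁
  · exfalso
    refine hnot ⟨hUT, fun Q hQ => ?_⟩
    obtain ⟨r, hr⟩ := isConj_iff.1 hQ
    have hri := (show Iso (prodSys p F E) U Q r from ⟨hyp.mor_E_prod hr.1, hr.2⟩)
    obtain ⟨s, hs, -, -⟩ := hψU₁.symm
    obtain ⟨g, -, -, hg⟩ : ∃ g, True ∧ True ∧ Iso F U₁ Q g :=
      ⟨_, trivial, trivial, (prod_iso_F hs).comp (prod_iso_F hri)⟩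
    obtain ⟨β, hβ, e, he, hge⟩ := exists_frattini hyp.inv hU₁T hg.1
    obtain ⟨Q₁, hQ₁⟩ := he.exists_iso
    have h1 := hyp.card_normalizer_T hβ hQ₁.right_le (Q₂ := Q) fun y => by
      constructor
      · intro hy
        obtain ⟨x, hx, rfl⟩ := hg.exists_eq hy
        exact ⟨e x, hQ₁.mem hx, (hge x hx).symm⟩
      · rintro ⟨x, hx, rfl⟩
        obtain ⟨w, hw, rfl⟩ := hQ₁.exists_eq hx
        exact hge w hw ▸ hg.mem hw
    have h2 := hfn₁.2 Q₁ hQ₁.isConj
    rw [← hN'eq, ← hψN.card_eq, hN] at h2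
    exact h1.trans h2
  -- the automorphism moving `U₁`
  obtain ⟨Q, hQc, hQfn⟩ := exists_fullyNormalized_conj (F := E) hU₁T
  obtain ⟨g, hg, hgQ, hgN⟩ := exists_mor_to_fullyNormalized hpT hyp.satE hQfn hQc
  rw [← hN'eq] at hg hgN
  obtain ⟨N₂, hgN₂⟩ := hg.exists_iso
  have hN₂Q : N₂ ≤ normalizerIn T Q := fun y hy => by
    obtain ⟨x, hx, rfl⟩ := hgN₂.exists_eq hy
    exact hgN x hx
  haveI : Finite (normalizerIn T Q) := finite_of_le (S := T) inf_le_left
  have hlt₂ : N₂ < normalizerIn T Q := by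
    refine lt_of_le_of_ne hN₂Q fun h => hfn₁ ⟨hU₁T, fun R hR => ?_⟩
    refine (hQfn.2 R (isConj_trans (isConj_symm hQc) hR)).trans ?_
    rw [← hN'eq, ← h, ← hgN₂.card_eq]
  obtain ⟨e, he, heN, heNN⟩ :=
    exists_mor_to_fullyNormalized hpT hyp.satE hN'fn (isConj_symm hgN₂.isConj)
  have hσ := hgN₂.comp heN
  haveI := finite_of_le (S := T) hN'fn.1
  obtain ⟨σ, hσE, hσx⟩ := hσ.exists_mem_autGroup
  obtain ⟨M₀, hM₀d⟩ : ∃ M₀, M₀ = normalizerIn T Q ⊓ Subgroup.normalizer (N₂ : Set Ω) := ⟨_, rfl⟩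
  have hM₀ : N₂ < M₀ := by
    rw [hM₀d]
    exact lt_inf_normalizer hpT inf_le_left hlt₂
  have hM₀le : M₀ ≤ normalizerIn T N₂ := hM₀d ▸ inf_le_inf_right _ inf_le_left
  -- the local group at the normalizer
  have hN'c : E.IsCentric N' := by
    refine centric_of_fullyCentralized
      (fullyCentralized_of_fullyNormalized hpT hyp.satE hN'fn) fun c hc => ?_
    rw [hN'eq]
    haveI := finite_of_le (S := T) hU₁T
    exact ⟨hc.1, mem_normalizer_of_maps fun x hx => by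
      rw [AM.comm_of_mem hc (hN'eq.ge (le_normalizerIn hU₁T hx))]
      exact hx⟩
  obtain ⟨c⟩ := hyp.exists_ctl hN'c hN'fn
  obtain ⟨h, hh, hhx⟩ := c.loc.realise σ hσE
  have hU₁N : normalizerIn S U₁ ≤ normalizerIn S N' := by
    intro s hs
    refine ⟨hs.1, mem_normalizer_of_maps fun x hx => ?_⟩
    rw [hN'eq] at hx ⊢
    exact ⟨hyp.diff_mem hs.1 hx.1,
      Subgroup.mul_mem _ (Subgroup.mul_mem _ hs.2 hx.2) (Subgroup.inv_mem _ hs.2)⟩
  have hU₁S : U₁ ≤ S := hU₁T.trans hTS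
  have hU₁W : U₁ ≤ normalizerIn S N' := (le_normalizerIn hU₁S).trans hU₁N
  have hU₁N' : U₁ ≤ N' := hN'eq ▸ le_normalizerIn hU₁T
  let eU : Subgroup c.loc.G :=
    { carrier := {z | ∃ x ∈ U₁, c.loc.e x = z}
      one_mem' := ⟨1, one_mem _, c.loc.e_one⟩
      mul_mem' := by
        rintro _ _ ⟨x, hx, rfl⟩ ⟨y, hy, rfl⟩
        exact ⟨x * y, mul_mem hx hy, c.loc.e_mul (hU₁W hx) (hU₁W hy)⟩
      inv_mem' := by
        rintro _ ⟨x, hx, rfl⟩
        exact ⟨x⁻¹, Subgroup.inv_mem _ hx, c.loc.e_inv (hU₁W hx)⟩ }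
  haveI : Finite eU := inferInstance
  obtain ⟨Z, hZ⟩ : ∃ Z, Z = Subgroup.normalizer (eU : Set c.loc.G) := ⟨_, rfl⟩
  let eN : Subgroup c.loc.G :=
    { carrier := {z | ∃ x ∈ normalizerIn S U₁, c.loc.e x = z}
      one_mem' := ⟨1, one_mem _, c.loc.e_one⟩
      mul_mem' := by
        rintro _ _ ⟨x, hx, rfl⟩ ⟨y, hy, rfl⟩
        exact ⟨x * y, mul_mem hx hy, c.loc.e_mul (hU₁N hx) (hU₁N hy)⟩
      inv_mem' := by
        rintro _ ⟨x, hx, rfl⟩
        exact ⟨x⁻¹, Subgroup.inv_mem _ hx, c.loc.e_inv (hU₁N hx)⟩ }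
  have heNZ : eN ≤ Z := by
    rintro _ ⟨x, hx, rfl⟩
    rw [hZ]
    refine mem_normalizer_of_maps ?_
    rintro _ ⟨y, hy, rfl⟩
    exact ⟨_, (Subgroup.mem_normalizer_iff.1 hx.2 y).1 hy, c.loc.e_conj (hU₁N hx) (hU₁W hy)⟩
  have heNp : IsPGroup p (eN.subgroupOf Z) :=
    (c.loc.pWim.to_le (fun z hz => by
      obtain ⟨x, hx, rfl⟩ := hz
      exact c.loc.e_mem (hU₁N hx))).comap_subtype
  obtain ⟨P₂, hP₂⟩ := heNp.exists_le_sylow
  obtain ⟨w, hw⟩ := exists_conj_mem_sylow (R := (P₂ : Subgroup Z).map Z.subtype)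
    (P₂.2.map _) (c.loc.pWim.toSylow c.loc.syl)
  -- the image of the bigger normalizer
  have heM₀ : ∀ y ∈ M₀, e y ∈ normalizerIn T N' := fun y hy => heNN y (hM₀le hy)
  let R₀ : Subgroup c.loc.G :=
    { carrier := {z | ∃ y ∈ M₀, h⁻¹ * c.loc.e (e y) * h = z}
      one_mem' := ⟨1, one_mem _, by
        rw [he.map_one, c.loc.e_one]; group⟩
      mul_mem' := by
        rintro _ _ ⟨x, hx, rfl⟩ ⟨y, hy, rfl⟩
        refine ⟨x * y, mul_mem hx hy, ?_⟩
        rw [he.map_mul (hM₀le hx) (hM₀le hy),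
          c.loc.e_mul ⟨hTS (heM₀ x hx).1, (heM₀ x hx).2⟩ ⟨hTS (heM₀ y hy).1, (heM₀ y hy).2⟩]
        group
      inv_mem' := by
        rintro _ ⟨x, hx, rfl⟩
        refine ⟨x⁻¹, Subgroup.inv_mem _ hx, ?_⟩
        rw [he.map_inv (hM₀le hx), c.loc.e_inv ⟨hTS (heM₀ x hx).1, (heM₀ x hx).2⟩]
        group }
  have hR₀Z : R₀ ≤ Z := by
    rintro _ ⟨y, hy, rfl⟩
    rw [hZ]
    refine mem_normalizer_of_maps ?_
    rintro _ ⟨u₁, hu, rfl⟩
    have hyW : e y ∈ normalizerIn S N' := ⟨hTS (heM₀ y hy).1, (heM₀ y hy).2⟩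
    have hu' := hU₁N' hu
    have hgu : g u₁ ∈ Q := hgQ.mem hu
    have hyQ : y * g u₁ * y⁻¹ ∈ Q :=
      (Subgroup.mem_normalizer_iff.1 (hM₀d.le hy).1.2 _).1 hgu
    obtain ⟨u₂, hu₂, hu₂e⟩ := hgQ.exists_eq hyQ
    have hu₂' := hU₁N' hu₂
    refine ⟨u₂, hu₂, ?_⟩
    have hσu : c.loc.e (e (g u₂)) = h * c.loc.e u₂ * h⁻¹ := by
      rw [← hhx u₂ hu₂', hσx u₂ hu₂']
      rfl
    have hσu₁ : c.loc.e (e (g u₁)) = h * c.loc.e u₁ * h⁻¹ := by
      rw [← hhx u₁ hu', hσx u₁ hu']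
      rfl
    have hgW : e (g u₁) ∈ normalizerIn S N' :=
      le_normalizerIn (hN'fn.1.trans hTS) (heN.mem (hgN₂.mem hu'))
    rw [hu₂e, he.map_conj (hM₀le hy) ((le_normalizerIn hgN₂.right_le) (hgN₂.mem hu')),
      c.loc.e_conj hyW hgW, hσu₁] at hσu
    rw [show c.loc.e u₂ = h⁻¹ * (h * c.loc.e u₂ * h⁻¹) * h by group, ← hσu]
    group
  have hR₀p : IsPGroup p (R₀.subgroupOf Z) := by
    rintro ⟨⟨z, hzZ⟩, hz⟩
    obtain ⟨y, hy, rfl⟩ := Subgroup.mem_subgroupOf.1 hz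
    obtain ⟨j, hj⟩ := c.loc.pWim ⟨_, c.loc.e_mem
      (⟨hTS (heM₀ y hy).1, (heM₀ y hy).2⟩ : e y ∈ normalizerIn S N')⟩
    refine ⟨j, Subtype.ext (Subtype.ext ?_)⟩
    show (h⁻¹ * c.loc.e (e y) * h) ^ p ^ j = 1
    have h1 : c.loc.e (e y) ^ p ^ j = 1 := congrArg Subtype.val hj
    have h2 := conj_pow (a := h⁻¹) (b := c.loc.e (e y)) (i := p ^ j)
    rw [inv_inv, h1, mul_one, inv_mul_cancel] at h2
    exact h2
  obtain ⟨z, hz⟩ := exists_conj_mem_sylow hR₀p P₂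
  obtain ⟨t, ht⟩ : ∃ t, t = w * (z : c.loc.G) * h⁻¹ := ⟨_, rfl⟩
  -- the map
  have hmovN : ∀ x ∈ normalizerIn S U₁, c.loc.Moves w x := fun x hx =>
    c.loc.moves_of_range (hw _ (Subgroup.mem_map.2 ⟨⟨_, heNZ ⟨x, hx, rfl⟩⟩,
      hP₂ (Subgroup.mem_subgroupOf.2 ⟨x, hx, rfl⟩), rfl⟩))
  obtain ⟨φ, hφd⟩ : ∃ φ, φ = c.loc.cj w := ⟨_, rfl⟩
  have hφ : Mor (prodSys p F E) (normalizerIn S U₁) φ := hφd ▸ c.loc.mor_cj hU₁N hmovN
  obtain ⟨U₆, hφU⟩ := (hφ.mono (le_normalizerIn hU₁S)).exists_iso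
  have hcomp := hψU₁.comp hφU
  have hmorc : Mor (prodSys p F E) (normalizerIn S U) (φ ∘ ψ) :=
    hψU.comp hφ fun x hx => mem_normalizerIn_image hUS hψU hψU₁ hx
  have hU₆T : U₆ ≤ T := fun y hy => by
    obtain ⟨x, hx, rfl⟩ := hφU.exists_eq hy
    exact StronglyClosed.mor_mem hyp.sc (prod_mor_F hφU.1) hx (hU₁T hx)
  refine ⟨φ ∘ ψ, hmorc, U₆, hcomp, hU₆T, ?_⟩
  have hkey : ∀ y ∈ M₀, c.loc.Moves t (e y) ∧ c.loc.cj t (e y) ∈ normalizerIn T U₆ := by
    intro y hy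
    have hyW : e y ∈ normalizerIn S N' := ⟨hTS (heM₀ y hy).1, (heM₀ y hy).2⟩
    obtain ⟨r, hr⟩ : ∃ r, r = (z : c.loc.G) * (h⁻¹ * c.loc.e (e y) * h) * (z : c.loc.G)⁻¹ :=
      ⟨_, rfl⟩
    have hrZ : r ∈ Z := hr ▸ mul_mem (mul_mem z.2 (hR₀Z ⟨y, hy, rfl⟩)) (inv_mem z.2)
    have hrP : (⟨r, hrZ⟩ : Z) ∈ (P₂ : Subgroup Z) := by
      have h1 := hz ⟨_, hR₀Z ⟨y, hy, rfl⟩⟩ (Subgroup.mem_subgroupOf.2 ⟨y, hy, rfl⟩)
      convert h1 using 1
      exact Subtype.ext hr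
    have htr : t * c.loc.e (e y) * t⁻¹ = w * r * w⁻¹ := by rw [ht, hr]; group
    have hm : c.loc.Moves t (e y) := c.loc.moves_of_range
      (htr ▸ hw r (Subgroup.mem_map.2 ⟨_, hrP, rfl⟩))
    refine ⟨hm, ?_, ?_⟩
    · refine (c.loc.mem_H (c.loc.cj_mem hm)).1 ?_
      rw [c.loc.e_cj hm]
      exact c.loc.H_normal t ((c.loc.mem_H hyW).2 (heM₀ y hy).1)
    · haveI := finite_of_le (S := T) hU₆T
      refine mem_normalizer_of_maps fun v hv => ?_
      obtain ⟨u₁, hu, rfl⟩ := hφU.exists_eq hv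
      have hrn : r * c.loc.e u₁ * r⁻¹ ∈ eU :=
        (Subgroup.mem_normalizer_iff.1 (hZ.le hrZ) _).1 ⟨u₁, hu, rfl⟩
      obtain ⟨u₂, hu₂, hu₂e⟩ := hrn
      have hm₁ := hmovN u₁ (le_normalizerIn hU₁S hu)
      have hm₂ := hmovN u₂ (le_normalizerIn hU₁S hu₂)
      convert hφU.mem hu₂ using 1
      subst hφd
      refine c.loc.e_inj (Subgroup.mul_mem _ (Subgroup.mul_mem _ (c.loc.cj_mem hm)
        (c.loc.cj_mem hm₁)) (Subgroup.inv_mem _ (c.loc.cj_mem hm))) (c.loc.cj_mem hm₂) ?_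
      rw [c.loc.e_conj (c.loc.cj_mem hm) (c.loc.cj_mem hm₁), c.loc.e_cj hm, c.loc.e_cj hm₁,
        c.loc.e_cj hm₂, hu₂e, htr]
      group
  haveI : Finite M₀ := finite_of_le (S := T) (hM₀le.trans inf_le_left)
  haveI : Finite (normalizerIn T U₆) := finite_of_le (S := T) inf_le_left
  calc Nat.card (normalizerIn T U) = Nat.card N' := by rw [← hψN.card_eq, hN]
    _ = Nat.card N₂ := hgN₂.card_eq
    _ < Nat.card M₀ := Nat.lt_of_le_of_ne
        (Nat.card_le_card_of_injective _ (Subgroup.inclusion_injective hM₀.le))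
        fun hc => hM₀.ne (eq_of_le_of_card (hM₀le.trans inf_le_left) hM₀.le hc.ge)
    _ ≤ Nat.card (normalizerIn T U₆) := Nat.card_le_card_of_injective
        (fun y => ⟨c.loc.cj t (e y), (hkey y y.2).2⟩) fun a b hab => by
          have h1 := congrArg c.loc.e (congrArg Subtype.val hab)
          rw [c.loc.e_cj (hkey a a.2).1, c.loc.e_cj (hkey b b.2).1] at h1
          have h2 := mul_left_cancel (mul_right_cancel h1)
          have h3 := c.loc.e_inj ⟨hTS (heM₀ a a.2).1, (heM₀ a a.2).2⟩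
            ⟨hTS (heM₀ b b.2).1, (heM₀ b b.2).2⟩ h2
          exact Subtype.ext (he.injOn (hM₀le a.2) (hM₀le b.2) h3)

/-- Every subgroup of `T` is carried to a fully normalized one by a map on its normalizer. -/
theorem exists_fn_map (hUT : U ≤ T) :
    ∃ f, Mor (prodSys p F E) (normalizerIn S U) f ∧
      ∃ Q, Iso (prodSys p F E) U Q f ∧ E.IsFullyNormalized Q := by
  haveI := hyp.finite_T
  suffices ∀ n, ∀ U ≤ T, Nat.card T - Nat.card U ≤ n →
      ∃ f, Mor (prodSys p F E) (normalizerIn S U) f ∧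
        ∃ Q, Iso (prodSys p F E) U Q f ∧ E.IsFullyNormalized Q from this _ U hUT le_rfl
  intro n
  induction n using Nat.strong_induction_on with
  | h n ih =>
    suffices ∀ m, ∀ U ≤ T, Nat.card T - Nat.card U ≤ n →
        Nat.card T - Nat.card (normalizerIn T U) ≤ m →
        ∃ f, Mor (prodSys p F E) (normalizerIn S U) f ∧
          ∃ Q, Iso (prodSys p F E) U Q f ∧ E.IsFullyNormalized Q from
      fun U hUT hn => this _ U hUT hn le_rfl
    intro m
    induction m using Nat.strong_induction_on with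
    | h m ihm =>
      intro U hUT hn hm
      have hUS : U ≤ S := hUT.trans hyp.T_le
      by_cases hfn : E.IsFullyNormalized U
      · exact ⟨id, mor_id inf_le_left, U, iso_id hUS, hfn⟩
      obtain ⟨f, hf, Q, hfQ, hQT, hlt⟩ := hyp.exists_bigger (U := U)
        (fun N hNT hN => ih (Nat.card T - Nat.card N) (by
          have := Nat.card_le_card_of_injective _ (Subgroup.inclusion_injective hNT)
          omega) N hNT le_rfl) hUT hfn
      haveI : Finite (normalizerIn T Q) := finite_of_le (S := T) inf_le_left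
      obtain ⟨g, hg, R, hgR, hRfn⟩ := ihm (Nat.card T - Nat.card (normalizerIn T Q)) (by
        have hle : normalizerIn T Q ≤ T := inf_le_left
        have : Nat.card (normalizerIn T Q) ≤ Nat.card T :=
          Nat.card_le_card_of_injective _ (Subgroup.inclusion_injective hle)
        omega) Q hQT (by rw [← hfQ.card_eq]; exact hn) le_rfl
      exact ⟨g ∘ f, hf.comp hg fun x hx => mem_normalizerIn_image hUS hf hfQ hx, R,
        hfQ.comp hgR, hRfn⟩

end Hyp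

end Cfsg.Agent.FusSys.ProdS
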