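import Cfsg.Agent.FusSys.ProdS.Sat
import Cfsg.Agent.FusSys.ProdS.PPow

/-!
The normal subsystem has `p`-power index in its product with `S`.
-/

set_option autoImplicit false
set_option linter.unusedSectionVars false
set_option linter.style.haveILetI false
set_option linter.unusedVariables false

namespace Cfsg.Agent.FusSys.ProdS

open Cfsg Cfsg.FusionSystem Cfsg.Agent.FusSys

universe u

variable {Ω : Type u} [Group Ω] {S T : Subgroup Ω} {F : FusionSystem S} {E : FusionSystem T}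
variable {P A B C Q R : Subgroup Ω} {f f' g : Ω → Ω} {p : ℕ} {s s' : Ω}

/-- `f` is conjugation by `s` modulo `T` and conjugation by `s` after a map of the subsystem on the
part in `T`. -/
def RelS (E : FusionSystem T) (A : Subgroup Ω) (f : Ω → Ω) (s : Ω) : Prop :=
  (∀ x ∈ A, (s * x * s⁻¹)⁻¹ * f x ∈ T) ∧
    ∃ e, Mor E (A ⊓ T) e ∧ ∀ x ∈ A ⊓ T, f x = s * e x * s⁻¹

namespace Hyp

variable (hyp : Hyp p F E) [Finite S]
include hyp

theorem econj (hs : s ∈ S) (he : Mor E C f) (hC : ∀ y ∈ B, s * y * s⁻¹ ∈ C) :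
    Mor E B (fun y => s⁻¹ * f (s * y * s⁻¹) * s) := by
  obtain ⟨β, hβ, hβx⟩ := exists_mem_autInducedBy (P := T) (K := S) (S.inv_mem hs)
    (hyp.S_norm (S.inv_mem hs))
  have hCT : C ≤ T := he.le
  obtain ⟨h, hh, hhx⟩ := exists_transport hyp.inv he (autInducedBy_le_autGroup hyp.T_le hβ)
  have hBy : ∀ y ∈ B, apl β (s * y * s⁻¹) = y := fun y hy => by
    rw [hβx _ (hCT (hC y hy))]
    group
  refine (hh.mono fun y hy => ⟨⟨s * y * s⁻¹, hCT (hC y hy)⟩, hC y hy, ?_⟩).congr fun y hy => ?_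
  · show ((β ⟨s * y * s⁻¹, hCT (hC y hy)⟩ : T) : Ω) = y
    rw [← apl_apply β]
    exact hBy y hy
  · conv_rhs => rw [← hBy y hy]
    rw [hhx _ (hC y hy), hβx _ (he.mem_S (hC y hy)), inv_inv]

theorem relS_comp (hs : s ∈ S) (hs' : s' ∈ S) (h : RelS E A f s) (h' : RelS E B f' s')
    (hf : Mor F A f) (hfB : ∀ x ∈ A, f x ∈ B) : RelS E A (f' ∘ f) (s' * s) := by
  obtain ⟨hd, e, he, hex⟩ := h
  obtain ⟨hd', e', he', hex'⟩ := h'
  refine ⟨fun x hx => ?_, ?_⟩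
  · have h1 := hyp.diff_mem hs' (hd x hx)
    have h2 := hd' _ (hfB x hx)
    have h3 := T.mul_mem h1 h2
    show (s' * s * x * (s' * s)⁻¹)⁻¹ * f' (f x) ∈ T
    rwa [show s' * ((s * x * s⁻¹)⁻¹ * f x) * s'⁻¹ * ((s' * f x * s'⁻¹)⁻¹ * f' (f x)) =
      (s' * s * x * (s' * s)⁻¹)⁻¹ * f' (f x) by group] at h3
  · have hfT : ∀ x ∈ A ⊓ T, f x ∈ B ⊓ T := fun x hx =>
      ⟨hfB x hx.1, StronglyClosed.mor_mem hyp.sc hf hx.1 hx.2⟩
    obtain ⟨Z, hZ⟩ := he.exists_iso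
    have hZB : ∀ z ∈ Z, s * z * s⁻¹ ∈ B ⊓ T := fun z hz => by
      obtain ⟨x, hx, rfl⟩ := hZ.exists_eq hz
      rw [← hex x hx]
      exact hfT x hx
    refine ⟨_, he.comp (hyp.econj hs he' hZB) fun x hx => hZ.mem hx, fun x hx => ?_⟩
    show f' (f x) = s' * s * (s⁻¹ * e' (s * e x * s⁻¹) * s) * (s' * s)⁻¹
    rw [← hex x hx, hex' _ (hfT x hx)]
    group

theorem relS_inv (hs : s ∈ S) (h : RelS E A f s) (hf : Iso F A B f)
    (hgf : ∀ x ∈ A, g (f x) = x) : RelS E B g s⁻¹ := by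
  obtain ⟨hd, e, he, hex⟩ := h
  refine ⟨fun y hy => ?_, ?_⟩
  · obtain ⟨x, hx, rfl⟩ := hf.exists_eq hy
    rw [hgf x hx]
    have h1 := hyp.diff_mem (S.inv_mem hs) (T.inv_mem (hd x hx))
    rwa [show s⁻¹ * ((s * x * s⁻¹)⁻¹ * f x)⁻¹ * s⁻¹⁻¹ = (s⁻¹ * f x * s⁻¹⁻¹)⁻¹ * x by group] at h1
  · obtain ⟨Z, hZ⟩ := he.exists_iso
    obtain ⟨e₀, he₀, he₀e, -⟩ := hZ.symm
    have hi := hyp.iso_inter hf
    have hBZ : ∀ y ∈ B ⊓ T, s⁻¹ * y * s⁻¹⁻¹ ∈ Z := fun y hy => by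
      obtain ⟨x, hx, rfl⟩ := hi.exists_eq hy
      rw [hex x hx, show s⁻¹ * (s * e x * s⁻¹) * s⁻¹⁻¹ = e x by group]
      exact hZ.mem hx
    refine ⟨_, hyp.econj (S.inv_mem hs) he₀.1 hBZ, fun y hy => ?_⟩
    obtain ⟨x, hx, rfl⟩ := hi.exists_eq hy
    rw [hgf x hx.1]
    show x = s⁻¹ * (s⁻¹⁻¹ * e₀ (s⁻¹ * f x * s⁻¹⁻¹) * s⁻¹) * s⁻¹⁻¹
    rw [hex x hx, show s⁻¹ * (s * e x * s⁻¹) * s⁻¹⁻¹ = e x by group, he₀e x hx]
    group

theorem relS_prod (hf : Mor (prodSys p F E) P f) : ∃ s ∈ S, RelS E P f s := by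
  have hM : SubRel F S (fun A f => Mor F A f ∧ ∃ s ∈ S, RelS E A f s) :=
    { congr := fun {A f g} h he => ⟨h.1.congr he, by
        obtain ⟨s, hs, hd, e, hem, hex⟩ := h.2
        exact ⟨s, hs, fun x hx => by rw [he x hx]; exact hd x hx, e, hem,
          fun x hx => by rw [he x hx.1]; exact hex x hx⟩⟩
      le := fun h => ⟨h.1.le, fun x hx => h.1.mem_S hx⟩
      conj := fun {A s} hA hs => ⟨mor_conj hA hs, mor_conj hA hs, s, hs,
        fun x hx => by rw [inv_mul_cancel]; exact T.one_mem,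
        id, mor_id inf_le_right, fun x hx => rfl⟩
      comp := fun {A B f g} hf hMf hg hMg hfB => ⟨hf.comp hg hfB, by
        obtain ⟨s, hs, h⟩ := hMf.2
        obtain ⟨s', hs', h'⟩ := hMg.2
        exact ⟨_, S.mul_mem hs' hs, hyp.relS_comp hs hs' h h' hf hfB⟩⟩
      inv := fun {A B f g} hf hMf hg hgf => ⟨hg.1, by
        obtain ⟨s, hs, h⟩ := hMf.2
        exact ⟨_, S.inv_mem hs, hyp.relS_inv hs h hf hgf⟩⟩ }
  refine ((mor_prod.1 hf).2 _ hM fun R α hR hα => ⟨(iso_apl hR.1 (A0_le hα)).1, 1, S.one_mem, ?_⟩).2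
  obtain ⟨hd, he⟩ := hyp.kaut_of_A0 hR.1 hα
  refine ⟨fun x hx => ?_, _, he, fun x hx => by group⟩
  rw [show (1 * x * 1⁻¹)⁻¹ = x⁻¹ by group]
  exact hd x hx

/-- Automorphisms of order prime to `p` in the product system. -/
theorem coprime_prod [Fact p.Prime] (hP : P ≤ S) {α : MulAut P}
    (hα : α ∈ (prodSys p F E).autGroup P) (hco : (orderOf α).Coprime p) :
    (∀ x ∈ P, x⁻¹ * apl α x ∈ T) ∧ Mor E (P ⊓ T) (apl α) := by
  have hi := iso_apl hP hα
  obtain ⟨s, hs, h⟩ := hyp.relS_prod hi.1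
  have hpow : ∀ k : ℕ, RelS E P (apl (α ^ k)) (s ^ k) := by
    intro k
    induction k with
    | zero =>
      refine ⟨fun x hx => ?_, id, mor_id inf_le_right, fun x hx => ?_⟩
      · rw [pow_zero, pow_zero, apl_one hx,
          show ((1 : Ω) * x * 1⁻¹)⁻¹ * x = 1 by group]
        exact T.one_mem
      · rw [pow_zero, pow_zero, apl_one hx.1, id_eq]
        group
    | succ k ih =>
      have h1 := hyp.relS_comp (S.pow_mem hs k) hs ih h
        (prod_mor_F (iso_apl hP (pow_mem hα k)).1) (fun x hx => apl_mem _ hx)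
      obtain ⟨hd, e, he, hex⟩ := h1
      rw [← pow_succ'] at hd hex
      exact ⟨fun x hx => by rw [pow_succ' α, apl_mul _ _ hx]; exact hd x hx, e, he,
        fun x hx => by rw [pow_succ' α, apl_mul _ _ hx.1]; exact hex x hx⟩
  obtain ⟨i, hi'⟩ := hyp.pS ⟨s, hs⟩
  have hsi : s ^ p ^ i = 1 := congrArg Subtype.val hi'
  obtain ⟨n, hn1, hn0⟩ := exists_pow_one_mod (hco.pow_right i)
  obtain ⟨c, rfl⟩ := Nat.modEq_zero_iff_dvd.1 hn0
  have e1 : α ^ (p ^ i * c) = α := by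
    conv_rhs => rw [← pow_one α]
    exact pow_eq_pow_iff_modEq.2 hn1
  have e2 : s ^ (p ^ i * c) = 1 := by rw [pow_mul, hsi, one_pow]
  obtain ⟨hd, e, he, hex⟩ := hpow (p ^ i * c)
  rw [e1, e2] at hd hex
  refine ⟨fun x hx => ?_, he.congr fun x hx => ?_⟩
  · have h := hd x hx
    rwa [show ((1 : Ω) * x * 1⁻¹)⁻¹ = x⁻¹ by group] at h
  · rw [hex x hx]
    group

/-- The normal subsystem has `p`-power index in the product system. -/
theorem prod_index [Fact p.Prime] : E.HasPPowerIndexIn (prodSys p F E) p := by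
  haveI := hyp.finite_T
  refine ⟨sub_of_mor fun P f hf => hyp.mor_E_prod hf, (Subgroup.closure_le _).2 ?_, fun P hP => ?_⟩
  · rintro _ ⟨P, α, x, hP, hα, rfl⟩
    haveI := finite_of_le hP
    rw [← apl_coe]
    let K : Subgroup (MulAut P) :=
      { carrier := {β | ∀ x ∈ P, x⁻¹ * apl β x ∈ T}
        one_mem' := fun x hx => by rw [apl_one hx, inv_mul_cancel]; exact T.one_mem
        mul_mem' := fun {β γ} hβ hγ x hx => by
          rw [apl_mul _ _ hx]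
          have h := T.mul_mem (hγ x hx) (hβ _ (apl_mem γ hx))
          rwa [mul_assoc, mul_inv_cancel_left] at h
        inv_mem' := fun {β} hβ x hx => by
          have h := T.inv_mem (hβ _ (apl_mem β⁻¹ hx))
          rwa [apl_apl_inv β hx, mul_inv_rev, inv_inv] at h }
    exact residual_le_iff hP (K := K) (fun β hβ hco => (hyp.coprime_prod hP hβ hco).1)
      ⟨α, hα, rfl⟩ x x.2
  · have hPS : P ≤ S := hP.trans hyp.T_le
    refine residual_le_iff hPS fun α hα hco => ?_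
    haveI := finite_of_le hPS
    refine (mem_autGroup_iff hP).2 ⟨(hyp.coprime_prod hPS hα hco).2.mono (le_inf le_rfl hP),
      (iso_apl hPS hα).2⟩

end Hyp

end Cfsg.Agent.FusSys.ProdS
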