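import Cfsg.Agent.FusSys.ProdS.Star

/-!
The product system of a normal subsystem with the Sylow group is saturated.
-/

set_option autoImplicit false
set_option linter.unusedSectionVars false
set_option linter.style.haveILetI false
set_option linter.unusedVariables false

namespace Cfsg.Agent.FusSys.ProdS

open Cfsg Cfsg.FusionSystem Cfsg.Agent.FusSys

universe u

variable {Ω : Type u} [Group Ω] {S T : Subgroup Ω} {F : FusionSystem S} {E : FusionSystem T}
variable {P P₀ Q Q' R U Y : Subgroup Ω} {f g g' : Ω → Ω} {p : ℕ}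

/-- All sinks of the class are mutually reachable, when conjugate subgroups are linked by chains. -/
theorem exists_top' [Finite S] [Fact p.Prime] {D : FusionSystem S} (hS : IsPGroup p S) (hPS : P ≤ S)
    (hne : P ≠ S) (hbig : ∀ Y : Subgroup Ω, Y ≤ S → Nat.card P < Nat.card Y → SatClass D p Y)
    (hch : ∀ Q, D.IsConj P Q → ∃ f, Chain D P Q f) :
    ∃ P₀, D.IsConj P P₀ ∧ ∀ Q, D.IsConj P Q → Reach D Q P₀ := by
  obtain ⟨P₀, hP₀, hP₀s⟩ := exists_sink (F := D) hPS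
  refine ⟨P₀, hP₀.isConj, fun Q hQ => ?_⟩
  obtain ⟨f, hf⟩ := hch Q hQ
  have key : ∀ {A B f}, Chain D A B f → A = P → ∀ C, Reach D B C → IsSink D C → Reach D P₀ C := by
    intro A B f hc
    induction hc with
    | refl hA hf =>
      rintro rfl C hC hCs
      exact (sinks_reach hS hPS hne hbig _).1 _ P₀ C (isConj_refl hPS) rfl hP₀ hC hP₀s hCs
    | @step M B a b c hc hl hh ih =>
      rintro rfl C hC hCs
      obtain ⟨D', hD, hDs⟩ := exists_sink (F := D) hl.1.left_le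
      obtain ⟨hb, Y, hMY, hYN, hbY⟩ := hl
      exact (ih rfl D' hD hDs).trans ((sinks_reach hS hPS hne hbig _).2 M B D' C Y b
        hc.iso.isConj hMY hYN hbY hb rfl hD hC hDs hCs)
  obtain ⟨C, hC, hCs⟩ := exists_sink (F := D) hf.iso.right_le
  exact hC.trans (hP₀s C (key hf rfl C hC hCs))

namespace Hyp

variable (hyp : Hyp p F E) [Fact p.Prime] [Finite S]
include hyp

/-- An element of order prime to `p` of the group of generators and induced automorphisms is a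
generator. -/
theorem mem_A0_of_AS (hP : P ≤ S) {a : MulAut P} (ha : a ∈ AS p F E P)
    (hco : (orderOf a).Coprime p) : a ∈ A0 p F E P := by
  haveI := finite_of_le hP
  obtain ⟨b, hb, s, hs, rfl⟩ := (hyp.mem_AS_iff hP).1 ha
  obtain ⟨k, hk⟩ := isPGroup_autInducedBy (P := P) hyp.pS ⟨s, hs⟩
  refine AM.mem_of_coprime_mul (p := p) (Γ := F.autGroup P) (d := s) (k := k)
    (fun g hg α hα => hyp.A0_conj hP hg hα) A0_le
    (mul_mem (A0_le hb) (autInducedBy_le_autGroup hP hs)) (autInducedBy_le_autGroup hP hs)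
    (congrArg Subtype.val hk) ?_ hco
  rwa [mul_inv_cancel_right]

theorem chain_class (hne : P ≠ S) (hQ : (prodSys p F E).IsConj P Q) :
    ∃ f, Chain (prodSys p F E) P Q f := by
  obtain ⟨f, hf⟩ := isConj_iff.1 hQ
  refine prod_induct (F := F) (E := E) hyp.pS hne
    (fun Q Q' _ => ∃ f, Chain (prodSys p F E) Q Q' f) (fun h _ => h) ?_ ?_ ?_ ?_
    (isConj_refl hf.left_le) hf
  · rintro Q Q' Q'' f g hQ hf ⟨a, ha⟩ hg ⟨b, hb⟩
    exact ⟨_, hb.trans ha⟩
  · rintro Q Q' f g hQ hf ⟨a, ha⟩ hg hgf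
    obtain ⟨a', ha', -⟩ := ha.symm
    exact ⟨a', ha'⟩
  · intro Q Q' Y f hQ hQY hYN hf hfQ
    exact ⟨f, .step (.refl hfQ.left_le fun _ _ => rfl) ⟨hfQ, Y, hQY, hYN, hf⟩ fun _ _ => rfl⟩
  · intro Q α hQ hQT hα
    exact ⟨id, .refl hQT.1 fun _ _ => rfl⟩

/-- The class of `S`. -/
theorem satClass_top : SatClass (prodSys p F E) p S ∧ Co p F E S := by
  haveI := hyp.finite_T
  have hSS : TCP S E S := hyp.tcp_top
  let M : Subgroup Ω → (Ω → Ω) → Prop := fun A f =>
    Mor (prodSys p F E) A f ∧ (A = S → ∃ a ∈ AS p F E S, ∀ x ∈ S, f x = apl a x)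
  have hone : ∀ x ∈ S, apl (1 : MulAut S) x = x := fun x hx => apl_one hx
  have hM : SubRel F S M :=
    { congr := fun {A f g} h he => ⟨h.1.congr he, fun hA => by
        obtain ⟨a, ha, hax⟩ := h.2 hA
        exact ⟨a, ha, fun x hx => by rw [he x (hA ▸ hx)]; exact hax x hx⟩⟩
      le := fun h => ⟨h.1.le, fun x hx => h.1.mem_S hx⟩
      conj := fun {A s} hA hs => ⟨mor_conj hA hs, mor_conj hA hs, fun _ => by
        obtain ⟨α, hα, hαx⟩ := exists_mem_autInducedBy (P := S) (K := S) hs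
          (Subgroup.le_normalizer hs)
        exact ⟨α, Subgroup.mem_sup_right hα, fun x hx => (hαx x hx).symm⟩⟩
      comp := fun {A B f g} _ hMf _ hMg hfB => ⟨hMf.1.comp hMg.1 hfB, fun hA => by
        obtain ⟨a, ha, hax⟩ := hMf.2 hA
        have hB : B = S := le_antisymm hMg.1.le fun y hy => by
          rw [← apl_apl_inv a hy, ← hax _ (apl_mem _ hy)]
          exact hfB _ (hA.ge (apl_mem _ hy))
        obtain ⟨b, hb, hbx⟩ := hMg.2 hB
        refine ⟨b * a, mul_mem hb ha, fun x hx => ?_⟩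
        rw [Function.comp_apply, hax x hx, hbx _ (apl_mem a hx), apl_mul _ _ hx]⟩
      inv := fun {A B f g} hfF hMf hgF hgf => by
        obtain ⟨g₀, hg₀, hg₀f, -⟩ := (show Iso (prodSys p F E) A B f from ⟨hMf.1, hfF.2⟩).symm
        refine ⟨hg₀.1.congr fun y hy => ?_, fun hB => ?_⟩
        · obtain ⟨a, ha, rfl⟩ := hfF.exists_eq hy
          rw [hg₀f a ha, hgf a ha]
        · have hA : A = S := eq_of_le_of_card le_rfl hfF.left_le (by rw [hfF.card_eq, hB])
          obtain ⟨a, ha, hax⟩ := hMf.2 hA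
          refine ⟨a⁻¹, inv_mem ha, fun y hy => ?_⟩
          conv_lhs => rw [← apl_apl_inv a hy, ← hax _ (apl_mem _ hy)]
          exact hgf _ (hA.ge (apl_mem _ hy)) }
  have hall : ∀ α ∈ (prodSys p F E).autGroup S, α ∈ AS p F E S := by
    intro α hα
    obtain ⟨a, ha, hax⟩ := ((mor_prod.1 (iso_apl le_rfl hα).1).2 M hM fun R β hR hβ =>
      ⟨mor_gen hR hβ, fun he => by
        subst he
        exact ⟨β, Subgroup.mem_sup_left hβ, fun x hx => rfl⟩⟩).2 rfl
    rwa [apl_ext fun x hx => hax x hx]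
  have heq : (prodSys p F E).autGroup S = AS p F E S :=
    le_antisymm (fun α hα => hall α hα) (AS_le_prod hSS)
  have hconj : ∀ Q, (prodSys p F E).IsConj S Q → Q = S := fun Q hQ =>
    eq_of_le_of_card le_rfl (isConj_le_right hQ) (isConj_card_eq hQ).le
  have hfn : E.IsFullyNormalized (S ⊓ T) := by
    rw [inf_eq_right.2 hyp.T_le]
    refine ⟨le_rfl, fun Q hQ => ?_⟩
    rw [eq_of_le_of_card le_rfl (isConj_le_right hQ) (isConj_card_eq hQ).le]
  obtain ⟨hsyl, -⟩ := hyp.exists_axioms hSS hfn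
    ⟨le_rfl, fun Q hQ => by rw [hconj Q hQ]⟩
  refine ⟨⟨S, isConj_refl le_rfl, (fullyAutomized_iff hyp.pS le_rfl).2 ?_,
    isReceptive_iff.2 ⟨le_rfl, fun Q f hf => ?_⟩⟩,
    fun α hα hc => hyp.mem_A0_of_AS le_rfl (hall α hα) hc⟩
  · rw [heq]
    exact hsyl
  · obtain rfl : Q = S := hconj Q (isConj_symm hf.isConj)
    exact ⟨f, hf.1.mono fun a ha => ha.1, fun _ _ => rfl⟩

/-- The classes of subgroups with centric part in `T`. -/
theorem satClass_tcp (hP : TCP S E P) (hne : P ≠ S)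
    (hIH : ∀ Y, Y ≤ S → Nat.card P < Nat.card Y →
      SatClass (prodSys p F E) p Y ∧ (TCP S E Y → Co p F E Y)) :
    SatClass (prodSys p F E) p P ∧ Co p F E P := by
  haveI := hyp.finite_T
  obtain ⟨Pa, hPa, htopa⟩ := exists_top' (D := prodSys p F E) hyp.pS hP.1 hne
    (fun Y hY hc => (hIH Y hY hc).1) fun Q hQ => hyp.chain_class hne hQ
  have hPaS : Pa ≤ S := isConj_le_right hPa
  obtain ⟨φ, hφ, U', hφU, hU'⟩ := hyp.exists_fn_map (U := Pa ⊓ T) inf_le_right
  have hφN : Mor (prodSys p F E) (normalizerIn S Pa) φ := hφ.mono (hyp.normalizer_le_inter hPaS)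
  obtain ⟨P₀, hφP⟩ := (hφN.mono (le_normalizerIn hPaS)).exists_iso
  have hU'eq : U' = P₀ ⊓ T := (prod_iso_F hφU).eq_image (hyp.iso_inter (prod_iso_F hφP))
  have hP₀c : (prodSys p F E).IsConj P P₀ := isConj_trans hPa hφP.isConj
  have htop : ∀ Q, (prodSys p F E).IsConj P₀ Q → Reach (prodSys p F E) Q P₀ := fun Q hQ =>
    (htopa Q (isConj_trans hP₀c hQ)).trans ⟨φ, hφN, hφP⟩
  have hP₀S := hφP.right_le
  obtain ⟨r, hr⟩ := isConj_iff.1 hP₀c
  have hP₀T : TCP S E P₀ := hyp.tcp_iso hP (prod_iso_F hr)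
  obtain ⟨hsyl, hlift⟩ := hyp.exists_axioms hP₀T (hU'eq ▸ hU')
    ⟨hP₀S, fun Q hQ => (htop Q hQ).card_le⟩
  have hne₀ : P₀ ≠ S := fun he => hne (eq_of_le_of_card le_rfl hP.1 (by rw [hr.card_eq, he]))
  have hIH₀ : ∀ Y, TCP S E Y → Nat.card P₀ < Nat.card Y →
      SatClass (prodSys p F E) p Y ∧ Co p F E Y := fun Y hY hc =>
    have h := hIH Y hY.1 (hr.card_eq ▸ hc)
    ⟨h.1, h.2 hY⟩
  have hid : RM (prodSys p F E) P₀ P₀ id := ⟨mor_id (normalizerIn_le S P₀), iso_id hP₀S⟩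
  have heq : (prodSys p F E).autGroup P₀ = AS p F E P₀ := by
    refine le_antisymm (fun α hα => ?_) (AS_le_prod hP₀T)
    obtain ⟨a, ha, hax⟩ := hyp.nice hP₀T hne₀ htop hIH₀ (isConj_refl hP₀S) (iso_apl hP₀S hα) hid hid
    rwa [apl_ext (α := α) (β := a) fun x hx => hax x hx]
  haveI := finite_of_le hP₀S
  refine ⟨⟨P₀, hP₀c, (fullyAutomized_iff hyp.pS hP₀S).2 (by rw [heq]; exact hsyl),
    isReceptive_iff.2 ⟨hP₀S, fun Q f hf => ?_⟩⟩, fun α hα hc => ?_⟩
  · have hQ : (prodSys p F E).IsConj P₀ Q := isConj_symm hf.isConj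
    obtain ⟨g, hg⟩ := htop Q hQ
    obtain ⟨a, ha, hax⟩ := hyp.nice hP₀T hne₀ htop hIH₀ hQ hf hg hid
    simp only [id_eq] at hax
    have hQN := le_normalizerIn (S := S) hf.left_le
    have hM : Mor (prodSys p F E) (nPhi S Q f) g := hg.1.mono nPhi_le
    obtain ⟨M, hMg⟩ := hM.exists_iso
    have hPM : P₀ ≤ M := fun y hy => by
      obtain ⟨x, hx, rfl⟩ := hg.2.exists_eq hy
      exact hMg.mem (hf.1.le_nPhi hx)
    have hMN : M ≤ normalizerIn S P₀ := fun y hy => by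
      obtain ⟨x, hx, rfl⟩ := hMg.exists_eq hy
      exact mem_normalizerIn_image hf.left_le hg.1 hg.2 (nPhi_le hx)
    obtain ⟨f₁, hf₁, hf₁x⟩ := hlift a ha M hPM hMN fun m hm β hβ => by
      obtain ⟨s, hs, rfl⟩ := hMg.exists_eq hm
      obtain ⟨hsS, hsn, t, ht, hts⟩ := mem_nPhi.1 hs
      have hy : ∀ y ∈ P₀, apl (a * β * a⁻¹) y = t * y * t⁻¹ := by
        intro y hy
        obtain ⟨x, hx, rfl⟩ := hf.exists_eq hy
        have hgx := hg.2.mem hx
        rw [hax x hx, apl_mul _ _ (apl_mem a hgx), apl_inv_apl a hgx, apl_mul _ _ hgx, hβ _ hgx,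
          ← hg.1.map_conj ⟨hsS, hsn⟩ (hQN hx),
          ← hax _ ((Subgroup.mem_normalizer_iff.1 hsn x).1 hx), hts x hx, hax x hx]
      refine mem_autInducedBy_iff.2 ⟨t, ht, mem_normalizer_of_maps fun y hy' => ?_, hy⟩
      rw [← hy y hy']
      exact apl_mem _ hy'
    refine ⟨f₁ ∘ g, hM.comp hf₁ fun x hx => hMg.mem hx, fun x hx => ?_⟩
    rw [Function.comp_apply, hf₁x _ (hg.2.mem hx), ← hax x hx]
  · have h1 : hr.conjAut α ∈ (prodSys p F E).autGroup P₀ := hr.conjAut_mem hα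
    rw [heq] at h1
    have h2 := hyp.mem_A0_of_AS hP₀S h1 (by rw [AM.orderOf_conjAut]; exact hc)
    obtain ⟨r', hr', hr'r, -⟩ := hr.symm
    have h3 := hyp.A0_transport (prod_iso_F hr') h2
    rwa [apl_ext (α := (prod_iso_F hr').conjAut (hr.conjAut α)) (β := α) fun x hx => by
      conv_lhs => rw [← hr'r x hx]
      rw [(prod_iso_F hr').conjAut_apl _ (hr.mem hx), hr.conjAut_apl α hx,
        hr'r _ (apl_mem α hx)]] at h3

/-- The product system is saturated; its automorphisms of order prime to `p` of subgroups with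
centric part in `T` are generators. -/
theorem prod_satClass (hP : P ≤ S) :
    SatClass (prodSys p F E) p P ∧ (TCP S E P → Co p F E P) := by
  haveI := hyp.finite_T
  have hS := hyp.pS
  suffices H : ∀ n, ∀ P : Subgroup Ω, P ≤ S → Nat.card S - Nat.card P = n →
      SatClass (prodSys p F E) p P ∧ (TCP S E P → Co p F E P) from H _ P hP rfl
  intro n
  induction n using Nat.strong_induction_on with
  | h n ih =>
  intro P hP hn
  by_cases hne : P = S
  · subst hne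
    exact ⟨hyp.satClass_top.1, fun _ => hyp.satClass_top.2⟩
  have hIH : ∀ Y, Y ≤ S → Nat.card P < Nat.card Y →
      SatClass (prodSys p F E) p Y ∧ (TCP S E Y → Co p F E Y) := fun Y hY hc => by
    have h1 : Nat.card Y ≤ Nat.card S := card_le_of_le hY
    exact ih _ (by omega) Y hY rfl
  by_cases hT : TCP S E P
  · exact ⟨(hyp.satClass_tcp hT hne hIH).1, fun _ => (hyp.satClass_tcp hT hne hIH).2⟩
  refine ⟨?_, fun h => absurd h hT⟩
  obtain ⟨ℋ, hℋ⟩ : ∃ ℋ : Set (Subgroup Ω), ℋ = {Q | TCP S E Q} := ⟨_, rfl⟩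
  have hℋS : ∀ Q ∈ ℋ, Q ≤ S := fun Q hQ => by rw [hℋ] at hQ; exact hQ.1
  have hℋc : ∀ Q ∈ ℋ, ∀ R, (prodSys p F E).IsConj Q R → R ∈ ℋ := fun Q hQ R hR => by
    rw [hℋ] at hQ ⊢
    obtain ⟨r, hr⟩ := isConj_iff.1 hR
    exact hyp.tcp_iso hQ (prod_iso_F hr)
  have hSℋ : S ∈ ℋ := hℋ ▸ hyp.tcp_top
  have hgen : ∀ D : FusionSystem S, (∀ Q ∈ ℋ, (prodSys p F E).Hom Q ⊆ D.Hom Q) →
      prodSys p F E ≤ D := by
    intro D hD
    have hM : SubRel F S (fun A f => Mor D A f) :=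
      { congr := fun h he => h.congr he
        le := fun h => ⟨h.le, fun x hx => h.mem_S hx⟩
        conj := fun hA hs => ⟨mor_conj hA hs, mor_conj hA hs⟩
        comp := fun _ h _ h' hfB => h.comp h' hfB
        inv := fun {A B f g} hf h hg hgf => by
          obtain ⟨g₀, hg₀, hg₀f, -⟩ := (show Iso D A B f from ⟨h, hf.2⟩).symm
          refine hg₀.1.congr fun y hy => ?_
          obtain ⟨a, ha, rfl⟩ := hf.exists_eq hy
          rw [hg₀f a ha, hgf a ha] }
    refine le_iff_mor.2 fun Q f hf => (mor_prod.1 hf).2 _ hM fun R α hR hα => ?_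
    obtain ⟨φ, hφ, hφf⟩ := mor_gen hR hα
    exact ⟨φ, hD R (by rw [hℋ]; exact hR) hφ, hφf⟩
  have hPℋ : P ∉ ℋ := by rw [hℋ]; exact hT
  have hbig : ∀ Y : Subgroup Ω, Y ≤ S → Nat.card P < Nat.card Y → SatClass (prodSys p F E) p Y :=
    fun Y hY hc => (hIH Y hY hc).1
  obtain ⟨P₀, hP₀, htop⟩ := exists_top hS hP hne hbig
    (chain_of_generated hS hℋS hℋc hSℋ hgen hPℋ)
  have hP₀S := isConj_le_right hP₀
  have hP₀ℋ : P₀ ∉ ℋ := fun h => hPℋ (hℋc P₀ h P (isConj_symm hP₀))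
  have hne₀ : P₀ ≠ S := fun he => hP₀ℋ (he ▸ hSℋ)
  have hreach : ∀ Q, (prodSys p F E).IsConj P₀ Q → Reach (prodSys p F E) Q P₀ := fun Q hQ =>
    htop Q (isConj_trans hP₀ hQ)
  have hbig₀ : ∀ Y : Subgroup Ω, Y ≤ S → Nat.card P₀ < Nat.card Y →
      SatClass (prodSys p F E) p Y := fun Y hY hc => hbig Y hY ((isConj_card_eq hP₀).trans_lt hc)
  have hX := lt_coreExt (p := p) hS hP₀S hreach fun hc =>
    hyp.exists_star hc fun h => hP₀ℋ (by rw [hℋ]; exact h)
  have hxt : ∀ f, Iso (prodSys p F E) P₀ P₀ f → Xt (prodSys p F E) p P₀ f := fun f hf =>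
    xt_of_chain hS hne₀ hbig₀ hreach
      (fun f hf => chain_of_generated hS hℋS hℋc hSℋ hgen hP₀ℋ P₀ f hf) hf
  exact ⟨P₀, hP₀, automized_of_xt hS hP₀S hX hbig₀ hreach hxt,
    receptive_of_xt hS hP₀S hX hbig₀ hreach hxt⟩

/-- The product system is saturated. -/
theorem prod_saturated : (prodSys p F E).IsSaturated p := fun P hP => (hyp.prod_satClass hP).1

end Hyp

end Cfsg.Agent.FusSys.ProdS
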