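import Cfsg.Agent.FusSys.ProdS.Class

/-!
A centric subgroup of the product system whose part in `T` is not centric is not radical at some
conjugate.
-/

set_option autoImplicit false
set_option linter.unusedSectionVars false
set_option linter.style.haveILetI false
set_option linter.unusedVariables false

namespace Cfsg.Agent.FusSys.ProdS

open Cfsg Cfsg.FusionSystem Cfsg.Agent.FusSys

universe u

variable {Ω : Type u} [Group Ω] {S T : Subgroup Ω} {F : FusionSystem S} {E : FusionSystem T}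
variable {P : Subgroup Ω} {p : ℕ}

namespace Hyp

variable (hyp : Hyp p F E) [Fact p.Prime] [Finite S]
include hyp

theorem exists_star_in {D : FusionSystem S} (hsub : ∀ A f, Mor (prodSys p F E) A f → Mor D A f)
    (hDF : ∀ A f, Mor D A f → Mor F A f) (hc : D.IsCentric P) (hT : ¬ TCP S E P) :
    ∃ Q, D.IsConj P Q ∧ ¬ (autInducedBy S Q ⊓ coreAut D p Q ≤ Inn Q) := by
  haveI := hyp.finite_T
  have hPS := hc.1
  obtain ⟨φ, hφ, U', hφU, hU'⟩ := hyp.exists_fn_map (U := P ⊓ T) inf_le_right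
  have hφN : Mor (prodSys p F E) (normalizerIn S P) φ := hφ.mono (hyp.normalizer_le_inter hPS)
  obtain ⟨Q, hφQ⟩ := (hφN.mono (le_normalizerIn hPS)).exists_iso
  have hU'eq : U' = Q ⊓ T := (prod_iso_F hφU).eq_image (hyp.iso_inter (prod_iso_F hφQ))
  subst hU'eq
  have hQS : Q ≤ S := hφQ.right_le
  have hφD : Iso D P Q φ := ⟨hsub _ _ hφQ.1, hφQ.2⟩
  refine ⟨Q, hφD.isConj, fun hle => ?_⟩
  have hQT : ¬ TCP S E Q := fun h => by
    obtain ⟨r, hr, -, -⟩ := hφQ.symm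
    exact hT (hyp.tcp_iso h (prod_iso_F hr))
  obtain ⟨U, hU⟩ : ∃ U, U = Q ⊓ T := ⟨_, rfl⟩
  have hUQ : U ≤ Q := hU ▸ inf_le_left
  have hUT : U ≤ T := hU ▸ inf_le_right
  haveI := finite_of_le hQS
  haveI : Finite (MulAut Q) := Finite.of_injective _ MulEquiv.toEquiv_injective
  obtain ⟨C, hC⟩ : ∃ C, C = centralizerIn T U := ⟨_, rfl⟩
  have hnc : ¬ C ≤ U := by
    intro hCU
    refine hQT ⟨hQS, centric_of_fullyCentralized
      (fullyCentralized_of_fullyNormalized hyp.pT hyp.satE hU') ?_⟩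
    rw [← hU, ← hC]
    exact hCU
  have hCT : C ≤ T := hC ▸ inf_le_left
  have hCS : C ≤ S := hCT.trans hyp.T_le
  haveI := finite_of_le hCS
  have hUn : ∀ x ∈ Q, ∀ y ∈ U, x * y * x⁻¹ ∈ U := by
    intro x hx y hy
    rw [hU] at hy ⊢
    exact ⟨Q.mul_mem (Q.mul_mem hx hy.1) (Q.inv_mem hx), hyp.diff_mem (hQS hx) hy.2⟩
  have hQnC : Q ≤ Subgroup.normalizer (C : Set Ω) := fun x hx => mem_normalizer_of_maps fun c hc => by
    rw [hC] at hc ⊢
    refine AM.mem_centralizerIn (hyp.diff_mem (hQS hx) hc.1) fun y hy => ?_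
    have hw : x⁻¹ * y * x ∈ U := by
      have h := hUn x⁻¹ (Q.inv_mem hx) y hy
      rwa [inv_inv] at h
    calc x * c * x⁻¹ * y * (x * c * x⁻¹)⁻¹ = x * (c * (x⁻¹ * y * x) * c⁻¹) * x⁻¹ := by group
      _ = x * (x⁻¹ * y * x) * x⁻¹ := by rw [AM.comm_of_mem hc hw]
      _ = y := by group
  have hCQ : ∀ c ∈ C, c ∈ Q → c ∈ U := fun c hc hcQ => hU ▸ ⟨hcQ, hCT hc⟩
  have hlt : Q < C ⊔ Q := lt_of_le_of_ne le_sup_right fun he =>
    hnc fun c hc => hCQ c hc (he ▸ Subgroup.mem_sup_left hc)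
  obtain ⟨w, ⟨hwK, hwn⟩, hwQ⟩ :=
    SetLike.exists_of_lt (lt_inf_normalizer hyp.pS (sup_le hCS hQS) hlt)
  have hwK' : w ∈ ((C ⊔ Q : Subgroup Ω) : Set Ω) := hwK
  rw [Subgroup.coe_mul_of_right_le_normalizer_left _ _ hQnC] at hwK'
  obtain ⟨t, ht, q, hq, rfl⟩ := hwK'
  have htn : t ∈ Subgroup.normalizer (Q : Set Ω) := by
    have h := Subgroup.mul_mem _ hwn (Subgroup.inv_mem _ (Subgroup.le_normalizer hq))
    rwa [mul_inv_cancel_right] at h
  have htQ : t ∉ Q := fun h => hwQ (Q.mul_mem h hq)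
  obtain ⟨β, hβ, hβx⟩ := exists_mem_autInducedBy (P := Q) (K := S) (hCS ht) htn
  have hβfix : ∀ y ∈ U, apl β y = y := fun y hy => by
    rw [hβx y (hUQ hy)]
    exact AM.comm_of_mem (hC.le ht) hy
  have hβd : ∀ x ∈ Q, x⁻¹ * apl β x ∈ U := fun x hx => by
    rw [hU]
    refine ⟨Q.mul_mem (Q.inv_mem hx) (apl_mem β hx), ?_⟩
    rw [hβx x hx, show x⁻¹ * (t * x * t⁻¹) = x⁻¹ * t * x⁻¹⁻¹ * t⁻¹ by group]
    exact T.mul_mem (hyp.diff_mem (S.inv_mem (hQS hx)) (hCT ht)) (T.inv_mem (hCT ht))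
  have hstab : ∀ α ∈ D.autGroup Q, ∀ y ∈ U, apl α y ∈ U := fun α hα y hy => by
    rw [hU] at hy ⊢
    exact ⟨apl_mem α hy.1,
      StronglyClosed.mor_mem hyp.sc (hDF _ _ (iso_apl hQS hα).1) hy.1 hy.2⟩
  let Kp : Subgroup (MulAut Q) :=
    { carrier := {β | β ∈ D.autGroup Q ∧ (∀ y ∈ U, apl β y = y) ∧
        ∀ x ∈ Q, x⁻¹ * apl β x ∈ U}
      one_mem' := ⟨one_mem _, fun y hy => apl_one (hUQ hy), fun x hx => by
        rw [apl_one hx, inv_mul_cancel]; exact U.one_mem⟩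
      mul_mem' := by
        rintro α β ⟨hα, hαU, hαd⟩ ⟨hβ, hβU, hβd⟩
        refine ⟨mul_mem hα hβ, fun y hy => ?_, fun x hx => ?_⟩
        · rw [apl_mul _ _ (hUQ hy), hβU y hy, hαU y hy]
        · rw [apl_mul _ _ hx]
          have h1 := U.mul_mem (hβd x hx) (hαd _ (apl_mem β hx))
          rwa [mul_assoc, mul_inv_cancel_left] at h1
      inv_mem' := by
        rintro α ⟨hα, hαU, hαd⟩
        refine ⟨inv_mem hα, fun y hy => ?_, fun x hx => ?_⟩
        · conv_lhs => rw [← hαU y hy]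
          exact apl_inv_apl α (hUQ hy)
        · have h1 := U.inv_mem (hαd _ (apl_mem α⁻¹ hx))
          rwa [apl_apl_inv α hx, mul_inv_rev, inv_inv] at h1 }
  have hKp : IsPGroup p Kp := by
    rintro ⟨β, hβ, hβU, hβd⟩
    obtain ⟨k, hk'⟩ := AM.pow_eq_one_of_fix hyp.pS hUQ hQS hβ hβU hβd
    exact ⟨k, Subtype.ext hk'⟩
  have hKn : (Kp.subgroupOf (D.autGroup Q)).Normal := by
    refine ⟨fun x hx g => ?_⟩
    obtain ⟨hxA, hxU, hxd⟩ := Subgroup.mem_subgroupOf.1 hx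
    refine Subgroup.mem_subgroupOf.2
      ⟨mul_mem (mul_mem g.2 hxA) (inv_mem g.2), fun y hy => ?_, fun z hz => ?_⟩
    · have hw := hstab _ (inv_mem g.2) y hy
      show apl ((g : MulAut Q) * (x : MulAut Q) * (g : MulAut Q)⁻¹) y = y
      rw [apl_mul _ _ (hUQ hy), apl_mul _ _ (hUQ hw), hxU _ hw, apl_apl_inv _ (hUQ hy)]
    · have hw := apl_mem (g : MulAut Q)⁻¹ hz
      have h1 := hstab _ g.2 _ (hxd _ hw)
      rw [(iso_apl hQS g.2).1.map_mul (Q.inv_mem hw) (apl_mem _ hw),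
        (iso_apl hQS g.2).1.map_inv hw, apl_apl_inv _ hz] at h1
      show z⁻¹ * apl ((g : MulAut Q) * (x : MulAut Q) * (g : MulAut Q)⁻¹) z ∈ U
      rwa [apl_mul _ _ hz, apl_mul _ _ hw]
  have hβD : β ∈ D.autGroup Q := autInducedBy_le_autGroup hQS hβ
  have hcore : β ∈ coreAut D p Q :=
    Subgroup.mem_map.2 ⟨⟨β, hβD⟩, Cfsg.Agent.Core.le_pCore (hN := hKn) hKp.comap_subtype
      (show β ∈ Kp from ⟨hβD, hβfix, hβd⟩), rfl⟩
  obtain ⟨c, hc', -, hcx⟩ := mem_autInducedBy_iff.1 (inn_eq_autInducedBy.le (hle ⟨hβ, hcore⟩))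
  have hcC : c⁻¹ * t ∈ centralizerIn S Q :=
    AM.mem_centralizerIn (S.mul_mem (S.inv_mem (hQS hc')) (hCS ht)) fun x hx => by
      calc c⁻¹ * t * x * (c⁻¹ * t)⁻¹ = c⁻¹ * (t * x * t⁻¹) * c := by group
        _ = c⁻¹ * (c * x * c⁻¹) * c := by rw [← hβx x hx, hcx x hx]
        _ = x := by group
  have h1 := Q.mul_mem hc' (hc.2 Q hφD.isConj hcC)
  rw [mul_inv_cancel_left] at h1
  exact htQ h1

theorem exists_star (hc : (prodSys p F E).IsCentric P) (hT : ¬ TCP S E P) :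
    ∃ Q, (prodSys p F E).IsConj P Q ∧
      ¬ (autInducedBy S Q ⊓ coreAut (prodSys p F E) p Q ≤ Inn Q) :=
  hyp.exists_star_in (fun _ _ h => h) (fun _ _ h => prod_mor_F h) hc hT

end Hyp

end Cfsg.Agent.FusSys.ProdS
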