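import Cfsg.Agent.FusSys.ProdS.KSys

/-!
Every map acting on `U` as an element of `P` commutes, up to the group, with the elements of order
prime to `p` of the normal subgroup which are trivial modulo `T` on `P C_S(U)`.
-/

set_option autoImplicit false
set_option linter.unusedSectionVars false
set_option linter.style.haveILetI false
set_option linter.unusedVariables false
set_option maxHeartbeats 800000

namespace Cfsg.Agent.FusSys.ProdS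

open Cfsg Cfsg.FusionSystem Cfsg.Agent.FusSys

universe u

variable {Ω : Type u} [Group Ω] {S T : Subgroup Ω} {F : FusionSystem S} {E : FusionSystem T}
variable {P Q R U : Subgroup Ω} {f g : Ω → Ω} {p : ℕ}

/-- `P C_S(U) ∩ T`. -/
def JJ (S T U P : Subgroup Ω) : Subgroup Ω := MM S U P ⊓ T

/-- Elements of order prime to `p` of the normal subgroup moving `P C_S(U)` inside cosets. -/
def HM (l : Loc p F E U) (P : Subgroup Ω) (h : l.G) : Prop :=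
  h ∈ l.H ∧ (orderOf h).Coprime p ∧
    ∀ x ∈ MM S U P, l.Moves h x ∧ l.cj h x ∈ MM S U P ∧ x⁻¹ * l.cj h x ∈ JJ S T U P

/-- `f` extends over `J` to a map carrying the action of these elements to their action. -/
def RR {N : Subgroup Ω} (D : FusionSystem N) (l : Loc p F E U) (P X : Subgroup Ω) (f : Ω → Ω) :
    Prop :=
  X ≤ MM S U P ∧ (∀ x ∈ X, f x ∈ MM S U P) ∧
    ∃ k, Mor D (X ⊔ JJ S T U P) k ∧ (∀ x ∈ X, k x = f x) ∧
      (∀ h, HM l P h → ∃ h', HM l P h' ∧ ∀ x ∈ X ⊔ JJ S T U P, k (l.cj h x) = l.cj h' (k x)) ∧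
      ∀ h', HM l P h' → ∃ h, HM l P h ∧ ∀ x ∈ X ⊔ JJ S T U P, k (l.cj h x) = l.cj h' (k x)

section

variable (hyp : Hyp p F E) [Fact p.Prime] [Finite S] (l : Loc p F E U)
variable (hUE : E.IsCentric U) (hUP : U ≤ P) (hPW : P ≤ normalizerIn S U)
include hyp hUE hUP hPW

theorem J_le : U ≤ JJ S T U P := le_inf (le_MM hUP hPW) hUE.1

theorem J_normal {s x : Ω} (hs : s ∈ MM S U P) (hx : x ∈ JJ S T U P) :
    s * x * s⁻¹ ∈ JJ S T U P :=
  ⟨mul_mem (mul_mem hs hx.1) (Subgroup.inv_mem _ hs), hyp.diff_mem (MM_le_S hUP hPW hs) hx.2⟩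

theorem HM_conj {s : Ω} (hs : s ∈ MM S U P) {h : l.G} (hh : HM l P h) :
    HM l P (l.e s * h * (l.e s)⁻¹) := by
  have hsW := MM_le hUP hPW hs
  refine ⟨l.H_normal _ hh.1, ?_, fun x hx => ?_⟩
  · rw [orderOf_conj_eq]
    exact hh.2.1
  · obtain ⟨x', hx'⟩ : ∃ x', x' = s⁻¹ * x * s := ⟨_, rfl⟩
    have hxs : x' ∈ MM S U P := hx' ▸ mul_mem (mul_mem (inv_mem hs) hx) hs
    obtain ⟨hm, hmem, hd⟩ := hh.2.2 x' hxs
    obtain ⟨h1, h2⟩ := l.cj_conj hsW (MM_le hUP hPW hxs) hm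
    have e : s * x' * s⁻¹ = x := by rw [hx']; group
    rw [e] at h1 h2
    refine ⟨h1, h2 ▸ mul_mem (mul_mem hs hmem) (inv_mem hs), ?_⟩
    rw [h2, ← e, show (s * x' * s⁻¹)⁻¹ * (s * l.cj h x' * s⁻¹) =
      s * (x'⁻¹ * l.cj h x') * s⁻¹ by group]
    exact J_normal hyp hUE hUP hPW hs hd
where
  orderOf_conj_eq {G : Type _} [Group G] {a b : G} : orderOf (a * b * a⁻¹) = orderOf b :=
    (MulAut.conj a).orderOf_eq b

theorem HM_stable {X : Subgroup Ω} (hX : X ≤ MM S U P) (hJX : JJ S T U P ≤ X) {h : l.G}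
    (hh : HM l P h) {x : Ω} (hx : x ∈ X) : l.cj h x ∈ X := by
  have h1 := mul_mem hx (hJX (hh.2.2 x (hX hx)).2.2)
  rwa [mul_inv_cancel_left] at h1

theorem kmem {X : Subgroup Ω} {f : Ω → Ω} (hf : Mor (kSys hUP hPW F) X f) :
    ∀ x ∈ X, f x ∈ MM S U P :=
  fun _ hx => hf.mem_S hx

theorem J_sc : (kSys hUP hPW F).StronglyClosed (JJ S T U P) :=
  stronglyClosed_iff.2 ⟨inf_le_left, fun X f hX hf x hx => ⟨hf.mem_S hx,
    StronglyClosed.mor_mem hyp.sc ((mor_kSys hUP hPW).1 hf).1 hx (hX hx).2⟩⟩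

variable (hn : F.IsFullyNormalized U)
include hn

theorem finite_MM : Finite (MM S U P) := finite_of_le (MM_le_S hUP hPW)

theorem subRel_RR :
    SubRel (kSys hUP hPW F) (MM S U P) (RR (kSys hUP hPW F) l P) := by
  haveI := finite_MM hyp hUE hUP hPW hn
  have hJ := J_sc hyp hUE hUP hPW
  refine
    { congr := ?_
      le := fun h => ⟨h.1, h.2.1⟩
      conj := ?_
      comp := ?_
      inv := ?_ }
  · rintro X f f' ⟨h1, h2, k, hk, hkf, ha, hb⟩ he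
    exact ⟨h1, fun x hx => by rw [he x hx]; exact h2 x hx, k, hk,
      fun x hx => by rw [hkf x hx, he x hx], ha, hb⟩
  · intro X s hX hs
    refine ⟨mor_conj hX hs, hX, fun x hx => mul_mem (mul_mem hs (hX hx)) (inv_mem hs),
      fun x => s * x * s⁻¹, mor_conj (sup_le hX inf_le_left) hs, fun _ _ => rfl,
      fun h hh => ?_, fun h hh => ?_⟩
    · refine ⟨_, HM_conj hyp l hUE hUP hPW hs hh, fun x hx => ?_⟩
      have hx' : x ∈ MM S U P := sup_le hX inf_le_left hx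
      exact (l.cj_conj (MM_le hUP hPW hs) (MM_le hUP hPW hx') (hh.2.2 x hx').1).2.symm
    · have hh' := HM_conj hyp l hUE hUP hPW (inv_mem hs) hh
      refine ⟨_, hh', fun x hx => ?_⟩
      have hx' : x ∈ MM S U P := sup_le hX inf_le_left hx
      have e : l.e s * (l.e s⁻¹ * h * (l.e s⁻¹)⁻¹) * (l.e s)⁻¹ = h := by
        rw [l.e_inv (MM_le hUP hPW hs)]
        group
      have h2 := (l.cj_conj (MM_le hUP hPW hs) (MM_le hUP hPW hx') (hh'.2.2 x hx').1).2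
      rw [e] at h2
      exact h2.symm
  · rintro X Y f f' hf ⟨h1, h2, k, hk, hkf, ha, hb⟩ hf' ⟨h1', h2', k', hk', hkf', ha', hb'⟩ hfY
    have hm : ∀ x ∈ X ⊔ JJ S T U P, k x ∈ Y ⊔ JJ S T U P := fun x hx =>
      hk.mem_of_sup (fun a h => Subgroup.mem_sup_left ((hkf a h).symm ▸ hfY a h))
        (fun a h => Subgroup.mem_sup_right
          (StronglyClosed.mor_mem hJ hk (Subgroup.mem_sup_right h) h)) hx
    refine ⟨h1, fun x hx => h2' _ (hfY x hx), k' ∘ k, hk.comp hk' hm, fun x hx => ?_,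
      fun h hh => ?_, fun h hh => ?_⟩
    · show k' (k x) = f' (f x)
      rw [hkf x hx, hkf' _ (hfY x hx)]
    · obtain ⟨h₁, hh₁, hx₁⟩ := ha h hh
      obtain ⟨h₂, hh₂, hx₂⟩ := ha' h₁ hh₁
      refine ⟨h₂, hh₂, fun x hx => ?_⟩
      show k' (k _) = l.cj h₂ (k' (k x))
      rw [hx₁ x hx, hx₂ _ (hm x hx)]
    · obtain ⟨h₁, hh₁, hx₁⟩ := hb' h hh
      obtain ⟨h₂, hh₂, hx₂⟩ := hb h₁ hh₁
      refine ⟨h₂, hh₂, fun x hx => ?_⟩
      show k' (k _) = l.cj h (k' (k x))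
      rw [hx₂ x hx, hx₁ _ (hm x hx)]
  · rintro X Y f g hf ⟨h1, h2, k, hk, hkf, ha, hb⟩ hg hgf
    obtain ⟨Z, hZ⟩ := hk.exists_iso
    obtain ⟨k', hk', hk'k, -⟩ := hZ.symm
    have hZY : Z = Y ⊔ JJ S T U P := le_antisymm (fun z hz => by
        obtain ⟨x, hx, rfl⟩ := hZ.exists_eq hz
        exact hk.mem_of_sup (fun a h => Subgroup.mem_sup_left ((hkf a h).symm ▸ hf.mem h))
          (fun a h => Subgroup.mem_sup_right
            (StronglyClosed.mor_mem hJ hk (Subgroup.mem_sup_right h) h)) hx)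
      (sup_le (fun y hy => by
          obtain ⟨x, hx, rfl⟩ := hf.exists_eq hy
          exact (hkf x hx) ▸ hZ.mem (Subgroup.mem_sup_left hx))
        (fun y hy => by
          obtain ⟨x, hx, rfl⟩ := (StronglyClosed.iso_self hJ hk le_sup_right).exists_eq hy
          exact hZ.mem (Subgroup.mem_sup_right hx)))
    subst hZY
    refine ⟨hg.left_le, fun y hy => hg.1.mem_S hy, k', hk'.1, fun y hy => ?_,
      fun h hh => ?_, fun h hh => ?_⟩
    · obtain ⟨x, hx, rfl⟩ := hf.exists_eq hy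
      rw [← hkf x hx, hk'k x (Subgroup.mem_sup_left hx), hkf x hx, hgf x hx]
    · obtain ⟨h₁, hh₁, hx₁⟩ := hb h hh
      refine ⟨h₁, hh₁, fun y hy => ?_⟩
      obtain ⟨x, hx, rfl⟩ := hZ.exists_eq hy
      rw [← hx₁ x hx, hk'k x hx,
        hk'k _ (HM_stable hyp l hUE hUP hPW hk.le le_sup_right hh₁ hx)]
    · obtain ⟨h₁, hh₁, hx₁⟩ := ha h hh
      refine ⟨h₁, hh₁, fun y hy => ?_⟩
      obtain ⟨x, hx, rfl⟩ := hZ.exists_eq hy
      rw [← hx₁ x hx, hk'k x hx,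
        hk'k _ (HM_stable hyp l hUE hUP hPW hk.le le_sup_right hh hx)]

/-- `P C_S(U)` is radical. -/
theorem radical_MM : (kSys hUP hPW F).IsRadical p (MM S U P) := by
  haveI := finite_MM hyp hUE hUP hPW hn
  have hp := hyp.pS.to_le (MM_le_S hUP hPW)
  obtain ⟨-, V, hV⟩ := top_fullyAutomized hp (kSys_sat hUP hPW hyp.pS hyp.sat hn)
  rw [← inn_eq_autInducedBy] at hV
  have e : pCore p ((kSys hUP hPW F).autGroup (MM S U P)) =
      (Inn (MM S U P)).subgroupOf ((kSys hUP hPW F).autGroup (MM S U P)) := by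
    refine le_antisymm ((Cfsg.Agent.Core.pCore_le_sylow V).trans hV.le) ?_
    haveI := innIn_normal (kSys hUP hPW F) (MM S U P)
    exact Cfsg.Agent.Core.le_pCore (hV ▸ V.2)
  refine ⟨le_rfl, ?_⟩
  rw [e, Subgroup.map_subgroupOf_eq_of_le (inn_le_autGroup le_rfl)]

/-- Automorphisms of a radical centric `Q ≥ U` moving it inside `J` and acting on `U` as an element
of `J` form a `p`-group, so are inner; in particular `J ≤ Q`. -/
theorem inner_of_mod {Q : Subgroup Ω} (hUQ : U ≤ Q) (hc : (kSys hUP hPW F).IsCentric Q)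
    (hr : (kSys hUP hPW F).IsRadical p Q) :
    JJ S T U P ≤ Q ∧ ∀ β ∈ (kSys hUP hPW F).autGroup Q, (∀ x ∈ Q, x⁻¹ * apl β x ∈ JJ S T U P) →
      (∀ x ∈ U, apl β x = x) → β ∈ Inn Q := by
  haveI := finite_MM hyp hUE hUP hPW hn
  have hQM : Q ≤ MM S U P := hc.1
  have hQS : Q ≤ S := hQM.trans (MM_le_S hUP hPW)
  haveI := finite_of_le hQS
  haveI : Finite (MulAut Q) := Finite.of_injective _ MulEquiv.toEquiv_injective
  have hJ := J_sc hyp hUE hUP hPW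
  have hJU : ∀ a ∈ JJ S T U P, ∀ x ∈ U, a * x * a⁻¹ ∈ U := fun a ha x hx =>
    (Subgroup.mem_normalizer_iff.1 (MM_le hUP hPW ha.1).2 x).1 hx
  let Γ : Subgroup (MulAut Q) :=
    { carrier := {β | β ∈ (kSys hUP hPW F).autGroup Q ∧ (∀ x ∈ Q, x⁻¹ * apl β x ∈ JJ S T U P) ∧
        ∃ a ∈ JJ S T U P, ∀ x ∈ U, apl β x = a * x * a⁻¹}
      one_mem' := ⟨one_mem _, fun x hx => by rw [apl_one hx, inv_mul_cancel]; exact one_mem _,
        1, one_mem _, fun x hx => by rw [apl_one (hUQ hx)]; group⟩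
      mul_mem' := by
        rintro α β ⟨hα, hαd, a, ha, hax⟩ ⟨hβ, hβd, b, hb, hbx⟩
        refine ⟨mul_mem hα hβ, fun x hx => ?_, a * b, mul_mem ha hb, fun x hx => ?_⟩
        · rw [apl_mul _ _ hx]
          have h1 := mul_mem (hβd x hx) (hαd _ (apl_mem β hx))
          rwa [mul_assoc, mul_inv_cancel_left] at h1
        · rw [apl_mul _ _ (hUQ hx), hbx x hx, hax _ (hJU b hb x hx)]
          group
      inv_mem' := by
        rintro α ⟨hα, hαd, a, ha, hax⟩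
        refine ⟨inv_mem hα, fun x hx => ?_, a⁻¹, inv_mem ha, fun x hx => ?_⟩
        · have h1 := inv_mem (hαd _ (apl_mem α⁻¹ hx))
          rwa [apl_apl_inv α hx, mul_inv_rev, inv_inv] at h1
        · have hy := hJU a⁻¹ (inv_mem ha) x hx
          have h1 := apl_inv_apl α (hUQ hy)
          rw [hax _ hy, show a * (a⁻¹ * x * a⁻¹⁻¹) * a⁻¹ = x by group] at h1
          exact h1 }
  have hΓle : Γ ≤ (kSys hUP hPW F).autGroup Q := fun β hβ => hβ.1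
  have hΓp : IsPGroup p Γ := by
    rintro ⟨β, hβ, hβd, a, ha, hax⟩
    obtain ⟨i, hi⟩ := hyp.pS ⟨a, MM_le_S hUP hPW ha.1⟩
    have hpow : ∀ m : ℕ, ∀ x ∈ U, apl (β ^ m) x = a ^ m * x * (a ^ m)⁻¹ := by
      intro m
      induction m with
      | zero => intro x hx; rw [pow_zero, pow_zero, apl_one (hUQ hx)]; group
      | succ m ih =>
        intro x hx
        rw [pow_succ', apl_mul _ _ (hUQ hx), ih x hx,
          hax _ (hJU _ (pow_mem ha m) x hx), pow_succ']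
        group
    obtain ⟨δ, hδ⟩ : ∃ δ, δ = β ^ p ^ i := ⟨_, rfl⟩
    have hfix : ∀ x ∈ U, apl δ x = x := fun x hx => by
      rw [hδ, hpow _ x hx, show a ^ p ^ i = 1 from congrArg Subtype.val hi]
      group
    have hδd : ∀ x ∈ Q, x⁻¹ * apl δ x ∈ JJ S T U P := hδ ▸ AM.mod_pow hβd (p ^ i)
    have hδF : δ ∈ F.autGroup Q := by
      refine (mem_autGroup_iff hQS).2 ⟨((mor_kSys hUP hPW).1
        (iso_apl hQM (hδ ▸ pow_mem hβ _)).1).1, (iso_apl hQM (hδ ▸ pow_mem hβ _)).2⟩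
    obtain ⟨j, hj⟩ := AM.pow_eq_one_of_fix₂ hyp.pS (Y := Q ⊓ JJ S T U P)
      (le_inf hUQ (J_le hyp hUE hUP hPW)) inf_le_left hQS hδF hfix
      (fun x hx => (hyp.tc_of_centric hUE).diff_mem hyp.sc (iso_apl hQS hδF).1 hUQ hfix hx.1
        hx.2.2 (MM_le hUP hPW (hQM hx.1)).2)
      (fun x hx => ⟨Q.mul_mem (Q.inv_mem hx) (apl_mem δ hx), hδd x hx⟩)
    refine ⟨i + j, Subtype.ext ?_⟩
    show β ^ p ^ (i + j) = 1
    rw [pow_add, pow_mul, ← hδ, hj]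
  have hΓn : ∀ α ∈ (kSys hUP hPW F).autGroup Q, ∀ β ∈ Γ, α * β * α⁻¹ ∈ Γ := by
    rintro α hα β ⟨hβ, hβd, a, ha, hax⟩
    have hαi := iso_apl hQM hα
    obtain ⟨-, -, -, g, hg, hgf, κ, hκ, hκx⟩ := (mor_kSys hUP hPW).1 hαi.1
    obtain ⟨x₀, hx₀, -, hx₀x⟩ := mem_autInducedBy_iff.1 hκ
    have hαU : ∀ x ∈ U, apl α x = x₀ * x * x₀⁻¹ := fun x hx => by
      rw [← hgf x (hUQ hx), hκx x hx, hx₀x x hx]
    have hx₀M : x₀ ∈ MM S U P := Subgroup.mem_sup_left hx₀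
    refine ⟨mul_mem (mul_mem hα hβ) (inv_mem hα), fun y hy => ?_, x₀ * a * x₀⁻¹,
      J_normal hyp hUE hUP hPW hx₀M ha, fun y hy => ?_⟩
    · have hz : apl α⁻¹ y ∈ Q := apl_mem _ hy
      have hd := hβd _ hz
      have hdQ : (apl α⁻¹ y)⁻¹ * apl β (apl α⁻¹ y) ∈ Q :=
        Q.mul_mem (Q.inv_mem hz) (apl_mem β hz)
      have h1 := StronglyClosed.mor_mem hJ hαi.1 hdQ hd
      rw [hαi.1.map_mul (Q.inv_mem hz) (apl_mem β hz), hαi.1.map_inv hz, apl_apl_inv α hy] at h1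
      rwa [apl_mul _ _ hy, apl_mul _ _ (apl_mem _ hy)]
    · have hz : x₀⁻¹ * y * x₀ ∈ U :=
        (Subgroup.mem_normalizer_iff''.1 (hPW hx₀).2 y).1 hy
      have e : apl α⁻¹ y = x₀⁻¹ * y * x₀ := by
        have h1 := apl_inv_apl α (hUQ hz)
        rw [hαU _ hz, show x₀ * (x₀⁻¹ * y * x₀) * x₀⁻¹ = y by group] at h1
        exact h1
      rw [apl_mul _ _ (hUQ hy), apl_mul _ _ (apl_mem _ (hUQ hy)), e, hax _ hz,
        hαU _ (hJU a ha _ hz)]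
      group
  refine ⟨le_of_normalizer_le (hyp.pS.to_le (MM_le_S hUP hPW))
    (kSys_sat hUP hPW hyp.pS hyp.sat hn) hJ hQM fun a ha han => ?_,
    fun β hβ hd hfix => ?_⟩
  · refine mem_of_normal_pGroup hc hr (inf_le_left (a := MM S U P) ha) han hΓle hΓp hΓn
      fun γ hγ hγx => ⟨hγ, fun x hx => ?_, a, ha, fun x hx => hγx x (hUQ hx)⟩
    rw [hγx x hx, show x⁻¹ * (a * x * a⁻¹) = x⁻¹ * a * x * a⁻¹ by group]
    have h1 := J_normal hyp hUE hUP hPW (inv_mem (hQM hx)) ha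
    rw [inv_inv] at h1
    exact mul_mem h1 (inv_mem ha)
  · have hβΓ : β ∈ Γ := ⟨hβ, hd, 1, one_mem _, fun x hx => by rw [hfix x hx]; group⟩
    have hn' : (Γ.subgroupOf ((kSys hUP hPW F).autGroup Q)).Normal :=
      ⟨fun x hx y => hΓn y y.2 x hx⟩
    have h1 : (⟨β, hβ⟩ : (kSys hUP hPW F).autGroup Q) ∈
        pCore p ((kSys hUP hPW F).autGroup Q) :=
      Cfsg.Agent.Core.le_pCore (hN := hn') hΓp.comap_subtype hβΓ
    exact hr.2 ▸ Subgroup.mem_map.2 ⟨_, h1, rfl⟩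

theorem gen_half {Q : Subgroup Ω} (hUQ : U ≤ Q) (hJQ : JJ S T U P ≤ Q)
    (hc : (kSys hUP hPW F).IsCentric Q) (hr : (kSys hUP hPW F).IsRadical p Q) {γ : MulAut Q}
    (hγ : γ ∈ (kSys hUP hPW F).autGroup Q) {h : l.G} (hh : HM l P h) :
    ∃ h', HM l P h' ∧ ∀ x ∈ Q, apl γ (l.cj h x) = l.cj h' (apl γ x) := by
  haveI := finite_MM hyp hUE hUP hPW hn
  have hQM : Q ≤ MM S U P := hc.1
  have hQW : Q ≤ normalizerIn S U := hQM.trans (MM_le hUP hPW)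
  have hQS : Q ≤ S := hQW.trans inf_le_left
  have hUS : U ≤ S := hn.1
  haveI := finite_of_le hQS
  haveI : Finite (MulAut Q) := Finite.of_injective _ MulEquiv.toEquiv_injective
  have hγi := iso_apl hQM hγ
  obtain ⟨hγm, -, -, g, hg, hgf, κ, hκ, hκx⟩ := (mor_kSys hUP hPW).1 hγi.1
  have hγF : γ ∈ F.autGroup Q := (mem_autGroup_iff hQS).2 ⟨hγm, hγi.2⟩
  obtain ⟨x₀, hx₀, -, hx₀x⟩ := mem_autInducedBy_iff.1 hκ
  have hγU : ∀ x ∈ U, apl γ x = x₀ * x * x₀⁻¹ := fun x hx => by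
    rw [← hgf x (hUQ hx), hκx x hx, hx₀x x hx]
  have hx₀M : x₀ ∈ MM S U P := Subgroup.mem_sup_left hx₀
  obtain ⟨h₁, hh₁⟩ : ∃ h₁, h₁ = l.e x₀ * h * (l.e x₀)⁻¹ := ⟨_, rfl⟩
  have hh₁M : HM l P h₁ := hh₁ ▸ HM_conj hyp l hUE hUP hPW hx₀M hh
  obtain ⟨β, hβ, hβx, hβo⟩ := l.exists_aut_cj hQW (fun x hx => (hh.2.2 x (hQM hx)).1)
    (fun x hx => HM_stable hyp l hUE hUP hPW hQM hJQ hh hx)
  obtain ⟨β₁, hβ₁, hβ₁x, hβ₁o⟩ := l.exists_aut_cj hQW (fun x hx => (hh₁M.2.2 x (hQM hx)).1)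
    (fun x hx => HM_stable hyp l hUE hUP hPW hQM hJQ hh₁M hx)
  obtain ⟨β', hβ'⟩ : ∃ β', β' = γ * β * γ⁻¹ := ⟨_, rfl⟩
  obtain ⟨δ, hδ⟩ : ∃ δ, δ = β' * β₁⁻¹ := ⟨_, rfl⟩
  have hδF : δ ∈ F.autGroup Q :=
    hδ ▸ hβ' ▸ mul_mem (mul_mem (mul_mem hγF hβ) (inv_mem hγF)) (inv_mem hβ₁)
  have hJ := J_sc hyp hUE hUP hPW
  -- `β'` is trivial modulo `J`
  have hβ'd : ∀ x ∈ Q, x⁻¹ * apl β' x ∈ JJ S T U P := by
    intro x hx
    have hz := apl_mem γ⁻¹ hx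
    have hd : (apl γ⁻¹ x)⁻¹ * apl β (apl γ⁻¹ x) ∈ JJ S T U P := by
      rw [hβx _ hz]; exact (hh.2.2 _ (hQM hz)).2.2
    have h1 := StronglyClosed.mor_mem hJ hγi.1 (Q.mul_mem (Q.inv_mem hz) (apl_mem β hz)) hd
    rw [hγi.1.map_mul (Q.inv_mem hz) (apl_mem β hz), hγi.1.map_inv hz, apl_apl_inv γ hx] at h1
    rwa [hβ', apl_mul _ _ hx, apl_mul _ _ hz]
  have hδd : ∀ x ∈ Q, x⁻¹ * apl δ x ∈ JJ S T U P := by
    intro x hx
    have hz := apl_mem β₁⁻¹ hx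
    have h1 := (hh₁M.2.2 _ (hQM hz)).2.2
    rw [← hβ₁x _ hz, apl_apl_inv β₁ hx] at h1
    rw [hδ, apl_mul _ _ hx]
    have h2 := mul_mem (inv_mem h1) (hβ'd _ hz)
    rwa [mul_inv_rev, inv_inv, mul_assoc, mul_inv_cancel_left] at h2
  have hfix : ∀ x ∈ U, apl δ x = x := by
    intro x hx
    have hz : apl β₁⁻¹ x ∈ U := by
      obtain ⟨y, hy, hyx⟩ : ∃ y ∈ U, l.cj h₁ y = x := by
        obtain ⟨hm, hy⟩ := l.moves_U hUS h₁⁻¹ hx
        exact ⟨_, hy, by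
          have h2 := l.cj_inv_cj (hQW (hUQ hx)) hm
          rw [inv_inv] at h2
          exact h2.2⟩
      rw [← hyx, ← hβ₁x y (hUQ hy), apl_inv_apl β₁ (hUQ hy)]
      exact hy
    obtain ⟨z, hzU, rfl⟩ : ∃ z ∈ U, apl β₁ z = x :=
      ⟨_, hz, apl_apl_inv β₁ (hUQ hx)⟩
    rw [hδ, apl_mul _ _ (apl_mem β₁ (hUQ hzU)), apl_inv_apl β₁ (hUQ hzU), hβ',
      apl_mul _ _ (hUQ hzU), apl_mul _ _ (apl_mem _ (hUQ hzU))]
    have hw : x₀⁻¹ * z * x₀ ∈ U :=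
      (Subgroup.mem_normalizer_iff''.1 (hPW hx₀).2 z).1 hzU
    have e : apl γ⁻¹ z = x₀⁻¹ * z * x₀ := by
      have h1 := apl_inv_apl γ (hUQ hw)
      rw [hγU _ hw, show x₀ * (x₀⁻¹ * z * x₀) * x₀⁻¹ = z by group] at h1
      exact h1
    obtain ⟨hm, hmU⟩ := l.moves_U hUS h hw
    rw [e, hβx _ (hUQ hw), hγU _ hmU, hβ₁x z (hUQ hzU)]
    have h3 := (l.cj_conj (hPW hx₀) (U_le' hUS hw) hm).2
    rw [← hh₁, show x₀ * (x₀⁻¹ * z * x₀) * x₀⁻¹ = z by group] at h3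
    exact h3.symm
  have hδN : δ ∈ (kSys hUP hPW F).autGroup Q := by
    have hi := iso_apl hQS hδF
    refine (mem_autGroup_iff hQM).2 ⟨(mor_kSys hUP hPW).2 ⟨hi.1, hQM,
      fun x hx => hQM (apl_mem δ hx), apl δ, hi.1.mono (sup_le le_rfl hUQ), fun _ _ => rfl,
      1, one_mem _, fun x hx => by rw [hfix x hx, apl_one hx]⟩, hi.2⟩
  obtain ⟨q, hq, hqn, hqx⟩ := mem_autInducedBy_iff.1
    (inn_eq_autInducedBy.le ((inner_of_mod hyp hUE hUP hPW hn hUQ hc hr).2 δ hδN hδd hfix))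
  have hqC : q ∈ centralizerIn Q U := AM.mem_centralizerIn hq fun x hx => by
    rw [← hqx x (hUQ hx), hfix x hx]
  -- conjugate in the `p`-group induced by the centralizer of `U`
  obtain ⟨N₀, hN₀⟩ : ∃ N₀, N₀ = autInducedBy (centralizerIn Q U) Q := ⟨_, rfl⟩
  have hN₀p : IsPGroup p N₀ :=
    hN₀ ▸ isPGroup_autInducedBy (hyp.pS.to_le (inf_le_left.trans hQS))
  have hnorm : β₁ ∈ Subgroup.normalizer (N₀ : Set (MulAut Q)) := by
    refine mem_normalizer_of_conj_mem fun ν hν => ?_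
    rw [hN₀] at hν ⊢
    obtain ⟨c, hc', -, hcx⟩ := mem_autInducedBy_iff.1 hν
    refine mem_autInducedBy_iff.2 ⟨apl β₁ c, ?_, Subgroup.le_normalizer (apl_mem β₁ hc'.1),
      fun x hx => ?_⟩
    · refine AM.mem_centralizerIn (apl_mem β₁ hc'.1) fun y hy => ?_
      obtain ⟨w, hw, rfl⟩ : ∃ w ∈ U, l.cj h₁ w = y := by
        obtain ⟨hm, hy'⟩ := l.moves_U hUS h₁⁻¹ hy
        refine ⟨_, hy', ?_⟩
        have h2 := l.cj_inv_cj (hQW (hUQ hy)) hm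
        rw [inv_inv] at h2
        exact h2.2
      rw [← hβ₁x w (hUQ hw), ← (iso_apl hQS hβ₁).1.map_conj hc'.1 (hUQ hw),
        AM.comm_of_mem hc' hw]
    · have hz := apl_mem β₁⁻¹ hx
      rw [apl_mul _ _ hx, apl_mul _ _ hz, hcx _ hz,
        (iso_apl hQS hβ₁).1.map_conj hc'.1 hz, apl_apl_inv β₁ hx]
  have hδN₀ : β' * β₁⁻¹ ∈ N₀ := hδ ▸ hN₀ ▸ mem_autInducedBy_iff.2 ⟨q, hqC, hqn, hqx⟩
  obtain ⟨ν, hν, hνe⟩ := exists_conj_coprime hN₀p hnorm hδN₀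
    (Nat.Coprime.coprime_dvd_left hβ₁o hh₁M.2.1)
    (Nat.Coprime.coprime_dvd_left (by
      rw [hβ', show orderOf (γ * β * γ⁻¹) = orderOf β from (MulAut.conj γ).orderOf_eq β]
      exact hβo) hh.2.1)
  obtain ⟨c, hc', -, hcx⟩ := mem_autInducedBy_iff.1 (hN₀ ▸ hν)
  refine ⟨_, HM_conj hyp l hUE hUP hPW (hQM hc'.1) hh₁M, fun x hx => ?_⟩
  have hy := apl_mem γ hx
  have hz : c⁻¹ * apl γ x * c ∈ Q := Q.mul_mem (Q.mul_mem (Q.inv_mem hc'.1) hy) hc'.1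
  have e : apl ν⁻¹ (apl γ x) = c⁻¹ * apl γ x * c := by
    have h1 := apl_inv_apl ν hz
    rw [hcx _ hz, show c * (c⁻¹ * apl γ x * c) * c⁻¹ = apl γ x by group] at h1
    exact h1
  have h2 := (l.cj_conj (hQW hc'.1) (hQW hz) (hh₁M.2.2 _ (hQM hz)).1).2
  rw [show c * (c⁻¹ * apl γ x * c) * c⁻¹ = apl γ x by group] at h2
  rw [h2, ← hβ₁x _ hz, ← hcx _ (apl_mem β₁ hz), ← e, ← apl_mul _ _ (apl_mem _ hy),
    ← apl_mul _ _ hy, hνe, hβ', apl_mul _ _ hy, apl_inv_apl γ hx, apl_mul _ _ hx, hβx x hx]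
where
  U_le' {U : Subgroup Ω} (hUS : U ≤ S) {x : Ω} (hx : x ∈ U) : x ∈ normalizerIn S U :=
    le_normalizerIn hUS hx

theorem RR_gen {Q : Subgroup Ω} (hUQ : U ≤ Q) (hJQ : JJ S T U P ≤ Q)
    (hc : (kSys hUP hPW F).IsCentric Q) (hr : (kSys hUP hPW F).IsRadical p Q) {γ : MulAut Q}
    (hγ : γ ∈ (kSys hUP hPW F).autGroup Q) : RR (kSys hUP hPW F) l P Q (apl γ) := by
  haveI := finite_MM hyp hUE hUP hPW hn
  refine ⟨hc.1, fun x hx => hc.1 (apl_mem γ hx), apl γ,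
    (iso_apl hc.1 hγ).1.mono (sup_le le_rfl hJQ), fun _ _ => rfl,
    fun h hh => ?_, fun h hh => ?_⟩
  · obtain ⟨h', hh', hx⟩ := gen_half hyp l hUE hUP hPW hn hUQ hJQ hc hr hγ hh
    exact ⟨h', hh', fun x hx' => hx x (sup_le le_rfl hJQ hx')⟩
  · obtain ⟨h', hh', hx⟩ := gen_half hyp l hUE hUP hPW hn hUQ hJQ hc hr (inv_mem hγ) hh
    refine ⟨h', hh', fun x hx' => ?_⟩
    have hxQ : x ∈ Q := sup_le le_rfl hJQ hx'
    have h1 := hx _ (apl_mem γ hxQ)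
    rw [apl_inv_apl γ hxQ] at h1
    rw [← h1, apl_apl_inv γ (HM_stable hyp l hUE hUP hPW hc.1 hJQ hh (apl_mem γ hxQ))]

/-- All maps of the system commute with the action. -/
theorem rr_all {X : Subgroup Ω} {f : Ω → Ω} (hf : Mor (kSys hUP hPW F) X f) :
    RR (kSys hUP hPW F) l P X f := by
  haveI := finite_MM hyp hUE hUP hPW hn
  have hp := hyp.pS.to_le (MM_le_S hUP hPW)
  have hsat := kSys_sat hUP hPW hyp.pS hyp.sat hn
  refine alperin_induction hp hsat (subRel_RR hyp l hUE hUP hPW hn) (fun R hR γ hγ => ?_) X f hf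
  have hUn := U_normal hUP hPW (F := F) hn.1
  obtain ⟨hUR, hc, hr⟩ : U ≤ R ∧ (kSys hUP hPW F).IsCentric R ∧
      (kSys hUP hPW F).IsRadical p R := by
    rcases hR with rfl | hR
    · exact ⟨le_MM hUP hPW, centric_top _, radical_MM hyp hUE hUP hPW hn⟩
    · have hr := essential_radical hp hsat hR
      exact ⟨le_of_normal_centric_radical hp hUn hR.1 hr, hR.1, hr⟩
  exact RR_gen hyp l hUE hUP hPW hn hUR (inner_of_mod hyp hUE hUP hPW hn hUR hc hr).1 hc hr hγ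

end

end Cfsg.Agent.FusSys.ProdS
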